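import Mathlib

/-! Counting derangements by the first two moments of the fixed point character. -/
set_option autoImplicit false

namespace CfsgLib.Maximal

open MulAction

variable {G Ω : Type*} [Group G] [Fintype G] [MulAction G Ω]

/-- Burnside's lemma with `Nat.card`. -/
lemma sum_natCard_fixedBy [Finite Ω] :
    ∑ g : G, Nat.card (fixedBy Ω g) = Nat.card (Quotient (orbitRel G Ω)) * Fintype.card G := by
  classical
  have := Fintype.ofFinite Ω
  simp only [Nat.card_eq_fintype_card]
  exact sum_card_fixedBy_eq_card_orbits_mul_card_group G Ω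

lemma sum_natCard_fixedBy_of_transitive [Finite Ω] [Nonempty Ω] (htr : IsPretransitive G Ω) :
    ∑ g : G, Nat.card (fixedBy Ω g) = Fintype.card G := by
  rw [sum_natCard_fixedBy]
  have : Nat.card (Quotient (orbitRel G Ω)) = 1 := by
    rw [Nat.card_eq_one_iff_unique]
    exact ⟨(pretransitive_iff_subsingleton_quotient G Ω).mp htr, ‹Nonempty Ω›.map (Quotient.mk _)⟩
  rw [this, one_mul]

lemma sum_sq_natCard_fixedBy [Finite Ω] :
    ∑ g : G, Nat.card (fixedBy Ω g) ^ 2 =
      Nat.card (Quotient (orbitRel G (Ω × Ω))) * Fintype.card G := by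
  rw [← sum_natCard_fixedBy]
  refine Finset.sum_congr rfl fun g _ => ?_
  rw [sq, ← Nat.card_prod]
  exact Nat.card_congr
    { toFun := fun x => ⟨(x.1.1, x.2.1), Prod.ext x.1.2 x.2.2⟩
      invFun := fun x => (⟨x.1.1, congrArg Prod.fst x.2⟩, ⟨x.1.2, congrArg Prod.snd x.2⟩)
      left_inv := fun _ => rfl
      right_inv := fun _ => rfl }

omit [Fintype G] in
/-- The rank is at least two. -/
lemma two_le_rank [Finite Ω] [Nontrivial Ω] : 2 ≤ Nat.card (Quotient (orbitRel G (Ω × Ω))) := by
  obtain ⟨a, b, hab⟩ := exists_pair_ne Ω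
  have h : (Quotient.mk (orbitRel G (Ω × Ω)) (a, a)) ≠ Quotient.mk _ (a, b) := by
    intro h
    obtain ⟨g, hg⟩ := (orbitRel_apply.mp (Quotient.exact h))
    have h1 : g • a = a := congrArg Prod.fst hg
    have h2 : g • b = a := congrArg Prod.snd hg
    exact hab (smul_left_cancel g (h1.trans h2.symm))
  have : Nontrivial (Quotient (orbitRel G (Ω × Ω))) := ⟨_, _, h⟩
  exact Finite.one_lt_card

/-- The derangement count identity: n D = (r-1)|G| + Σ (f-1)(n-f) over elements with fixed points. -/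
lemma derangement_identity [Finite Ω] [Nonempty Ω] (htr : IsPretransitive G Ω) :
    (Nat.card Ω : ℤ) * Nat.card {g : G // ∀ ω : Ω, g • ω ≠ ω} =
      ((Nat.card (Quotient (orbitRel G (Ω × Ω))) : ℤ) - 1) * Nat.card G +
        ∑ g : G, if Nat.card (fixedBy Ω g) = 0 then (0 : ℤ)
          else ((Nat.card (fixedBy Ω g) : ℤ) - 1) * ((Nat.card Ω : ℤ) - Nat.card (fixedBy Ω g)) := by
  classical
  set n : ℤ := (Nat.card Ω : ℤ) with hn
  set f : G → ℤ := fun g => (Nat.card (fixedBy Ω g) : ℤ) with hf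
  have h0 : ∀ g : G, Nat.card (fixedBy Ω g) = 0 ↔ ∀ ω : Ω, g • ω ≠ ω := fun g => by
    rw [Finite.card_eq_zero_iff, isEmpty_subtype]
    exact Iff.rfl
  have hD : (Nat.card {g : G // ∀ ω : Ω, g • ω ≠ ω} : ℤ) =
      ∑ g : G, if Nat.card (fixedBy Ω g) = 0 then (1 : ℤ) else 0 := by
    rw [Nat.card_eq_fintype_card, Fintype.card_subtype, Finset.card_eq_sum_ones, Nat.cast_sum,
      Finset.sum_filter]
    refine Finset.sum_congr rfl fun g _ => ?_
    simp only [h0, Nat.cast_one]
  have hA : ∑ g : G, (f g - 1) * (f g - n) =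
      ((Nat.card (Quotient (orbitRel G (Ω × Ω))) : ℤ) - 1) * Nat.card G := by
    have e1 : ∑ g : G, f g = (Fintype.card G : ℤ) := by
      simp only [hf]; exact_mod_cast sum_natCard_fixedBy_of_transitive (Ω := Ω) htr
    have e2 : ∑ g : G, f g ^ 2 =
        (Nat.card (Quotient (orbitRel G (Ω × Ω))) : ℤ) * Fintype.card G := by
      simp only [hf]; exact_mod_cast sum_sq_natCard_fixedBy (Ω := Ω)
    calc ∑ g : G, (f g - 1) * (f g - n)
        = ∑ g : G, f g ^ 2 - (n + 1) * ∑ g : G, f g + ∑ _g : G, n := by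
          rw [Finset.mul_sum, ← Finset.sum_sub_distrib, ← Finset.sum_add_distrib]
          exact Finset.sum_congr rfl fun g _ => by ring
      _ = _ := by
          rw [e1, e2, Finset.sum_const, Finset.card_univ, nsmul_eq_mul, Nat.card_eq_fintype_card (α := G)]
          ring
  rw [hD, ← hA, ← Finset.sum_add_distrib, Finset.mul_sum]
  refine Finset.sum_congr rfl fun g _ => ?_
  simp only [hf]
  split_ifs with h
  · rw [h]; simp
  · ring

/-- Cameron–Cohen: the derangement bound, with the equality case. -/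
theorem derangement_gt_inverse_degree [Finite Ω] [FaithfulSMul G Ω] (htr : IsPretransitive G Ω)
    (hn : 3 ≤ Nat.card Ω) :
    ((∃ g : G, g ≠ 1 ∧ ∃ ω : Ω, g • ω = ω) ∧
      (∀ g : G, g ≠ 1 → Nat.card (fixedBy Ω g) ≤ 1) ∧
      Nat.card G = Nat.card Ω * (Nat.card Ω - 1) ∧
      Nat.card Ω * Nat.card {g : G // ∀ ω : Ω, g • ω ≠ ω} = Nat.card G) ∨
    Nat.card G < Nat.card Ω * Nat.card {g : G // ∀ ω : Ω, g • ω ≠ ω} := by
  classical
  have : Nontrivial Ω := Finite.one_lt_card_iff_nontrivial.mp (by omega)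
  have hr := two_le_rank (G := G) (Ω := Ω)
  have hid := derangement_identity (G := G) (Ω := Ω) htr
  set r := Nat.card (Quotient (orbitRel G (Ω × Ω))) with hrdef
  set D := Nat.card {g : G // ∀ ω : Ω, g • ω ≠ ω}
  set T : G → ℤ := fun g => if Nat.card (fixedBy Ω g) = 0 then (0 : ℤ)
      else ((Nat.card (fixedBy Ω g) : ℤ) - 1) * ((Nat.card Ω : ℤ) - Nat.card (fixedBy Ω g)) with hT
  have hle : ∀ g : G, Nat.card (fixedBy Ω g) ≤ Nat.card Ω := fun g => Finite.card_subtype_le _
  have hnn : ∀ g : G, 0 ≤ T g := by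
    intro g; simp only [hT]
    split_ifs with h
    · exact le_rfl
    · apply mul_nonneg <;> [skip; skip] <;> (have := hle g; omega)
  have hG : 0 < Nat.card G := Nat.card_pos
  have hsum : 0 ≤ ∑ g, T g := Finset.sum_nonneg fun g _ => hnn g
  by_cases hlt : Nat.card G < Nat.card Ω * D
  · exact Or.inr hlt
  have hge : (Nat.card Ω : ℤ) * D ≤ Nat.card G := by exact_mod_cast not_lt.mp hlt
  have hr2 : r = 2 := by
    by_contra h
    have h3 : (3 : ℤ) ≤ r := by omega
    have hGpos : (0 : ℤ) < Nat.card G := by exact_mod_cast hG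
    nlinarith
  have hzero : ∀ g, T g = 0 := by
    have hs : ∑ g, T g = 0 := by
      rw [hr2] at hid; push_cast at hid; linarith
    exact fun g => (Finset.sum_eq_zero_iff_of_nonneg fun g _ => hnn g).mp hs g (Finset.mem_univ g)
  have hfix : ∀ g : G, g ≠ 1 → Nat.card (fixedBy Ω g) ≤ 1 := by
    intro g hg
    have hn' : Nat.card (fixedBy Ω g) ≠ Nat.card Ω := by
      intro h
      refine hg (FaithfulSMul.eq_of_smul_eq_smul (α := Ω) fun x => ?_)
      rw [one_smul]
      have huniv : fixedBy Ω g = Set.univ := by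
        rw [Nat.card_coe_set_eq, ← Set.ncard_univ] at h
        exact Set.eq_of_subset_of_ncard_le (Set.subset_univ _) h.ge (Set.toFinite _)
      exact (huniv ▸ Set.mem_univ x : x ∈ fixedBy Ω g)
    have h := hzero g
    simp only [hT] at h
    split_ifs at h with h'
    · omega
    · rcases mul_eq_zero.mp h with h1 | h1 <;> omega
  have h1 : Nat.card (fixedBy Ω (1 : G)) = Nat.card Ω :=
    Nat.card_congr (Equiv.subtypeUnivEquiv (fun ω => one_smul _ ω))
  have hgap : ∑ g : G, Nat.card (fixedBy Ω g) ^ 2 + Nat.card Ω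
      = ∑ g : G, Nat.card (fixedBy Ω g) + Nat.card Ω ^ 2 := by
    rw [← Finset.add_sum_erase _ _ (Finset.mem_univ (1 : G)), ← Finset.add_sum_erase _ _ (Finset.mem_univ (1 : G)), h1]
    have : ∀ g ∈ Finset.univ.erase (1 : G), Nat.card (fixedBy Ω g) ^ 2 = Nat.card (fixedBy Ω g) := by
      intro g hg
      have := hfix g (Finset.ne_of_mem_erase hg)
      interval_cases (Nat.card (fixedBy Ω g)) <;> rfl
    rw [Finset.sum_congr rfl this]
    ring
  rw [sum_sq_natCard_fixedBy, sum_natCard_fixedBy_of_transitive htr, ← hrdef, hr2,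
    ← Nat.card_eq_fintype_card] at hgap
  have hord : Nat.card G = Nat.card Ω * (Nat.card Ω - 1) := by
    rw [Nat.mul_sub_one, ← sq]; omega
  have hDeq : Nat.card Ω * D = Nat.card G := by
    have : (Nat.card Ω : ℤ) * D = Nat.card G := by
      rw [hid, Finset.sum_eq_zero fun g _ => hzero g, hr2]; push_cast; ring
    exact_mod_cast this
  refine Or.inl ⟨?_, hfix, hord, hDeq⟩
  by_contra hne
  push Not at hne
  -- otherwise the action is regular, and its order is the degree
  obtain ⟨ω⟩ : Nonempty Ω := inferInstance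
  have hs : stabilizer G ω = ⊥ := by
    rw [Subgroup.eq_bot_iff_forall]
    exact fun g hg => by_contra fun h => hne g h ω hg
  have := index_stabilizer_of_transitive G ω
  rw [hs, Subgroup.index_bot, hord] at this
  have h2 : Nat.card Ω * 1 = Nat.card Ω * (Nat.card Ω - 1) := by omega
  have := Nat.eq_of_mul_eq_mul_left (by omega) h2
  omega

end CfsgLib.Maximal
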