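import Mathlib

/-! Derangements of prime order in transitive groups. -/
set_option autoImplicit false

namespace CfsgLib.Maximal

open MulAction

variable {G Ω : Type*} [Group G] [Finite G] [MulAction G Ω] [FaithfulSMul G Ω] [Finite Ω]

omit [FaithfulSMul G Ω] in
/-- The orbits of a Sylow subgroup of a transitive group have size divisible by the p-part of the degree. -/
lemma sylow_orbit_dvd (htr : IsPretransitive G Ω) {p k : ℕ} [Fact p.Prime]
    (hΩ : p ^ k ∣ Nat.card Ω) (P : Sylow p G) (ω : Ω) :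
    p ^ k ∣ Nat.card (orbit (P : Subgroup G) ω) := by
  have hG : Nat.card G = Nat.card Ω * Nat.card (stabilizer G ω) := by
    rw [← Subgroup.index_mul_card (stabilizer G ω), MulAction.index_stabilizer_of_transitive]
  have horb : Nat.card (orbit (P : Subgroup G) ω) * Nat.card (stabilizer (P : Subgroup G) ω)
      = Nat.card (P : Subgroup G) := by
    rw [← Nat.card_prod]
    exact Nat.card_congr (orbitProdStabilizerEquivGroup _ ω)
  obtain ⟨j, hj⟩ := P.2.card_orbit ω
  obtain ⟨l, hl⟩ := IsPGroup.iff_card.mp (P.2.to_subgroup (stabilizer (P : Subgroup G) ω))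
  have hdvd : Nat.card (stabilizer (P : Subgroup G) ω) ∣ Nat.card (stabilizer G ω) := by
    let f : stabilizer (P : Subgroup G) ω →* stabilizer G ω :=
      { toFun := fun x => ⟨((x : (P : Subgroup G)) : G), x.2⟩
        map_one' := rfl
        map_mul' := fun _ _ => rfl }
    exact Subgroup.card_dvd_of_injective f (fun x y h => Subtype.ext (Subtype.ext (congrArg (fun z : stabilizer G ω => (z : G)) h)))
  have h1 : p ^ k * p ^ l ∣ Nat.card G := by
    rw [hG]; exact Nat.mul_dvd_mul hΩ (hl ▸ hdvd)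
  have h2 : Nat.card G = p ^ (j + l) * (P : Subgroup G).index := by
    rw [pow_add, ← hj, ← hl, horb, Subgroup.card_mul_index]
  rw [h2, ← pow_add] at h1
  have hnd : ¬ p ∣ (P : Subgroup G).index := P.not_dvd_index
  have h3 : p ^ (k + l) ∣ p ^ (j + l) :=
    (Nat.Coprime.pow_left _ ((Fact.out : p.Prime).coprime_iff_not_dvd.mpr hnd)).dvd_of_dvd_mul_right h1
  have h4 : k + l ≤ j + l := (Nat.pow_dvd_pow_iff_le_right (Fact.out : p.Prime).one_lt).mp h3
  rw [hj]
  exact pow_dvd_pow p (by omega)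

omit [Finite Ω] in
/-- A transitive nontrivial p-subgroup contains a derangement of order p. -/
lemma exists_derangement_of_transitive (p : ℕ) [Fact p.Prime] (P : Subgroup G) (hP : IsPGroup p P)
    (htr : ∀ a b : Ω, ∃ g : P, g • a = b) [Nontrivial Ω] :
    ∃ g : G, orderOf g = p ∧ ∀ ω : Ω, g • ω ≠ ω := by
  obtain ⟨a, b, hab⟩ := exists_pair_ne Ω
  have hne : Nontrivial P := by
    obtain ⟨g, hg⟩ := htr a b
    exact ⟨⟨g, 1, fun h => hab (by rw [← hg, h, one_smul])⟩⟩
  have hZ := hP.center_nontrivial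
  have hZp : IsPGroup p (Subgroup.center P) := hP.to_subgroup _
  obtain ⟨n, hn0, hn⟩ : ∃ n, 0 < n ∧ Nat.card (Subgroup.center P) = p ^ n := by
    obtain ⟨n, hn⟩ := IsPGroup.iff_card.mp hZp
    refine ⟨n, Nat.pos_of_ne_zero fun h => ?_, hn⟩
    rw [h, pow_zero] at hn
    exact (Finite.one_lt_card).ne' hn
  obtain ⟨z, hz⟩ := exists_prime_orderOf_dvd_card' (G := Subgroup.center P) p (hn ▸ dvd_pow_self p hn0.ne')
  refine ⟨((z : P) : G), by rw [Subgroup.orderOf_coe, Subgroup.orderOf_coe, hz], fun ω hω => ?_⟩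
  have hz1 : ((z : P) : G) = 1 := by
    refine FaithfulSMul.eq_of_smul_eq_smul (α := Ω) fun x => ?_
    obtain ⟨g, rfl⟩ := htr ω x
    have hc : (g : P) * (z : P) = (z : P) * g := Subgroup.mem_center_iff.mp z.2 g
    rw [one_smul]
    show (z : P) • (g • ω) = g • ω
    rw [smul_smul, ← hc, mul_smul]
    exact congrArg (g • ·) hω
  have : orderOf z = 1 := by
    rw [orderOf_eq_one_iff]; exact Subtype.ext (Subtype.ext hz1)
  exact (Fact.out : p.Prime).ne_one (hz ▸ this)

omit [Finite Ω] in
/-- A transitive group of prime-power degree has a derangement of prime order. -/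
theorem exists_derangement_prime_pow (htr : IsPretransitive G Ω) (p k : ℕ) [Fact p.Prime] (hk : 1 ≤ k)
    (hΩ : Nat.card Ω = p ^ k) : ∃ g : G, orderOf g = p ∧ ∀ ω : Ω, g • ω ≠ ω := by
  have hpos : 1 < Nat.card Ω := hΩ ▸ Nat.one_lt_pow (by omega) (Fact.out : p.Prime).one_lt
  have : Finite Ω := Nat.finite_of_card_ne_zero (by omega)
  have : Nontrivial Ω := Finite.one_lt_card_iff_nontrivial.mp hpos
  obtain ⟨P⟩ := (Sylow.nonempty : Nonempty (Sylow p G))
  refine exists_derangement_of_transitive p P P.2 fun a b => ?_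
  have h1 : Nat.card Ω ≤ Nat.card (orbit (P : Subgroup G) a) := by
    rw [hΩ]
    exact Nat.le_of_dvd (Nat.pos_of_ne_zero (by
      have : Nonempty (orbit (P : Subgroup G) a) := ⟨⟨a, mem_orbit_self a⟩⟩
      exact Nat.card_pos.ne')) (sylow_orbit_dvd htr (hΩ ▸ dvd_rfl) P a)
  have h2 : orbit (P : Subgroup G) a = Set.univ := by
    refine Set.eq_univ_of_forall fun x => ?_
    by_contra hx
    have := Set.ncard_lt_card (s := orbit (P : Subgroup G) a) (fun h => hx (h ▸ Set.mem_univ x))
    rw [← Nat.card_coe_set_eq] at this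
    omega
  exact mem_orbit_iff.mp (h2 ▸ Set.mem_univ b)

/-- A transitive group of degree m*p with m ≤ p has a derangement of order p. -/
theorem exists_derangement_mul_prime (htr : IsPretransitive G Ω) (p m : ℕ) [hp : Fact p.Prime] (hm : 1 ≤ m)
    (hmp : m ≤ p) (hΩ : Nat.card Ω = m * p) : ∃ g : G, orderOf g = p ∧ ∀ ω : Ω, g • ω ≠ ω := by
  classical
  rcases eq_or_lt_of_le hmp with rfl | hmlt
  · exact exists_derangement_prime_pow htr m 2 (by norm_num) (by rw [hΩ, sq])
  obtain ⟨P⟩ := (Sylow.nonempty : Nonempty (Sylow p G))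
  have := Fintype.ofFinite Ω
  have := Fintype.ofFinite (P : Subgroup G)
  have horb : ∀ a : Ω, Nat.card (orbit (P : Subgroup G) a) = p := by
    intro a
    obtain ⟨j, hj⟩ := P.2.card_orbit a
    have h1 := sylow_orbit_dvd (k := 1) htr (hΩ ▸ by rw [pow_one]; exact dvd_mul_left p m) P a
    have h2 : Nat.card (orbit (P : Subgroup G) a) ≤ m * p := hΩ ▸ Finite.card_subtype_le _
    rw [hj] at h1 h2 ⊢
    have hj1 : 1 ≤ j := (Nat.pow_dvd_pow_iff_le_right hp.out.one_lt).mp h1
    have hj2 : j < 2 := (Nat.pow_lt_pow_iff_right hp.out.one_lt).mp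
      (lt_of_le_of_lt h2 (by rw [sq]; exact Nat.mul_lt_mul_of_pos_right hmlt hp.out.pos))
    rw [show j = 1 by omega, pow_one]
  have hq : Nat.card (Quotient (orbitRel (P : Subgroup G) Ω)) * p = m * p := by
    rw [← hΩ, Nat.card_congr (selfEquivSigmaOrbits (P : Subgroup G) Ω), Nat.card_sigma]
    simp only [horb]
    rw [Finset.sum_const, Finset.card_univ, Nat.card_eq_fintype_card, smul_eq_mul]
  have hq' := Nat.eq_of_mul_eq_mul_right hp.out.pos hq
  obtain ⟨g, hg⟩ : ∃ g : (P : Subgroup G), ∀ ω : Ω, g • ω ≠ ω := by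
    by_contra hcon
    push Not at hcon
    have hfix : ∀ g : (P : Subgroup G), p ≤ Fintype.card (fixedBy Ω g) := by
      intro g
      have h := (P.2.to_subgroup (Subgroup.zpowers g)).card_modEq_card_fixedPoints Ω
      have heq : fixedPoints (Subgroup.zpowers g) Ω = fixedBy Ω g := by
        ext ω
        constructor
        · intro h'; exact h' ⟨g, Subgroup.mem_zpowers g⟩
        · intro h' x
          exact (Subgroup.zpowers_le.mpr (show g ∈ stabilizer (P : Subgroup G) ω from h')) x.2
      rw [heq, hΩ, Nat.card_eq_fintype_card (α := fixedBy Ω g)] at h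
      have hdvd : p ∣ Fintype.card (fixedBy Ω g) :=
        Nat.modEq_zero_iff_dvd.mp (h.symm.trans (Nat.modEq_zero_iff_dvd.mpr (dvd_mul_left p m)))
      obtain ⟨ω, hω⟩ := hcon g
      exact Nat.le_of_dvd (Fintype.card_pos_iff.mpr ⟨⟨ω, hω⟩⟩) hdvd
    have hb := sum_card_fixedBy_eq_card_orbits_mul_card_group (P : Subgroup G) Ω
    rw [← Nat.card_eq_fintype_card (α := Quotient (orbitRel (P : Subgroup G) Ω)), hq'] at hb
    have hone : Fintype.card (fixedBy Ω (1 : (P : Subgroup G))) = m * p := by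
      rw [← Nat.card_eq_fintype_card, ← hΩ]
      exact Nat.card_congr (Equiv.subtypeUnivEquiv (fun ω => one_smul _ ω))
    rw [← Finset.add_sum_erase Finset.univ _ (Finset.mem_univ (1 : (P : Subgroup G))), hone] at hb
    have hlow := Finset.card_nsmul_le_sum (Finset.univ.erase (1 : (P : Subgroup G)))
      (fun g => Fintype.card (fixedBy Ω g)) p (fun g _ => hfix g)
    rw [Finset.card_erase_of_mem (Finset.mem_univ _), Finset.card_univ, smul_eq_mul] at hlow
    have hP1 : 1 ≤ Fintype.card (P : Subgroup G) := Fintype.card_pos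
    obtain ⟨N, hN⟩ := Nat.exists_eq_add_of_le hP1
    rw [hN, Nat.add_sub_cancel_left] at hlow
    rw [hN] at hb
    have h2 : 2 ≤ p := hp.out.two_le
    nlinarith
  refine ⟨g, ?_, hg⟩
  have hgp : (g : G) ^ p = 1 := by
    refine FaithfulSMul.eq_of_smul_eq_smul (α := Ω) fun x => ?_
    rw [one_smul]
    obtain ⟨j, hj⟩ := (P.2.to_subgroup (Subgroup.zpowers g)).card_orbit x
    have hsub : orbit (Subgroup.zpowers g) x ⊆ orbit (P : Subgroup G) x := by
      rintro y ⟨z, rfl⟩; exact ⟨z.1, rfl⟩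
    have hle : p ^ j ≤ p ^ 1 := by
      rw [← hj, pow_one]
      refine le_trans ?_ (horb x).le
      rw [Nat.card_coe_set_eq, Nat.card_coe_set_eq]
      exact Set.ncard_le_ncard hsub (Set.toFinite _)
    have hdvd : p ^ j ∣ p := by
      simpa using pow_dvd_pow p ((Nat.pow_le_pow_iff_right hp.out.one_lt).mp hle)
    have hper : Function.minimalPeriod (g • ·) x ∣ p := by
      rw [minimalPeriod_eq_card]
      rwa [← Nat.card_eq_fintype_card, hj]
    exact (Function.isPeriodicPt_iff_minimalPeriod_dvd.mpr hper |> fun h => by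
      rw [Function.IsPeriodicPt, Function.IsFixedPt, smul_iterate] at h
      exact h)
  refine orderOf_eq_prime hgp fun h1 => ?_
  obtain ⟨ω⟩ : Nonempty Ω := Finite.card_pos_iff.mp (by rw [hΩ]; exact Nat.mul_pos hm hp.out.pos)
  exact hg ω (by show (g : G) • ω = ω; rw [h1, one_smul])

end CfsgLib.Maximal
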