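import Cfsg.Agent.Lib.Maximal.ChainLength
import Cfsg.Agent.Lib.Structure.MinimalNormal
import Cfsg.Agent.Lib.Small.Basic

/-!
The composition length of a permutation group of degree `n` with `r` orbits is at most `4/3 (n - r)`.
The proof is elementary: induction through orbits, blocks and point stabilisers.
-/

set_option autoImplicit false
set_option linter.unusedSectionVars false
set_option linter.style.haveILetI false
set_option synthInstance.maxHeartbeats 400000
set_option synthInstance.maxSize 4000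

namespace CfsgLib.Maximal.CompLengthBound

open Subgroup CfsgLib.Maximal.ChainLength CfsgLib.Structure
open scoped Pointwise commutatorElement

universe u v

/-! ### Small simple groups -/

lemma sylow_test {T : Type*} [Group T] [Finite T] [IsSimpleGroup T] (hT : ¬ IsMulCommutative T) (p k m : ℕ)
    (hp : p.Prime) (hk : k ≠ 0) (hc : Nat.card T = p ^ k * m) (hm : ¬ p ∣ m) :
    ∃ a ∈ m.divisors.filter (fun a => a % p = 1 ∧ 1 < a), 2 * Nat.card T ∣ a.factorial := by
  haveI := Fact.mk hp
  exact ⟨_, CfsgLib.Small.card_sylow_mem hT hk hc hm,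
    CfsgLib.Small.two_mul_card_dvd_factorial_card_sylow hT (hc ▸ (dvd_pow_self p hk).mul_right m)⟩

lemma card_ne_thirty {T : Type*} [Group T] [Finite T] [IsSimpleGroup T] (hT : ¬ IsMulCommutative T) :
    Nat.card T ≠ 30 := by
  intro hc
  classical
  have := Fintype.ofFinite T
  haveI : Fact (Nat.Prime 2) := ⟨Nat.prime_two⟩
  obtain ⟨x, hx⟩ := exists_prime_orderOf_dvd_card' (G := T) 2 (by rw [hc]; norm_num)
  set σ : Equiv.Perm T := MulAction.toPerm x
  have hsign := CfsgLib.Small.sign_toPerm hT (α := T) x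
  have hord : orderOf σ = 2 := by
    rw [← hx]; exact orderOf_injective (MulAction.toPermHom T T) MulAction.toPerm_injective x
  obtain ⟨a, ha⟩ := Equiv.Perm.cycleType_prime_order (σ := σ) (by rw [hord]; exact Nat.prime_two)
  have hsupp : σ.support = Finset.univ := by
    rw [Finset.eq_univ_iff_forall]
    intro y
    rw [Equiv.Perm.mem_support]
    show x * y ≠ y
    intro h
    rw [mul_eq_right] at h
    rw [h, orderOf_one] at hx
    norm_num at hx
  have h2 := Equiv.Perm.sum_cycleType σ
  rw [ha, hord, hsupp, Finset.card_univ, ← Nat.card_eq_fintype_card, hc, Multiset.sum_replicate, smul_eq_mul] at h2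
  have h3 := Equiv.Perm.sign_of_cycleType σ
  rw [ha, hord, Multiset.sum_replicate, Multiset.card_replicate, smul_eq_mul, hsign] at h3
  rw [show (a + 1) * 2 + (a + 1) = 45 by omega] at h3
  simp [pow_succ] at h3

lemma forty_one_le_card {T : Type*} [Group T] [Finite T] [IsSimpleGroup T] (hT : ¬ IsMulCommutative T) :
    41 ≤ Nat.card T := by
  by_contra hlt
  push Not at hlt
  obtain ⟨c, hc⟩ : ∃ c, c = Nat.card T := ⟨_, rfl⟩
  have h1 : 1 < c := hc ▸ Finite.one_lt_card_iff_nontrivial.2 inferInstance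
  have hnp : ¬ c.Prime := fun h => hT <| by
    haveI := Fact.mk (hc ▸ h)
    haveI : IsCyclic T := isCyclic_of_prime_card rfl
    exact ⟨⟨fun a b => IsCyclic.commGroup.mul_comm a b⟩⟩
  have h30 : c ≠ 30 := hc ▸ card_ne_thirty hT
  have key : ∀ c < 41, 1 < c → ¬ c.Prime → c ≠ 30 →
      ∃ p ∈ [2, 3, 5, 7, 11, 13, 17, 19], ∃ k < 6, Nat.Prime p ∧ k ≠ 0 ∧ c % p ^ k = 0 ∧ (c / p ^ k) % p ≠ 0 ∧
        ∀ a < c + 1, (c / p ^ k) % a = 0 → a % p = 1 → 1 < a → ¬ 2 * c ∣ a.factorial := by
    decide +kernel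
  obtain ⟨p, -, k, -, hp, hk, hd, hm, hall⟩ := key c (hc ▸ hlt) h1 hnp h30
  obtain ⟨a, ha, hdvd⟩ := sylow_test hT p k (c / p ^ k) hp hk
    (by rw [← hc, Nat.mul_div_cancel' (Nat.dvd_of_mod_eq_zero hd)])
    (fun h => hm (Nat.mod_eq_zero_of_dvd h))
  rw [Finset.mem_filter, Nat.mem_divisors] at ha
  exact hall a (Nat.lt_succ_of_le ((Nat.le_of_dvd (Nat.pos_of_ne_zero ha.1.2) ha.1.1).trans (Nat.div_le_self _ _)))
    (Nat.mod_eq_zero_of_dvd ha.1.1) ha.2.1 ha.2.2 (hc ▸ hdvd)

/-! ### Arithmetic -/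

lemma lt_of_two_pow_le {a b n : ℕ} (h : 2 ^ a ≤ n) (hn : n < 2 ^ b) : a < b :=
  (Nat.pow_lt_pow_iff_right (show 1 < 2 by norm_num)).1 (h.trans_lt hn)

lemma arith_large (L : ℕ) (hL : 8 ≤ L) : 3 * ((2 * L + 1) + (2 * L + 2) * (2 * L + 1)) ≤ 4 * (2 ^ L - 1) := by
  have h : 3 * ((2 * L + 1) + (2 * L + 2) * (2 * L + 1)) + 4 ≤ 4 * 2 ^ L := by
    induction L, hL using Nat.le_induction with
    | base => norm_num
    | succ L hL ih => rw [pow_succ]; nlinarith
  omega

lemma arith_mid (L : ℕ) (hL : 5 ≤ L) : 3 * (L + (L + 1) * L) ≤ 4 * (2 ^ L - 1) := by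
  have h : 3 * (L + (L + 1) * L) + 4 ≤ 4 * 2 ^ L := by
    induction L, hL using Nat.le_induction with
    | base => norm_num
    | succ L hL ih => rw [pow_succ]; nlinarith
  omega

lemma cardFactors_le_of_dvd {e : ℕ} :
    (e ∣ 5040 → e ≤ 210 → ArithmeticFunction.cardFactors e ≤ 6) ∧
    (e ∣ 40320 → e ≤ 336 → ArithmeticFunction.cardFactors e ≤ 8) := by
  have main : ∀ A : ℕ, A ≤ 7 → e ∣ 2 ^ A * (3 ^ 2 * (5 ^ 1 * 7 ^ 1)) →
      ∃ a b c d, a ≤ A ∧ b ≤ 2 ∧ c ≤ 1 ∧ d ≤ 1 ∧ e = 2 ^ a * (3 ^ b * (5 ^ c * 7 ^ d)) ∧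
        ArithmeticFunction.cardFactors e = a + (b + (c + d)) := by
    intro A _ he
    obtain ⟨e₁, e₂, he₁, he₂, rfl⟩ := exists_dvd_and_dvd_of_dvd_mul he
    obtain ⟨e₃, e₄, he₃, he₄, rfl⟩ := exists_dvd_and_dvd_of_dvd_mul he₂
    obtain ⟨e₅, e₆, he₅, he₆, rfl⟩ := exists_dvd_and_dvd_of_dvd_mul he₄
    obtain ⟨a, ha, rfl⟩ := (Nat.dvd_prime_pow Nat.prime_two).1 he₁
    obtain ⟨b, hb, rfl⟩ := (Nat.dvd_prime_pow Nat.prime_three).1 he₃
    obtain ⟨c, hc, rfl⟩ := (Nat.dvd_prime_pow Nat.prime_five).1 he₅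
    obtain ⟨d, hd, rfl⟩ := (Nat.dvd_prime_pow (by norm_num : Nat.Prime 7)).1 he₆
    refine ⟨a, b, c, d, ha, hb, hc, hd, rfl, ?_⟩
    rw [ArithmeticFunction.cardFactors_mul (by positivity) (by positivity),
      ArithmeticFunction.cardFactors_mul (by positivity) (by positivity),
      ArithmeticFunction.cardFactors_mul (by positivity) (by positivity),
      ArithmeticFunction.cardFactors_apply_prime_pow Nat.prime_two,
      ArithmeticFunction.cardFactors_apply_prime_pow Nat.prime_three,
      ArithmeticFunction.cardFactors_apply_prime_pow Nat.prime_five,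
      ArithmeticFunction.cardFactors_apply_prime_pow (by norm_num : Nat.Prime 7)]
  constructor
  · intro he hle
    obtain ⟨a, b, c, d, ha, hb, hc, hd, rfl, h⟩ := main 4 (by norm_num) (by simpa using he)
    rw [h]
    interval_cases a <;> interval_cases b <;> interval_cases c <;> interval_cases d <;> omega
  · intro he hle
    obtain ⟨a, b, c, d, ha, hb, hc, hd, rfl, h⟩ := main 7 le_rfl (by simpa using he)
    rw [h]
    interval_cases a <;> interval_cases b <;> interval_cases c <;> interval_cases d <;> omega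

lemma arith_regular {n c₁ c₂ d e : ℕ} (hn : 2 ≤ n) (h1 : 2 ^ c₁ ≤ n) (h1' : c₁ ≤ ArithmeticFunction.cardFactors n)
    (hd : 2 ^ d ≤ n) (h2 : 2 ^ c₂ ≤ e) (h2' : c₂ ≤ ArithmeticFunction.cardFactors e)
    (he : e ≤ (n - 1).descFactorial d) (hdvd : e ∣ (n - 1).factorial) :
    3 * (c₁ + c₂) ≤ 4 * (n - 1) := by
  by_cases h32 : 32 ≤ n
  · set L := Nat.log 2 n
    have hL : 5 ≤ L := Nat.le_log_of_pow_le (by norm_num) (by simpa using h32)
    have hn2 : n < 2 ^ (L + 1) := Nat.lt_pow_succ_log_self (by norm_num) n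
    have hn1 : 2 ^ L ≤ n := Nat.pow_log_le_self 2 (by omega)
    have a1 : c₁ ≤ L := Nat.le_of_lt_succ (lt_of_two_pow_le h1 hn2)
    have a2 : d ≤ L := Nat.le_of_lt_succ (lt_of_two_pow_le hd hn2)
    have a3 : c₂ ≤ (L + 1) * L := by
      refine (Nat.pow_le_pow_iff_right (show 1 < 2 by norm_num)).1 ?_
      calc 2 ^ c₂ ≤ e := h2
        _ ≤ (n - 1) ^ d := he.trans (Nat.descFactorial_le_pow _ _)
        _ ≤ (2 ^ (L + 1)) ^ d := Nat.pow_le_pow_left (by omega) d
        _ ≤ (2 ^ (L + 1)) ^ L := Nat.pow_le_pow_right (by positivity) a2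
        _ = 2 ^ ((L + 1) * L) := (pow_mul 2 _ _).symm
    have := arith_mid L hL
    have : 2 ^ L - 1 ≤ n - 1 := by omega
    nlinarith
  · rcases eq_or_ne n 8 with rfl | h8
    · have hd3 : d ≤ 3 := Nat.le_of_lt_succ (lt_of_two_pow_le hd (by norm_num))
      have : e ≤ 210 := he.trans (by interval_cases d <;> decide)
      have hc : ArithmeticFunction.cardFactors 8 = 3 := by
        rw [show (8 : ℕ) = 2 ^ 3 by norm_num, ArithmeticFunction.cardFactors_apply_prime_pow Nat.prime_two]
      have := cardFactors_le_of_dvd.1 (by simpa [Nat.factorial] using hdvd) this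
      omega
    rcases eq_or_ne n 9 with rfl | h9
    · have hd3 : d ≤ 3 := Nat.le_of_lt_succ (lt_of_two_pow_le hd (by norm_num))
      have : e ≤ 336 := he.trans (by interval_cases d <;> decide)
      have hc : ArithmeticFunction.cardFactors 9 = 2 := by
        rw [show (9 : ℕ) = 3 ^ 2 by norm_num, ArithmeticFunction.cardFactors_apply_prime_pow Nat.prime_three]
      have := cardFactors_le_of_dvd.2 (by simpa [Nat.factorial] using hdvd) this
      omega
    have key : ∀ m < 32, 2 ≤ m → m ≠ 8 → m ≠ 9 → ∀ a < 5, 2 ^ a ≤ m → ∀ d < 5, 2 ^ d ≤ m →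
        ∀ c < 21, 2 ^ c ≤ (m - 1).descFactorial d → 3 * (a + c) ≤ 4 * (m - 1) := by decide +kernel
    have a1 : c₁ < 5 := lt_of_two_pow_le h1 (by omega)
    have a2 : d < 5 := lt_of_two_pow_le hd (by omega)
    have a3 : (n - 1).descFactorial d < 2 ^ 21 := by
      calc (n - 1).descFactorial d ≤ (n - 1) ^ d := Nat.descFactorial_le_pow _ _
        _ ≤ 31 ^ d := Nat.pow_le_pow_left (by omega) d
        _ ≤ 31 ^ 4 := Nat.pow_le_pow_right (by norm_num) (by omega)
        _ < 2 ^ 21 := by norm_num
    exact key n (by omega) hn h8 h9 c₁ a1 h1 d a2 hd c₂ (lt_of_two_pow_le (h2.trans he) a3) (h2.trans he)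

/-! ### Generators -/

lemma exists_small_generating (G : Type*) [Group G] [Finite G] :
    ∃ S : Finset G, Subgroup.closure (S : Set G) = ⊤ ∧ (1 : G) ∉ S ∧ 2 ^ S.card ≤ Nat.card G := by
  classical
  suffices h : ∀ k, ∀ S : Finset G, Subgroup.closure (S : Set G) = ⊤ ∨ k ≤ Nat.card (Subgroup.closure (S : Set G)) ∨
      ∃ S' : Finset G, Subgroup.closure (S' : Set G) = ⊤ ∧ (1 ∉ S → 1 ∉ S') ∧
        (2 ^ S.card ≤ Nat.card (Subgroup.closure (S : Set G)) → 2 ^ S'.card ≤ Nat.card G) by
    rcases h (Nat.card G + 1) ∅ with h | h | ⟨S, hS, h1, h2⟩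
    · exact ⟨∅, h, by simp, by simpa using Nat.one_le_iff_ne_zero.2 (Nat.card_pos (α := G)).ne'⟩
    · exact absurd (h.trans (Subgroup.card_le_card_group _)) (by omega)
    · exact ⟨S, hS, h1 (by simp), h2 (by simpa using Nat.card_pos)⟩
  suffices h : ∀ j, ∀ S : Finset G, Nat.card G - Nat.card (Subgroup.closure (S : Set G)) ≤ j →
      ∃ S' : Finset G, Subgroup.closure (S' : Set G) = ⊤ ∧ (1 ∉ S → 1 ∉ S') ∧
        (2 ^ S.card ≤ Nat.card (Subgroup.closure (S : Set G)) → 2 ^ S'.card ≤ Nat.card G) from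
    fun _ S => Or.inr (Or.inr (h _ S le_rfl))
  intro j
  induction j with
  | zero =>
    intro S hS
    exact ⟨S, Subgroup.eq_top_of_le_card _ (by omega), id, fun h => h.trans (Subgroup.card_le_card_group _)⟩
  | succ j ih =>
    intro S hS
    by_cases htop : Subgroup.closure (S : Set G) = ⊤
    · exact ⟨S, htop, id, fun h => h.trans (Subgroup.card_le_card_group _)⟩
    obtain ⟨x, hx⟩ : ∃ x, x ∉ Subgroup.closure (S : Set G) := by
      by_contra h
      push Not at h
      exact htop ((Subgroup.eq_top_iff' _).2 h)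
    have hle : Subgroup.closure (S : Set G) < Subgroup.closure ((insert x S : Finset G) : Set G) := by
      refine lt_of_le_of_ne (Subgroup.closure_mono (by simp)) fun he => hx (he ▸ Subgroup.subset_closure (by simp))
    obtain ⟨d, hd⟩ := Subgroup.card_dvd_of_le hle.le
    have h2 : 2 * Nat.card (Subgroup.closure (S : Set G)) ≤
        Nat.card (Subgroup.closure ((insert x S : Finset G) : Set G)) := by
      rcases d with _ | _ | d
      · rw [mul_zero] at hd; exact absurd hd Nat.card_pos.ne'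
      · exact absurd (Subgroup.eq_of_le_of_card_ge hle.le (by rw [hd]; simp)) hle.ne
      · rw [hd, mul_comm]; exact Nat.mul_le_mul_left _ (by omega)
    obtain ⟨S', hS', h1', h2'⟩ := ih (insert x S) (by
      have := Nat.card_pos (α := Subgroup.closure (S : Set G))
      have := Subgroup.card_le_card_group (Subgroup.closure ((insert x S : Finset G) : Set G))
      omega)
    refine ⟨S', hS', fun h => h1' ?_, fun h => h2' ?_⟩
    · rw [Finset.mem_insert]
      rintro (rfl | h')
      · exact hx (one_mem _)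
      · exact h h'
    · calc 2 ^ (insert x S).card ≤ 2 ^ (S.card + 1) := Nat.pow_le_pow_right (by norm_num) (Finset.card_insert_le _ _)
        _ = 2 * 2 ^ S.card := pow_succ' 2 _
        _ ≤ _ := le_trans (Nat.mul_le_mul_left 2 h) h2

lemma card_mul_card_le {G : Type*} [Group G] [Finite G] {H K M : Subgroup G} (hd : Disjoint H K)
    (hH : H ≤ M) (hK : K ≤ M) : Nat.card H * Nat.card K ≤ Nat.card M := by
  rw [← Nat.card_prod]
  refine Nat.card_le_card_of_injective (fun x : H × K => (⟨x.1 * x.2, M.mul_mem (hH x.1.2) (hK x.2.2)⟩ : M))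
    fun x y h => ?_
  exact Subgroup.mul_injective_of_disjoint hd (congrArg Subtype.val h)

/-! ### The bound -/

/-- number of orbits -/
noncomputable abbrev numOrbits (G : Type*) (Ω : Type*) [Group G] [MulAction G Ω] : ℕ :=
  Nat.card (Quotient (MulAction.orbitRel G Ω))

/-- the bound in degree `n` -/
def Bound (n : ℕ) : Prop :=
  ∀ (Ω : Type v) [Fintype Ω] (H : Subgroup (Equiv.Perm Ω)), Fintype.card Ω = n →
    3 * clen H + 4 * numOrbits H Ω ≤ 4 * n

section
variable {G : Type u} [Group G] [Finite G] {Ω : Type v} [Fintype Ω] [MulAction G Ω]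

lemma bound_of_faithful [FaithfulSMul G Ω] {n : ℕ} (hn : Fintype.card Ω = n) (hB : Bound.{v} n) :
    3 * clen G + 4 * numOrbits G Ω ≤ 4 * n := by
  classical
  let φ := MulAction.toPermHom G Ω
  have hinj : Function.Injective φ := MulAction.toPerm_injective
  have h := hB Ω φ.range hn
  rw [← clen_congr (MonoidHom.ofInjective hinj)] at h
  suffices numOrbits G Ω = numOrbits φ.range Ω by rw [this]; exact h
  refine Nat.card_congr (Quotient.congr (Equiv.refl Ω) fun a b => ?_)
  simp only [Equiv.refl_apply]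
  show a ∈ MulAction.orbit G b ↔ a ∈ MulAction.orbit φ.range b
  constructor
  · rintro ⟨g, rfl⟩; exact ⟨⟨φ g, g, rfl⟩, rfl⟩
  · rintro ⟨⟨_, g, rfl⟩, rfl⟩; exact ⟨g, rfl⟩

lemma one_le_numOrbits [Nonempty Ω] : 1 ≤ numOrbits G Ω :=
  Finite.card_pos_iff.2 ⟨Quotient.mk'' (Classical.arbitrary Ω)⟩

lemma intransitive_step [FaithfulSMul G Ω] {n : ℕ} (hn : Fintype.card Ω = n) (hIH : ∀ m < n, Bound.{v} m)
    (hr : 2 ≤ numOrbits G Ω) : 3 * clen G + 4 * numOrbits G Ω ≤ 4 * n := by
  classical
  haveI : Nonempty Ω := by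
    by_contra h
    rw [not_nonempty_iff] at h
    have : numOrbits G Ω = 0 := Nat.card_eq_zero.2 (Or.inl ⟨fun q => q.inductionOn' (fun x => h.elim x)⟩)
    omega
  obtain ⟨x⟩ := ‹Nonempty Ω›
  let O := MulAction.orbit G x
  let f := MulAction.toPermHom G O
  let C := {y : Ω // y ∉ O}
  have hmem : ∀ (g : G) y, y ∉ O → g • y ∉ O := fun g y hy h => by
    obtain ⟨k, hk⟩ := h
    exact hy ⟨g⁻¹ * k, by show (g⁻¹ * k) • x = y; rw [mul_smul, show k • x = g • y from hk, inv_smul_smul]⟩
  letI : MulAction f.ker C :=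
    { smul := fun g y => ⟨(g : G) • y.1, hmem g y.1 y.2⟩
      one_smul := fun y => Subtype.ext (one_smul G y.1)
      mul_smul := fun g h y => Subtype.ext (mul_smul (g : G) (h : G) y.1) }
  haveI : FaithfulSMul f.ker C := ⟨fun {g h} hgh => Subtype.ext (eq_of_smul_eq_smul fun y : Ω => by
    by_cases hy : y ∈ O
    · have hg : f g = 1 := MonoidHom.mem_ker.1 g.2
      have hh : f h = 1 := MonoidHom.mem_ker.1 h.2
      have e1 := congrArg (fun σ : Equiv.Perm O => (σ ⟨y, hy⟩ : Ω)) hg
      have e2 := congrArg (fun σ : Equiv.Perm O => (σ ⟨y, hy⟩ : Ω)) hh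
      exact e1.trans e2.symm
    · exact congrArg Subtype.val (hgh ⟨y, hy⟩))⟩
  have hxO : x ∈ O := MulAction.mem_orbit_self x
  have hcardO : Fintype.card O + Fintype.card C = n := by
    rw [← hn, Fintype.card_subtype_compl]
    have := Fintype.card_subtype_le (fun y => y ∈ O)
    show Fintype.card O + (Fintype.card Ω - Fintype.card O) = _
    have h : Fintype.card O ≤ Fintype.card Ω := this
    omega
  have hOpos : 0 < Fintype.card O := Fintype.card_pos_iff.2 ⟨⟨x, hxO⟩⟩
  have hsurj : Function.Surjective (fun q : Option (Quotient (MulAction.orbitRel f.ker C)) =>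
      q.elim (Quotient.mk (MulAction.orbitRel G Ω) x)
        (Quotient.map' (fun y : C => y.1) fun a b hab => by
          obtain ⟨g, hg⟩ := hab
          exact ⟨g.1, congrArg Subtype.val hg⟩)) := by
    intro q
    induction q using Quotient.inductionOn with
    | h y =>
      by_cases hy : y ∈ O
      · exact ⟨none, Quotient.sound (MulAction.mem_orbit_symm.1 hy)⟩
      · exact ⟨some (Quotient.mk'' ⟨y, hy⟩), rfl⟩
  have hcount : numOrbits G Ω ≤ numOrbits f.ker C + 1 := by
    refine (Nat.card_le_card_of_surjective _ hsurj).trans (le_of_eq ?_)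
    rw [Finite.card_option]
  have hCpos : 0 < Fintype.card C := by
    by_contra h
    haveI : IsEmpty C := Fintype.card_eq_zero_iff.1 (by omega)
    have : numOrbits f.ker C = 0 := Nat.card_eq_zero.2 (Or.inl ⟨fun q => q.inductionOn' fun y => isEmptyElim y⟩)
    omega
  have h1 := hIH _ (by omega : Fintype.card O < n) O f.range rfl
  haveI : Nonempty O := ⟨⟨x, hxO⟩⟩
  have h1' : 1 ≤ numOrbits f.range O := one_le_numOrbits
  have h2 := bound_of_faithful (G := f.ker) (Ω := C) rfl (hIH _ (by omega))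
  have h3 := clen_le_ker_add_range f
  omega

lemma imprimitive_step [FaithfulSMul G Ω] {n : ℕ} (hn : Fintype.card Ω = n) (hIH : ∀ m < n, Bound.{v} m)
    [MulAction.IsPretransitive G Ω] {B : Set Ω} (hB : MulAction.IsBlock G B) (hne : B.Nontrivial)
    (huniv : B ≠ Set.univ) : 3 * clen G + 4 ≤ 4 * n := by
  classical
  let Ω' := MulAction.orbit G B
  obtain ⟨b, hb, b', hb', hbb'⟩ := hne
  have hm : B.ncard * Set.ncard Ω' = Nat.card Ω := hB.ncard_block_mul_ncard_orbit_eq ⟨b, hb⟩
  have hB2 : 2 ≤ B.ncard := Set.one_lt_ncard_iff_nontrivial.2 ⟨b, hb, b', hb', hbb'⟩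
  have hBn : B.ncard < n := by
    rw [← hn, ← Nat.card_eq_fintype_card]
    exact Set.ncard_lt_card huniv
  haveI : Fintype Ω' := Fintype.ofFinite _
  have hm' : Set.ncard Ω' = Fintype.card Ω' := by rw [← Nat.card_eq_fintype_card]; rfl
  rw [Nat.card_eq_fintype_card, hn, hm'] at hm
  have hm2 : 2 ≤ Fintype.card Ω' := by nlinarith
  have hmn : Fintype.card Ω' < n := by nlinarith
  let f := MulAction.toPermHom G Ω'
  haveI : Nonempty Ω' := ⟨⟨B, MulAction.mem_orbit_self B⟩⟩
  have h1 := hIH _ hmn Ω' f.range rfl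
  have h1' : 1 ≤ numOrbits f.range Ω' := one_le_numOrbits
  -- the block containing a point
  have hcover : ∀ y : Ω, ∃ T : Ω', y ∈ (T : Set Ω) := fun y => by
    obtain ⟨g, hg⟩ := MulAction.exists_smul_eq G b y
    exact ⟨⟨g • B, g, rfl⟩, hg ▸ Set.smul_mem_smul_set hb⟩
  choose blockOf hblockOf using hcover
  have huniq : ∀ (y : Ω) (T : Ω'), y ∈ (T : Set Ω) → blockOf y = T := by
    intro y T hy
    obtain ⟨g, hg⟩ := (blockOf y).2
    obtain ⟨h, hh⟩ := T.2
    refine Subtype.ext ?_
    by_contra hne'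
    have he : Disjoint (g • B) (h • B) := hB (by
      intro he
      exact hne' (by rw [← hg, ← hh]; exact he))
    · have h1 := hblockOf y
      rw [← hg] at h1
      rw [← hh] at hy
      exact Set.disjoint_left.1 he h1 hy
  have hsurj : Function.Surjective
      (Quotient.lift (s := MulAction.orbitRel f.ker Ω) blockOf fun a a' h => by
        obtain ⟨g, hg⟩ := h
        refine huniq a _ ?_
        have hg' : f g = 1 := MonoidHom.mem_ker.1 g.2
        have e : (g : G) • blockOf a' = blockOf a' := congrArg (fun σ : Equiv.Perm Ω' => σ (blockOf a')) hg'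
        rw [← e, ← hg]
        exact Set.smul_mem_smul_set (hblockOf a')) := by
    intro T
    obtain ⟨g, hg⟩ := T.2
    refine ⟨Quotient.mk'' (g • b), huniq _ T ?_⟩
    rw [← hg]
    exact Set.smul_mem_smul_set hb
  have hK : Fintype.card Ω' ≤ numOrbits f.ker Ω := by
    rw [← Nat.card_eq_fintype_card]; exact Nat.card_le_card_of_surjective _ hsurj
  haveI : FaithfulSMul f.ker Ω := ⟨fun {g h} hgh => Subtype.ext (eq_of_smul_eq_smul hgh)⟩
  have h2 := intransitive_step (G := f.ker) (Ω := Ω) hn hIH (hm2.trans hK)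
  have h3 := clen_le_ker_add_range f
  omega

end

section MinNormal

variable {N : Type u} [Group N] [Finite N]

lemma central_eq_one (hsoc : socle N = ⊤) (hZ : center N = ⊥) {x : N}
    (hx : ∀ S : Subgroup N, IsMinNormal S → ∀ y ∈ S, y * x = x * y) : x = 1 := by
  rw [← Subgroup.mem_bot, ← hZ, Subgroup.mem_center_iff]
  intro y
  have : socle N ≤ centralizer ({x} : Set N) := sSup_le fun S hS y hy w hw => by
    rw [Set.mem_singleton_iff] at hw
    subst hw
    exact (hx S hS y hy).symm
  exact ((this (hsoc ▸ mem_top y : y ∈ socle N)) x rfl).symm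

open scoped Classical in
lemma sup_le_centralizer {s : Finset (Subgroup N)} (hs : ∀ S ∈ s, IsMinNormal S) {T : Subgroup N}
    (hT : IsMinNormal T) (hTs : T ∉ s) : s.sup id ≤ centralizer (T : Set N) :=
  Finset.sup_le fun S hS => (hs S hS).le_centralizer hT fun h => hTs (h ▸ hS)

open scoped Classical in
lemma sup_normal {s : Finset (Subgroup N)} (hs : ∀ S ∈ s, IsMinNormal S) : (s.sup id).Normal := by
  induction s using Finset.induction with
  | empty => simp only [Finset.sup_empty]; exact inferInstance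
  | @insert a s _ ih =>
    rw [Finset.sup_insert]
    haveI := ih fun S hS => hs S (Finset.mem_insert_of_mem hS)
    haveI : (id a : Subgroup N).Normal := (hs a (Finset.mem_insert_self _ _)).normal
    exact Subgroup.sup_normal _ _

open scoped Classical in
lemma inf_sup_eq_bot (hsoc : socle N = ⊤) (hZ : center N = ⊥) {s : Finset (Subgroup N)}
    (hs : ∀ S ∈ s, IsMinNormal S) {T : Subgroup N} (hT : IsMinNormal T) (hTs : T ∉ s) :
    T ⊓ s.sup id = ⊥ := by
  refine (Subgroup.eq_bot_iff_forall _).2 fun x hx => central_eq_one hsoc hZ fun S hS y hy => ?_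
  rcases eq_or_ne S T with rfl | hne
  · exact sup_le_centralizer hs hS hTs hx.2 y hy
  · exact ((hS.commute hT hne) y hy x hx.1).eq

open scoped Classical in
/-- properties of a product of some of the simple factors -/
lemma sup_facts (hsoc : socle N = ⊤) (hZ : center N = ⊥)
    (hna : ∀ S : Subgroup N, IsMinNormal S → ¬ IsMulCommutative S) (D : Subgroup N) :
    ∀ s : Finset (Subgroup N), (∀ S ∈ s, IsMinNormal S) →
      clen (s.sup id : Subgroup N) ≤ s.card ∧ 41 ^ s.card ≤ Nat.card (s.sup id : Subgroup N) ∧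
      ((∀ S ∈ s, S ⊓ D ≠ ⊥) → clen (s.sup id : Subgroup N) ≤ clen ((s.sup id) ⊓ D : Subgroup N)) := by
  intro s
  induction s using Finset.induction with
  | empty =>
    intro _
    have hb : (∅ : Finset (Subgroup N)).sup id = ⊥ := Finset.sup_empty
    rw [hb, bot_inf_eq, Finset.card_empty]
    exact ⟨clen_eq_zero.le, Nat.card_pos, fun _ => le_rfl⟩
  | @insert T s hTs ih =>
    intro hs
    have hs' : ∀ S ∈ s, IsMinNormal S := fun S hS => hs S (Finset.mem_insert_of_mem hS)
    have hT := hs T (Finset.mem_insert_self _ _)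
    obtain ⟨i1, i2, i3⟩ := ih hs'
    set X := s.sup id
    have hX : X.Normal := sup_normal hs'
    haveI := isSimpleGroup_of_socle_eq_top hsoc hT
    haveI := hT.normal
    have hdis : T ⊓ X = ⊥ := inf_sup_eq_bot hsoc hZ hs' hT hTs
    rw [Finset.sup_insert, Finset.card_insert_of_notMem hTs]
    simp only [id]
    have hclen : clen (T ⊔ X : Subgroup N) ≤ clen X + 1 := by
      let f : (T ⊔ X : Subgroup N) →* (T ⊔ X : Subgroup N) ⧸ (X.subgroupOf (T ⊔ X)) := QuotientGroup.mk' _
      have h := clen_normal_add (X.subgroupOf (T ⊔ X))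
      rw [clen_congr (Subgroup.subgroupOfEquivOfLe (le_sup_right : X ≤ T ⊔ X)),
        ← clen_congr (QuotientGroup.quotientInfEquivProdNormalQuotient T X)] at h
      have hq : clen (T ⧸ X.subgroupOf T) ≤ 1 := by
        have hle := clen_normal_add (X.subgroupOf T)
        have := clen_simple_le (G := T)
        omega
      omega
    refine ⟨hclen.trans (by omega), ?_, fun hD => ?_⟩
    · rw [pow_succ']
      refine le_trans ?_ (card_mul_card_le (disjoint_iff.2 hdis) le_sup_left le_sup_right)
      exact Nat.mul_le_mul (forty_one_le_card (hna T hT)) i2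
    · have hlt : X ⊓ D < (T ⊔ X) ⊓ D := by
        refine lt_of_le_of_ne (inf_le_inf_right D le_sup_right) fun he => hD T (Finset.mem_insert_self _ _) ?_
        refine le_bot_iff.1 ?_
        calc T ⊓ D = T ⊓ ((T ⊔ X) ⊓ D) := by rw [← inf_assoc, inf_eq_left.2 (le_sup_left : T ≤ T ⊔ X)]
          _ = T ⊓ (X ⊓ D) := by rw [← he]
          _ ≤ T ⊓ X := inf_le_inf_left T inf_le_left
          _ = ⊥ := hdis
      have hn : ((X ⊓ D).subgroupOf ((T ⊔ X) ⊓ D)).Normal := ⟨fun a ha g => by
        rw [mem_subgroupOf] at ha ⊢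
        exact ⟨hX.conj_mem _ ha.1 _, D.mul_mem (D.mul_mem g.2.2 ha.2) (D.inv_mem g.2.2)⟩⟩
      have := clen_lt_of_normal_lt hlt hn
      have := i3 fun S hS => hD S (Finset.mem_insert_of_mem hS)
      show clen (T ⊔ X : Subgroup N) ≤ clen ((T ⊔ X) ⊓ D : Subgroup N)
      omega

open scoped Classical in
/-- A subdirect subgroup meeting every factor trivially has order at most the square root of the whole. -/
lemma card_sq_le (hsoc : socle N = ⊤) (hZ : center N = ⊥)
    (hna : ∀ S : Subgroup N, IsMinNormal S → ¬ IsMulCommutative S) (D : Subgroup N)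
    (hsemi : ∀ S : Subgroup N, IsMinNormal S → S ⊓ D = ⊥)
    (hsub : ∀ S : Subgroup N, IsMinNormal S → D ⊔ centralizer (S : Set N) = ⊤) :
    Nat.card D * Nat.card D ≤ Nat.card N := by
  haveI := Fintype.ofFinite (Subgroup N)
  set M : Finset (Subgroup N) := Finset.univ.filter IsMinNormal with hMdef
  have hM : ∀ S, S ∈ M ↔ IsMinNormal S := fun S => by simp [hMdef]
  obtain ⟨s, hs, hmax⟩ := (M.powerset.filter fun s => s.sup id ⊓ D = ⊥).exists_max_image Finset.card
    ⟨∅, by simp⟩
  rw [Finset.mem_filter, Finset.mem_powerset] at hs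
  obtain ⟨hsM, hsD⟩ := hs
  have hs' : ∀ S ∈ s, IsMinNormal S := fun S hS => (hM S).1 (hsM hS)
  have hy' : ∀ S ∈ M \ s, IsMinNormal S := fun S hS => (hM S).1 (Finset.mem_sdiff.1 hS).1
  set X := s.sup id
  set Y := (M \ s).sup id
  haveI hXn : X.Normal := sup_normal hs'
  haveI hYn : Y.Normal := sup_normal hy'
  have htop : X ⊔ Y = ⊤ := by
    rw [← top_le_iff, ← hsoc]
    refine sSup_le fun S hS => ?_
    by_cases h : S ∈ s
    · exact le_sup_of_le_left (Finset.le_sup (f := id) h)
    · exact le_sup_of_le_right (Finset.le_sup (f := id) (Finset.mem_sdiff.2 ⟨(hM S).2 hS, h⟩))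
  have hDY : D ⊓ Y = ⊥ := by
    have hBC : ∀ T ∈ M \ s, D ⊓ Y ≤ centralizer (T : Set N) := by
      intro T hT
      have hTmin := hy' T hT
      haveI := hTmin.normal
      have hTs : T ∉ s := (Finset.mem_sdiff.1 hT).2
      set A := (T ⊔ X) ⊓ D
      have hA : A ≠ ⊥ := by
        intro h0
        have := hmax (insert T s) (by
          rw [Finset.mem_filter, Finset.mem_powerset, Finset.sup_insert]
          exact ⟨Finset.insert_subset (Finset.mem_sdiff.1 hT).1 hsM, h0⟩)
        rw [Finset.card_insert_of_notMem hTs] at this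
        omega
      set C := centralizer (T : Set N)
      haveI : C.Normal := Subgroup.normal_centralizer
      have hAB : ∀ a ∈ A, ∀ b ∈ D ⊓ Y, a * b = b * a := by
        intro a ha b hb
        have hc1 : ⁅a, b⁆ ∈ T ⊔ X := by
          rw [commutatorElement_def, mul_assoc, mul_assoc]
          refine (T ⊔ X).mul_mem ha.1 ?_
          have := (Subgroup.sup_normal T X).conj_mem _ ((T ⊔ X).inv_mem ha.1) b
          simpa [mul_assoc] using this
        have hc2 : ⁅a, b⁆ ∈ Y := by
          rw [commutatorElement_def]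
          exact Y.mul_mem (hYn.conj_mem _ hb.2 a) (Y.inv_mem hb.2)
        have hc3 : ⁅a, b⁆ ∈ D := by
          rw [commutatorElement_def]
          exact D.mul_mem (D.mul_mem (D.mul_mem ha.2 hb.1) (D.inv_mem ha.2)) (D.inv_mem hb.1)
        obtain ⟨τ, hτ, x, hx, hc⟩ := Subgroup.mem_sup_of_normal_left.1 hc1
        have hx1 : x = 1 := central_eq_one hsoc hZ fun S hS y hy => by
          by_cases hSs : S ∈ s
          · have e1 : (⁅a, b⁆) ∈ centralizer (S : Set N) :=
              sup_le_centralizer hy' hS (fun h => (Finset.mem_sdiff.1 h).2 hSs) hc2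
            have e2 : τ ∈ centralizer (S : Set N) := hTmin.le_centralizer hS (fun h => hTs (h ▸ hSs)) hτ
            have e3 : x ∈ centralizer (S : Set N) := by
              rw [show x = τ⁻¹ * ⁅a, b⁆ by rw [← hc, inv_mul_cancel_left]]
              exact mul_mem (inv_mem e2) e1
            exact e3 y hy
          · exact sup_le_centralizer hs' hS hSs hx y hy
        subst hx1
        rw [mul_one] at hc
        have h1 : ⁅a, b⁆ ∈ T ⊓ D := ⟨hc ▸ hτ, hc3⟩
        rw [hsemi T hTmin, Subgroup.mem_bot, commutatorElement_eq_one_iff_mul_comm] at h1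
        exact h1
      let π := QuotientGroup.mk' C
      have hTC : T ⊔ C = ⊤ := by
        rw [← top_le_iff, ← hsoc]
        refine sSup_le fun S hS => ?_
        rcases eq_or_ne S T with rfl | hne
        · exact le_sup_left
        · exact le_sup_of_le_right (hS.le_centralizer hTmin hne)
      have hTinf : T ⊓ C = ⊥ := (Subgroup.eq_bot_iff_forall _).2 fun x hx =>
        central_eq_one hsoc hZ fun S hS y hy => by
          rcases eq_or_ne S T with rfl | hne
          · exact hx.2 y hy
          · exact ((hS.commute hTmin hne) y hy x hx.1).eq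
      let e : T ≃* N ⧸ C := MulEquiv.ofBijective (π.comp T.subtype) ⟨fun x y hxy => by
          have hmem : ((x : N)⁻¹ * y) ∈ T ⊓ C := ⟨T.mul_mem (T.inv_mem x.2) y.2,
            (QuotientGroup.eq (s := C)).1 hxy⟩
          rw [hTinf, Subgroup.mem_bot, inv_mul_eq_one] at hmem
          exact Subtype.ext hmem,
        fun q => by
          obtain ⟨g, rfl⟩ := QuotientGroup.mk'_surjective C q
          obtain ⟨τ, hτ, c, hc, rfl⟩ := Subgroup.mem_sup_of_normal_right.1 (hTC ▸ mem_top g : g ∈ T ⊔ C)
          refine ⟨⟨τ, hτ⟩, ?_⟩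
          show π τ = π (τ * c)
          rw [map_mul, show π c = 1 from (QuotientGroup.eq_one_iff c).2 hc, mul_one]⟩
      haveI := isSimpleGroup_of_socle_eq_top hsoc hTmin
      haveI : IsSimpleGroup (N ⧸ C) := by
        haveI : Nontrivial (N ⧸ C) := e.symm.toEquiv.nontrivial
        exact IsSimpleGroup.isSimpleGroup_of_surjective e.toMonoidHom e.surjective
      have hnorm : ∀ K : Subgroup N, (∀ d ∈ D, ∀ a ∈ K, d * a * d⁻¹ ∈ K) → (K.map π).Normal := by
        intro K hK
        constructor
        rintro _ ⟨a, ha, rfl⟩ q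
        obtain ⟨g, rfl⟩ := QuotientGroup.mk'_surjective C q
        obtain ⟨d, hd, c, hc, rfl⟩ := Subgroup.mem_sup_of_normal_right.1 (hsub T hTmin ▸ mem_top g : g ∈ D ⊔ C)
        refine ⟨d * a * d⁻¹, hK d hd a ha, ?_⟩
        show π (d * a * d⁻¹) = π (d * c) * π a * (π (d * c))⁻¹
        simp [map_mul, show π c = 1 from (QuotientGroup.eq_one_iff c).2 hc]
      rcases (hnorm A fun d hd a ha => ⟨(Subgroup.sup_normal T X).conj_mem a ha.1 d,
          D.mul_mem (D.mul_mem hd ha.2) (D.inv_mem hd)⟩).eq_bot_or_eq_top with hA' | hA'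
      · exfalso
        refine hA ((Subgroup.eq_bot_iff_forall _).2 fun a ha => ?_)
        have haC : a ∈ C := (QuotientGroup.eq_one_iff a).1
          ((Subgroup.eq_bot_iff_forall _).1 hA' _ (Subgroup.mem_map_of_mem π ha))
        obtain ⟨τ, hτ, x, hx, hc⟩ := Subgroup.mem_sup_of_normal_left.1 ha.1
        have hτC : τ ∈ T ⊓ C := ⟨hτ, by
          rw [show τ = a * x⁻¹ by rw [← hc, mul_inv_cancel_right]]
          exact C.mul_mem haC (C.inv_mem (sup_le_centralizer hs' hTmin hTs hx))⟩
        rw [hTinf, Subgroup.mem_bot] at hτC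
        rw [hτC, one_mul] at hc
        have hmem : a ∈ X ⊓ D := ⟨hc ▸ hx, ha.2⟩
        rwa [hsD, Subgroup.mem_bot] at hmem
      rcases (hnorm (D ⊓ Y) fun d hd a ha => ⟨D.mul_mem (D.mul_mem hd ha.1) (D.inv_mem hd),
          hYn.conj_mem a ha.2 d⟩).eq_bot_or_eq_top with hB' | hB'
      · exact fun b hb => (QuotientGroup.eq_one_iff b).1
          ((Subgroup.eq_bot_iff_forall _).1 hB' _ (Subgroup.mem_map_of_mem π hb))
      · exfalso
        refine hna T hTmin ⟨⟨fun x y => e.injective ?_⟩⟩
        obtain ⟨a, ha, hax⟩ : e x ∈ A.map π := hA' ▸ mem_top _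
        obtain ⟨b, hb, hby⟩ : e y ∈ (D ⊓ Y).map π := hB' ▸ mem_top _
        rw [map_mul, map_mul, ← hax, ← hby, ← map_mul, ← map_mul, hAB a ha b hb]
    refine (Subgroup.eq_bot_iff_forall _).2 fun b hb => central_eq_one hsoc hZ fun S hS y hy => ?_
    by_cases hSs : S ∈ s
    · exact sup_le_centralizer hy' hS (fun h => (Finset.mem_sdiff.1 h).2 hSs) hb.2 y hy
    · exact hBC S (Finset.mem_sdiff.2 ⟨(hM S).2 hS, hSs⟩) hb y hy
  have e1 := card_mul_card_le (disjoint_iff.2 hDY) le_top le_top
  have e2 := card_mul_card_le (disjoint_iff.2 (show D ⊓ X = ⊥ by rw [inf_comm]; exact hsD)) le_top le_top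
  rw [Subgroup.card_top] at e1 e2
  have e3 : Nat.card N ≤ Nat.card X * Nat.card Y := by
    rw [← Nat.card_prod]
    refine Nat.card_le_card_of_surjective (fun p : X × Y => (p.1 : N) * p.2) fun g => ?_
    obtain ⟨x, hx, y, hy, h⟩ := Subgroup.mem_sup_of_normal_left.1 (htop ▸ mem_top g : g ∈ X ⊔ Y)
    exact ⟨(⟨x, hx⟩, ⟨y, hy⟩), h⟩
  have hY0 : 0 < Nat.card Y := Nat.card_pos
  have : Nat.card D ≤ Nat.card X := Nat.le_of_mul_le_mul_right (e1.trans e3) hY0
  calc Nat.card D * Nat.card D ≤ Nat.card D * Nat.card X := Nat.mul_le_mul_left _ this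
    _ ≤ Nat.card N := e2

end MinNormal

section Primitive

variable {G : Type u} [Group G] [Finite G] {Ω : Type v} [Fintype Ω] [MulAction G Ω] [FaithfulSMul G Ω]

lemma primitive_step {n : ℕ} (hn : Fintype.card Ω = n) (hIH : ∀ m < n, Bound.{v} m) (h2 : 2 ≤ n)
    (hprim : MulAction.IsPreprimitive G Ω) : 3 * clen G + 4 ≤ 4 * n := by
  classical
  haveI := hprim
  haveI : Nontrivial Ω := Fintype.one_lt_card_iff_nontrivial.1 (by omega)
  have α : Ω := Classical.arbitrary Ω
  haveI : Nontrivial G := by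
    by_contra h
    rw [not_nontrivial_iff_subsingleton] at h
    obtain ⟨β, hβ⟩ := exists_ne α
    obtain ⟨g, hg⟩ := MulAction.exists_smul_eq G α β
    rw [Subsingleton.elim g 1, one_smul] at hg
    exact hβ hg.symm
  obtain ⟨N, hN⟩ := exists_isMinNormal (G := G)
  haveI := hN.normal
  set St := MulAction.stabilizer G α with hSt
  -- transitivity of N
  haveI hNtr : MulAction.IsPretransitive N Ω := by
    refine MulAction.IsQuasiPreprimitive.isPretransitive_of_normal fun hfix => hN.ne_bot ?_
    rw [Subgroup.eq_bot_iff_forall]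
    intro x hx
    refine eq_of_smul_eq_smul fun y : Ω => ?_
    rw [one_smul]
    have hy : y ∈ MulAction.fixedPoints N Ω := hfix ▸ Set.mem_univ y
    exact hy ⟨x, hx⟩
  set D := MulAction.stabilizer N α with hD
  have hindex : D.index = n := by
    rw [hD, MulAction.index_stabilizer_of_transitive N α, Nat.card_eq_fintype_card, hn]
  have hcardN : Nat.card D * n = Nat.card N := by rw [← hindex]; exact D.card_mul_index
  -- the point stabiliser on the other points
  let C := {y : Ω // y ≠ α}
  letI : MulAction St C :=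
    { smul := fun g y => ⟨(g : G) • y.1, fun h => y.2 (by
        have hg : (g : G) • α = α := g.2
        exact MulAction.injective (g : G) (h.trans hg.symm))⟩
      one_smul := fun y => Subtype.ext (one_smul G y.1)
      mul_smul := fun g h y => Subtype.ext (mul_smul (g : G) (h : G) y.1) }
  haveI : FaithfulSMul St C := ⟨fun {g h} hgh => Subtype.ext (eq_of_smul_eq_smul fun y : Ω => by
    by_cases hy : y = α
    · subst hy; exact g.2.trans h.2.symm
    · exact congrArg Subtype.val (hgh ⟨y, hy⟩))⟩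
  have hcC : Fintype.card C = n - 1 := by
    show Fintype.card {y : Ω // ¬ y = α} = _
    rw [Fintype.card_subtype_compl, Fintype.card_subtype_eq, hn]
  haveI : Nonempty C := Fintype.card_pos_iff.1 (by omega)
  have hSt1 := bound_of_faithful (G := St) (Ω := C) hcC (hIH _ (by omega))
  have hSt2 : 1 ≤ numOrbits St C := one_le_numOrbits
  have hSt3 : Nat.card St ∣ (n - 1).factorial := by
    rw [← hcC, ← Nat.card_eq_fintype_card, ← Nat.card_perm]
    exact Subgroup.card_dvd_of_injective (MulAction.toPermHom St C) MulAction.toPerm_injective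
  -- composition lengths
  let f : St →* G ⧸ N := (QuotientGroup.mk' N).comp St.subtype
  have hfsurj : Function.Surjective f := by
    intro q
    obtain ⟨g, rfl⟩ := QuotientGroup.mk'_surjective N q
    obtain ⟨m, hm⟩ := MulAction.exists_smul_eq N (g • α) α
    refine ⟨⟨(m : G) * g, by rw [hSt, MulAction.mem_stabilizer_iff, mul_smul]; exact hm⟩, ?_⟩
    show QuotientGroup.mk' N ((m : G) * g) = QuotientGroup.mk' N g
    rw [map_mul, show QuotientGroup.mk' N (m : G) = 1 from (QuotientGroup.eq_one_iff _).2 m.2, one_mul]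
  let eD : D ≃* f.ker :=
    { toFun := fun d => ⟨⟨((d : N) : G), d.2⟩, (QuotientGroup.eq_one_iff _).2 d.1.2⟩
      invFun := fun k => ⟨⟨((k : St) : G), (QuotientGroup.eq_one_iff _).1 k.2⟩, k.1.2⟩
      left_inv := fun d => rfl
      right_inv := fun k => rfl
      map_mul' := fun a b => rfl }
  have hG : clen G = clen N + clen (G ⧸ N) := clen_normal_add N
  have hStlen : clen St = clen D + clen (G ⧸ N) := by rw [clen_congr eD]; exact clen_eq_ker_add f hfsurj
  by_cases hsmall : clen N ≤ clen D + 1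
  · omega
  -- the point stabiliser acts faithfully on N
  let φ : St →* MulAut N := (MulAut.conjNormal (H := N)).comp St.subtype
  have hφ : ∀ (g : St) (x : N), ((φ g x : N) : G) = (g : G) * x * (g : G)⁻¹ := fun g x => MulAut.conjNormal_apply _ _
  have hφinj : Function.Injective φ := by
    intro g h hgh
    refine Subtype.ext (eq_of_smul_eq_smul fun y : Ω => ?_)
    obtain ⟨x, hx⟩ := MulAction.exists_smul_eq N α y
    have e := congrArg (fun ψ : MulAut N => ((ψ x : N) : G)) hgh
    simp only [hφ] at e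
    have hg : (g : G) • α = α := g.2
    have hh : (h : G) • α = α := h.2
    have e1 : ∀ a : G, a • α = α → a • ((x : G) • α) = (a * x * a⁻¹) • α := fun a ha => by
      have : a⁻¹ • α = α := by rw [inv_smul_eq_iff, ha]
      rw [mul_smul, mul_smul, this]
    rw [← hx]
    show (g : G) • ((x : G) • α) = (h : G) • ((x : G) • α)
    rw [e1 _ hg, e1 _ hh, e]
  obtain ⟨S, hS, hS1, hScard⟩ := exists_small_generating N
  let emb : St → (S ↪ {x : N // x ≠ 1}) := fun g =>
    ⟨fun s => ⟨φ g s.1, fun h => hS1 ((φ g).map_eq_one_iff.1 h ▸ s.2)⟩,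
      fun a b hab => Subtype.ext ((φ g).injective (congrArg Subtype.val hab))⟩
  have hemb : Function.Injective emb := by
    intro g h hgh
    apply hφinj
    refine MulEquiv.ext fun x => ?_
    have : Subgroup.closure (S : Set N) ≤ MonoidHom.eqLocus (φ g).toMonoidHom (φ h).toMonoidHom :=
      (Subgroup.closure_le _).2 fun s hs => by
        show φ g s = φ h s
        exact congrArg Subtype.val (DFunLike.congr_fun hgh ⟨s, hs⟩)
    exact this (hS ▸ Subgroup.mem_top x)
  haveI := Fintype.ofFinite N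
  have hStle : Nat.card St ≤ (Nat.card N - 1).descFactorial S.card := by
    refine (Nat.card_le_card_of_injective emb hemb).trans (le_of_eq ?_)
    rw [Nat.card_eq_fintype_card, Fintype.card_embedding_eq, Fintype.card_coe, Fintype.card_subtype_compl,
      Fintype.card_subtype_eq, Nat.card_eq_fintype_card]
  by_cases hDbot : D = ⊥
  · -- the regular case
    have hNn : Nat.card N = n := by rw [← hcardN, hDbot, Subgroup.card_bot, one_mul]
    have hD0 : clen D = 0 := by rw [hDbot]; exact clen_eq_zero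
    have := arith_regular (c₁ := clen N) (c₂ := clen St) (d := S.card) (e := Nat.card St) h2
      (hNn ▸ two_pow_clen_le) (hNn ▸ clen_le_cardFactors) (hNn ▸ hScard) two_pow_clen_le clen_le_cardFactors
      (hNn ▸ hStle) hSt3
    omega
  -- N is non-abelian
  have hna : ¬ IsMulCommutative N := by
    intro hab
    refine hDbot ((Subgroup.eq_bot_iff_forall _).2 fun d hd => Subtype.ext (eq_of_smul_eq_smul fun y : Ω => ?_))
    obtain ⟨m, rfl⟩ := MulAction.exists_smul_eq N α y
    show ((d : N) : G) • (m • α) = (1 : G) • (m • α)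
    rw [one_smul]
    show d • m • α = m • α
    rw [← mul_smul, show d * m = m * d from hab.is_comm.comm d m, mul_smul, show d • α = α from hd]
  have hsoc := hN.socle_eq_top
  have hZ := hN.center_eq_bot hna
  have hna' : ∀ S : Subgroup N, IsMinNormal S → ¬ IsMulCommutative S :=
    fun S hS => hN.not_isMulCommutative_minNormal hna hS
  haveI := Fintype.ofFinite (Subgroup N)
  set M : Finset (Subgroup N) := Finset.univ.filter IsMinNormal with hMdef
  have hM : ∀ S, S ∈ M ↔ IsMinNormal S := fun S => by simp [hMdef]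
  have hMtop : M.sup id = ⊤ := by
    rw [← top_le_iff, ← hsoc]
    exact sSup_le fun S hS => Finset.le_sup (f := id) ((hM S).2 hS)
  obtain ⟨m1, m2, m3⟩ := sup_facts hsoc hZ hna' D M fun S hS => (hM S).1 hS
  rw [hMtop] at m1 m2 m3
  rw [clen_congr Subgroup.topEquiv] at m1
  rw [Subgroup.card_top] at m2
  rw [clen_congr Subgroup.topEquiv, top_inf_eq] at m3
  have hφD : ∀ (g : St) (x : N), x ∈ D → φ g x ∈ D := by
    intro g x hx
    show ((φ g x : N) : G) • α = α
    rw [hφ, mul_smul, mul_smul]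
    have hg : (g : G) • α = α := g.2
    have hg' : (g : G)⁻¹ • α = α := by rw [inv_smul_eq_iff, hg]
    rw [hg', show ((x : N) : G) • α = α from hx, hg]
  by_cases hnonsemi : ∃ T : Subgroup N, IsMinNormal T ∧ T ⊓ D ≠ ⊥
  · exfalso
    obtain ⟨T, hT, hTD⟩ := hnonsemi
    apply hsmall
    refine le_trans (m3 fun S hS hSD => hTD ?_) (Nat.le_succ _)
    obtain ⟨g, hg⟩ := hN.exists_conj_eq hna hT ((hM S).1 hS)
    obtain ⟨m, hm⟩ := MulAction.exists_smul_eq N (g • α) α
    let h : St := ⟨(m : G) * g, by rw [hSt, MulAction.mem_stabilizer_iff, mul_smul]; exact hm⟩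
    refine (Subgroup.eq_bot_iff_forall _).2 fun x hx => ?_
    have h1 : φ h x ∈ S := by
      have : φ h x = m * conjAut N g x * m⁻¹ := by
        apply Subtype.ext
        rw [hφ]
        simp [h, conjAut, mul_assoc]
      rw [this]
      exact ((hM S).1 hS).normal.conj_mem _ (hg ▸ Subgroup.mem_map_of_mem _ hx.1) m
    have h12 : φ h x ∈ S ⊓ D := ⟨h1, hφD h x hx.2⟩
    rw [hSD, Subgroup.mem_bot] at h12
    exact (φ h).map_eq_one_iff.1 h12
  push Not at hnonsemi
  -- subdirectness
  have hsub : ∀ S : Subgroup N, IsMinNormal S → D ⊔ centralizer (S : Set N) = ⊤ := by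
    set P : Subgroup N := ⨅ S ∈ M, D ⊔ centralizer (S : Set N) with hP
    have hmemP : ∀ x, x ∈ P ↔ ∀ S ∈ M, x ∈ D ⊔ centralizer (S : Set N) := fun x => by simp [hP, Subgroup.mem_iInf]
    have hDP : D ≤ P := fun x hx => (hmemP x).2 fun S _ => le_sup_left (a := D) hx
    have hinv : ∀ (g : St) x, x ∈ P → φ g x ∈ P := by
      intro g x hx
      refine (hmemP _).2 fun S hS => ?_
      have hS' : IsMinNormal (S.map (φ g⁻¹).toMonoidHom) := ((hM S).1 hS).map_equiv _
      have hx' := (hmemP x).1 hx _ ((hM _).2 hS')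
      have hle : D ⊔ centralizer ((S.map (φ g⁻¹).toMonoidHom : Subgroup N) : Set N) ≤
          (D ⊔ centralizer (S : Set N)).comap (φ g).toMonoidHom := by
        refine sup_le (fun y hy => Subgroup.mem_sup_left (hφD g y hy)) fun y hy => Subgroup.mem_sup_right ?_
        intro s hs
        have e : φ g (φ g⁻¹ s) = s := by
          rw [← MulAut.mul_apply, ← map_mul, mul_inv_cancel, map_one]; rfl
        have := congrArg (φ g) (hy (φ g⁻¹ s) ⟨s, hs, rfl⟩)
        rw [map_mul, map_mul, e] at this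
        exact this
      exact hle hx'
    set P' := P.map N.subtype
    have hnorm : St ≤ normalizer (P' : Set G) := by
      intro g hg
      rw [Subgroup.mem_normalizer_iff]
      intro y
      constructor
      · rintro ⟨x, hx, rfl⟩
        exact ⟨φ ⟨g, hg⟩ x, hinv _ x hx, hφ _ _⟩
      · rintro ⟨x, hx, hxy⟩
        refine ⟨φ ⟨g, hg⟩⁻¹ x, hinv _ x hx, ?_⟩
        show ((φ _ x : N) : G) = y
        rw [hφ]
        simp only [InvMemClass.coe_inv, inv_inv]
        rw [show (x : G) = g * y * g⁻¹ from hxy]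
        group
    have hL : St ⊔ P' = St ∨ St ⊔ P' = ⊤ := by
      rcases eq_or_lt_of_le (le_sup_left : St ≤ St ⊔ P') with h | h
      · exact Or.inl h.symm
      · exact Or.inr ((MulAction.IsPreprimitive.isCoatom_stabilizer_of_isPreprimitive G α).2 _ h)
    intro S hS
    rcases hL with hL | hL
    · exfalso
      have hPD : P ≤ D := fun x hx => show ((x : N) : G) • α = α from
        (hL ▸ Subgroup.mem_sup_right (Subgroup.mem_map_of_mem _ hx) : ((x : N) : G) ∈ St)
      have key : ∀ T : Subgroup N, IsMinNormal T → D ≤ centralizer (T : Set N) := by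
        intro T hT x hx
        haveI := hT.normal
        have hTC : T ⊔ centralizer (T : Set N) = ⊤ := by
          rw [← top_le_iff, ← hsoc]
          refine sSup_le fun S hS => ?_
          rcases eq_or_ne S T with rfl | hne
          · exact le_sup_left
          · exact le_sup_of_le_right (hS.le_centralizer hT hne)
        obtain ⟨τ, hτ, z, hz, rfl⟩ := Subgroup.mem_sup_of_normal_left.1
          (hTC ▸ mem_top x : x ∈ T ⊔ centralizer (T : Set N))
        have hτP : τ ∈ P := (hmemP τ).2 fun S hS => by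
          rcases eq_or_ne S T with rfl | hne
          · rw [show τ = (τ * z) * z⁻¹ by rw [mul_inv_cancel_right]]
            exact mul_mem (Subgroup.mem_sup_left hx) (inv_mem (Subgroup.mem_sup_right hz))
          · exact Subgroup.mem_sup_right (hT.le_centralizer ((hM S).1 hS) (Ne.symm hne) hτ)
        have hτ1 : τ ∈ T ⊓ D := ⟨hτ, hPD hτP⟩
        rw [hnonsemi T hT, Subgroup.mem_bot] at hτ1
        rw [hτ1, one_mul]
        exact hz
      exact hDbot ((Subgroup.eq_bot_iff_forall _).2 fun d hd =>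
        central_eq_one hsoc hZ fun T hT y hy => key T hT hd y hy)
    · rw [← top_le_iff]
      intro x _
      have hx : (x : G) ∈ ((St ⊔ P' : Subgroup G) : Set G) := by rw [hL]; trivial
      rw [Subgroup.coe_mul_of_left_le_normalizer_right St P' hnorm] at hx
      obtain ⟨g, hg, _, ⟨p, hp, rfl⟩, hgp⟩ := hx
      have hgN : g ∈ N := by
        rw [show g = (x : G) * ((p : N) : G)⁻¹ from eq_mul_inv_of_mul_eq hgp]
        exact N.mul_mem x.2 (N.inv_mem p.2)
      have hxP : x ∈ P := by
        rw [show x = (⟨g, hgN⟩ : N) * p from Subtype.ext hgp.symm]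
        exact P.mul_mem (hDP hg) hp
      exact (hmemP x).1 hxP S ((hM S).2 hS)
  have hDD := card_sq_le hsoc hZ hna' D hnonsemi hsub
  -- arithmetic
  have hD1 : 1 ≤ clen D := by
    haveI := (Subgroup.nontrivial_iff_ne_bot D).2 hDbot
    exact one_le_clen
  have hM3 : 3 ≤ M.card := by omega
  have hNn : Nat.card N ≤ n * n := by
    rw [← hcardN] at hDD ⊢
    have : Nat.card D ≤ n := Nat.le_of_mul_le_mul_left hDD Nat.card_pos
    exact Nat.mul_le_mul_right _ this
  have hn256 : 256 ≤ n := by
    by_contra hlt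
    have : 41 ^ 3 ≤ n * n := le_trans (le_trans (Nat.pow_le_pow_right (by norm_num) hM3) m2) hNn
    nlinarith
  set L := Nat.log 2 n
  have hL8 : 8 ≤ L := Nat.le_log_of_pow_le (by norm_num) (by simpa using hn256)
  have hnlt : n < 2 ^ (L + 1) := Nat.lt_pow_succ_log_self (by norm_num) n
  have hnge : 2 ^ L ≤ n := Nat.pow_log_le_self 2 (by omega)
  have hNlt : Nat.card N < 2 ^ (2 * L + 2) := by
    refine hNn.trans_lt (lt_of_lt_of_le (Nat.mul_lt_mul_of_lt_of_lt hnlt hnlt) (le_of_eq ?_))
    rw [← pow_add]; congr 1; omega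
  have a1 : clen N ≤ 2 * L + 1 := Nat.le_of_lt_succ (lt_of_two_pow_le two_pow_clen_le hNlt)
  have a2 : S.card ≤ 2 * L + 1 := Nat.le_of_lt_succ (lt_of_two_pow_le hScard hNlt)
  have a3 : clen St ≤ (2 * L + 2) * (2 * L + 1) := by
    refine (Nat.pow_le_pow_iff_right (show 1 < 2 by norm_num)).1 ?_
    calc 2 ^ clen St ≤ Nat.card St := two_pow_clen_le
      _ ≤ (Nat.card N - 1) ^ S.card := hStle.trans (Nat.descFactorial_le_pow _ _)
      _ ≤ (2 ^ (2 * L + 2)) ^ S.card := Nat.pow_le_pow_left (by omega) _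
      _ ≤ (2 ^ (2 * L + 2)) ^ (2 * L + 1) := Nat.pow_le_pow_right (by positivity) a2
      _ = _ := (pow_mul 2 _ _).symm
  have := arith_large L hL8
  have : 2 ^ L - 1 ≤ n - 1 := by omega
  omega

end Primitive

theorem bound_all : ∀ n, Bound.{v} n := by
  intro n
  induction n using Nat.strong_induction_on with
  | _ n hIH =>
    intro Ω _ H hn
    classical
    haveI : FaithfulSMul H Ω := ⟨fun {g h} hgh => Subtype.ext (Equiv.ext hgh)⟩
    rcases Nat.eq_zero_or_pos n with rfl | hpos
    · haveI : IsEmpty Ω := Fintype.card_eq_zero_iff.1 hn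
      haveI : Subsingleton H := ⟨fun g h => Subtype.ext (Equiv.ext fun x => isEmptyElim x)⟩
      have : numOrbits H Ω = 0 := Nat.card_eq_zero.2 (Or.inl ⟨fun q => q.inductionOn' fun y => isEmptyElim y⟩)
      rw [clen_eq_zero, this]
    rcases Nat.lt_or_ge (numOrbits H Ω) 2 with hr | hr
    swap
    · exact intransitive_step hn hIH hr
    haveI : Nonempty Ω := Fintype.card_pos_iff.1 (by omega)
    have hr1 : numOrbits H Ω = 1 := le_antisymm (by omega) one_le_numOrbits
    haveI : MulAction.IsPretransitive H Ω := ⟨fun x y => by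
      haveI : Subsingleton (Quotient (MulAction.orbitRel H Ω)) := (Nat.card_eq_one_iff_unique.1 hr1).1
      obtain ⟨g, hg⟩ := Quotient.exact (Subsingleton.elim (Quotient.mk (MulAction.orbitRel H Ω) y) (Quotient.mk _ x))
      exact ⟨g, hg⟩⟩
    suffices 3 * clen H + 4 ≤ 4 * n by omega
    rcases Nat.lt_or_ge n 2 with h2 | h2
    · haveI : Subsingleton Ω := Fintype.card_le_one_iff_subsingleton.1 (by omega)
      haveI : Subsingleton H := ⟨fun g h => Subtype.ext (Equiv.ext fun x => Subsingleton.elim _ _)⟩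
      rw [clen_eq_zero]; omega
    by_cases hp : MulAction.IsPreprimitive H Ω
    · exact primitive_step hn hIH h2 hp
    · obtain ⟨B, hB, hne, huniv⟩ : ∃ B : Set Ω, MulAction.IsBlock H B ∧ B.Nontrivial ∧ B ≠ Set.univ := by
        by_contra hcon
        push Not at hcon
        refine hp ⟨fun {B} hB => ?_⟩
        rcases B.subsingleton_or_nontrivial with h | h
        · exact Or.inl h
        · exact Or.inr (hcon B hB h)
      exact imprimitive_step hn hIH hB hne huniv

theorem three_mul_clen_le {G : Type u} [Group G] [Finite G] {Ω : Type v} [Fintype Ω] [MulAction G Ω]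
    [FaithfulSMul G Ω] : 3 * clen G + 4 * numOrbits G Ω ≤ 4 * Fintype.card Ω :=
  bound_of_faithful rfl (bound_all _)

end CfsgLib.Maximal.CompLengthBound
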