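import Cfsg.Agent.Lib.Maximal.CASimpleChar
import Cfsg.Agent.Lib.StrongEmbedding.PSLTwo

/-!
# The simple groups in which commuting is transitive on non-identity elements
-/

set_option autoImplicit false

namespace CfsgLib.CASimple

open Subgroup

universe u

/-- Commuting is transitive on non-identity elements. -/
def CT (G : Type*) [Group G] : Prop :=
  ∀ a b c : G, a ≠ 1 → b ≠ 1 → c ≠ 1 → Commute a b → Commute b c → Commute a c

theorem ca_of_ct {G : Type u} [Group G] (h : CT G) : CA G := by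
  intro x hx a ha b hb
  by_cases ha1 : a = 1
  · simp [ha1]
  by_cases hb1 : b = 1
  · simp [hb1]
  exact h a x b ha1 hx hb1 (mem_centralizer_singleton_iff.1 ha)
    (mem_centralizer_singleton_iff.1 hb).symm

theorem exists_psl_of_ca {G : Type u} [Group G] [Finite G] [IsSimpleGroup G] (hCA : CA G)
    (hnc : ¬ ∀ a b : G, a * b = b * a) :
    ∃ (F : Type) (_ : Field F) (_ : Fintype F) (f : ℕ), 2 ≤ f ∧ Fintype.card F = 2 ^ f ∧
      Nonempty (G ≃* Matrix.ProjectiveSpecialLinearGroup (Fin 2) F) := by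
  classical
  haveI : Fintype G := Fintype.ofFinite G
  haveI : Fact (Nat.Prime 2) := ⟨Nat.prime_two⟩
  obtain ⟨S⟩ := Setup.exists_setup hCA hnc
  have hexp : ∀ y ∈ S.A, y * y = 1 := fun y hy => S.sq_eq_one hy
  have hA2 : IsPGroup 2 S.A := fun x => ⟨1, Subtype.ext (by
    simpa [pow_two] using hexp x x.2)⟩
  let T : Sylow 2 G := hA2.toSylow (by
    obtain ⟨k, hk⟩ := S.odd_index
    omega)
  have hT : (T : Subgroup G) = S.A := rfl
  have hcard : 4 ≤ Nat.card S.A := by
    have h1 : (insert 1 S.invs).card ≤ Nat.card S.A := by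
      rw [Nat.card_eq_fintype_card, Fintype.card_subtype]
      refine Finset.card_le_card fun x hx => Finset.mem_filter.2 ⟨Finset.mem_univ x, ?_⟩
      rcases Finset.mem_insert.1 hx with rfl | hx
      · exact one_mem _
      · exact (S.mem_invs.1 hx).1
    rw [Finset.card_insert_of_notMem (by simp [S.mem_invs])] at h1
    have := S.three_le_invs_card
    omega
  have hnc' : ¬ IsCyclic (T : Subgroup G) := by
    rw [hT]
    intro h
    have h1 : Monoid.exponent S.A = Nat.card S.A := IsCyclic.exponent_eq_card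
    have h2 : Monoid.exponent S.A ∣ 2 := Monoid.exponent_dvd_of_forall_pow_eq_one fun x =>
      Subtype.ext (by simpa [pow_two] using hexp x x.2)
    have := Nat.le_of_dvd (by norm_num) h2
    omega
  have hnn : ¬ (T : Subgroup G).Normal := by
    rw [hT]
    exact fun h => (S.simple S.A h).elim S.A_ne_bot S.A_ne_top
  have hC : ∀ s : G, orderOf s = 2 → IsMulCommutative (centralizer ({s} : Set G)) ∧
      ∀ c ∈ centralizer ({s} : Set G), c ^ 2 = 1 := by
    intro s hs
    refine ⟨⟨⟨fun a b => Subtype.ext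
      (hCA s (CfsgLib.Involutions.ne_one_of_involution hs) a a.2 b b.2)⟩⟩, fun c hc => ?_⟩
    obtain ⟨g, hg⟩ := isConj_iff.1 (S.conj s S.t hs S.ht)
    have h1 : g * c * g⁻¹ ∈ S.A := by
      show g * c * g⁻¹ ∈ centralizer ({S.t} : Set G)
      rw [← hg]
      exact (conj_mem_cent g s c).2 hc
    have h2 := hexp _ h1
    rw [← pow_two, conj_pow, conj_eq_one_iff] at h2
    exact h2
  obtain ⟨F, iF, iF', hF, hiso⟩ :=
    CfsgLib.StrongEmbedding.PSLTwo.exists_psl (T := T) ⟨hnc', hnn, hC⟩
  obtain ⟨f, hf⟩ := hA2.exists_card_eq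
  refine ⟨F, iF, iF', f, ?_, by rw [hF, hT, hf], hiso⟩
  rw [hf] at hcard
  by_contra h
  have := Nat.pow_le_pow_right (show 2 > 0 by norm_num) (show f ≤ 1 by omega)
  omega

section Linear

variable {F : Type*} [Field F]

/-- Two matrices commuting with a non-scalar one commute. -/
theorem commute_of_commute_nonscalar {A B C : Matrix (Fin 2) (Fin 2) F}
    (hB : ¬ (B 0 1 = 0 ∧ B 1 0 = 0 ∧ B 0 0 = B 1 1)) (h1 : A * B = B * A) (h2 : C * B = B * C) :
    A * C = C * A := by
  have e1 := congrFun (congrFun h1 0) 0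
  have e2 := congrFun (congrFun h1 0) 1
  have e3 := congrFun (congrFun h1 1) 0
  have g1 := congrFun (congrFun h2 0) 0
  have g2 := congrFun (congrFun h2 0) 1
  have g3 := congrFun (congrFun h2 1) 0
  simp only [Matrix.mul_apply, Fin.sum_univ_two] at e1 e2 e3 g1 g2 g3
  set q := B 0 1
  set r := B 1 0
  set d := B 0 0 - B 1 1 with hd
  have a1 : A 0 1 * r = A 1 0 * q := by linear_combination e1
  have a2 : (A 0 0 - A 1 1) * q = A 0 1 * d := by rw [hd]; linear_combination e2
  have a3 : (A 0 0 - A 1 1) * r = A 1 0 * d := by rw [hd]; linear_combination -e3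
  have c1 : C 0 1 * r = C 1 0 * q := by linear_combination g1
  have c2 : (C 0 0 - C 1 1) * q = C 0 1 * d := by rw [hd]; linear_combination g2
  have c3 : (C 0 0 - C 1 1) * r = C 1 0 * d := by rw [hd]; linear_combination -g3
  have key : A 0 1 * C 1 0 = C 0 1 * A 1 0 ∧
      (A 0 0 - A 1 1) * C 0 1 = (C 0 0 - C 1 1) * A 0 1 ∧
      (A 0 0 - A 1 1) * C 1 0 = (C 0 0 - C 1 1) * A 1 0 := by
    by_cases hq : q = 0
    · by_cases hr : r = 0
      · have hd0 : d ≠ 0 := fun h => hB ⟨hq, hr, sub_eq_zero.1 h⟩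
        have x1 : A 0 1 = 0 := by simpa [hq, hd0] using a2
        have x2 : A 1 0 = 0 := by simpa [hr, hd0] using a3
        have x3 : C 0 1 = 0 := by simpa [hq, hd0] using c2
        have x4 : C 1 0 = 0 := by simpa [hr, hd0] using c3
        simp [x1, x2, x3, x4]
      · have hk : A 0 1 * C 1 0 = C 0 1 * A 1 0 := mul_left_cancel₀ hr (by
          linear_combination C 1 0 * a1 - A 1 0 * c1)
        refine ⟨hk, mul_left_cancel₀ hr ?_, mul_left_cancel₀ hr ?_⟩
        · linear_combination C 0 1 * a3 - A 0 1 * c3 - d * hk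
        · linear_combination C 1 0 * a3 - A 1 0 * c3
    · have hk : A 0 1 * C 1 0 = C 0 1 * A 1 0 := mul_left_cancel₀ hq (by
        linear_combination C 0 1 * a1 - A 0 1 * c1)
      refine ⟨hk, mul_left_cancel₀ hq ?_, mul_left_cancel₀ hq ?_⟩
      · linear_combination C 0 1 * a2 - A 0 1 * c2
      · linear_combination C 1 0 * a2 - A 1 0 * c2 + d * hk
  obtain ⟨k1, k2, k3⟩ := key
  ext i j
  fin_cases i <;> fin_cases j <;> simp [Matrix.mul_apply, Fin.sum_univ_two]
  · linear_combination k1
  · linear_combination k2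
  · linear_combination -k3
  · linear_combination -k1

theorem center_sl_eq_bot [CharP F 2] :
    Subgroup.center (Matrix.SpecialLinearGroup (Fin 2) F) = ⊥ := by
  refine eq_bot_iff.2 fun M hM => ?_
  obtain ⟨r, hr, hrM⟩ := Matrix.SpecialLinearGroup.mem_center_iff.1 hM
  rw [Fintype.card_fin] at hr
  have h1 : r = 1 := by
    have h2 : (r - 1) ^ 2 = 0 := by
      linear_combination hr + (1 - r) * (CharTwo.two_eq_zero (R := F))
    exact sub_eq_zero.1 (pow_eq_zero_iff (n := 2) two_ne_zero |>.1 h2)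
  refine Subgroup.mem_bot.2 (Subtype.ext ?_)
  rw [← hrM, h1]
  simp

theorem ct_psl [CharP F 2] : CT (Matrix.ProjectiveSpecialLinearGroup (Fin 2) F) := by
  intro a b c ha hb hc hab hbc
  induction a using QuotientGroup.induction_on with | _ a =>
  induction b using QuotientGroup.induction_on with | _ b =>
  induction c using QuotientGroup.induction_on with | _ c =>
  have hlift : ∀ x y : Matrix.SpecialLinearGroup (Fin 2) F,
      Commute (QuotientGroup.mk x : Matrix.ProjectiveSpecialLinearGroup (Fin 2) F)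
        (QuotientGroup.mk y) → x * y = y * x := by
    intro x y h
    have h2 := QuotientGroup.eq.1 ((QuotientGroup.mk_mul _ x y).trans
      (h.eq.trans (QuotientGroup.mk_mul _ y x).symm))
    rw [center_sl_eq_bot, Subgroup.mem_bot, inv_mul_eq_one] at h2
    exact h2
  suffices h : a * c = c * a by
    show (QuotientGroup.mk a : Matrix.ProjectiveSpecialLinearGroup (Fin 2) F) * QuotientGroup.mk c =
      QuotientGroup.mk c * QuotientGroup.mk a
    rw [← QuotientGroup.mk_mul, h, QuotientGroup.mk_mul]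
  refine Subtype.ext ?_
  show (a : Matrix (Fin 2) (Fin 2) F) * (c : Matrix (Fin 2) (Fin 2) F) =
    (c : Matrix (Fin 2) (Fin 2) F) * (a : Matrix (Fin 2) (Fin 2) F)
  refine commute_of_commute_nonscalar (B := (b : Matrix (Fin 2) (Fin 2) F)) ?_
    (congrArg Subtype.val (hlift a b hab)) (congrArg Subtype.val (hlift c b hbc.symm))
  rintro ⟨h1, h2, h3⟩
  refine hb ((QuotientGroup.eq_one_iff b).2 (Matrix.SpecialLinearGroup.mem_center_iff.2
    ⟨b.1 0 0, ?_, ?_⟩))
  · have hd := b.2
    rw [Matrix.det_fin_two, h1, zero_mul, sub_zero, ← h3] at hd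
    rw [Fintype.card_fin, pow_two]
    exact hd
  · ext i j
    fin_cases i <;> fin_cases j <;> simp [Matrix.scalar_apply, h1, h2, h3]

end Linear

theorem ct_iff {G : Type u} [Group G] [Finite G] [IsSimpleGroup G]
    (hG : ¬ IsMulCommutative G) :
    CT G ↔ ∃ (F : Type) (_ : Field F) (_ : Fintype F) (f : ℕ), 2 ≤ f ∧ Fintype.card F = 2 ^ f ∧
      Nonempty (G ≃* Matrix.ProjectiveSpecialLinearGroup (Fin 2) F) := by
  refine ⟨fun h => exists_psl_of_ca (ca_of_ct h) fun hc => hG ⟨⟨hc⟩⟩, ?_⟩
  rintro ⟨F, iF, iF', f, hf, hcard, ⟨e⟩⟩ a b c ha hb hc hab hbc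
  haveI : Fact (Nat.Prime 2) := ⟨Nat.prime_two⟩
  haveI : CharP F 2 := charP_of_card_eq_prime_pow hcard
  have h := ct_psl (F := F) (e a) (e b) (e c) (by simpa using ha) (by simpa using hb)
    (by simpa using hc) (hab.map e) (hbc.map e)
  simpa using h.map e.symm

end CfsgLib.CASimple
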