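import Cfsg.Agent.Lib.Orth.Basic
import Cfsg.Prelude.Def_GeometricClasses

/-!
Coordinates for tensor decompositions: pure tensors, the action of the tensor stabiliser, forms on
pure tensors, commutators of isometries in `omegaGL`.
-/

set_option autoImplicit false
set_option linter.unusedSectionVars false

namespace CfsgLib.Maximal.TensorTools

open Matrix QuadraticMap
open scoped Kronecker commutatorElement

variable {ι : Type} [Fintype ι] [DecidableEq ι] {F : Type*} [Field F]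

/-- A quadratic function as a quadratic form. -/
def quadOf {Q : (ι → F) → F} (hQ : Cfsg.Geo.IsNondegenerateQuadraticForm Q) : QuadraticForm F (ι → F) :=
  QuadraticMap.ofPolar Q (fun a x => by rw [hQ.smul, smul_eq_mul, pow_two]) hQ.polar_bilinear.add_left
    hQ.polar_bilinear.smul_left

@[simp] lemma quadOf_coe {Q : (ι → F) → F} (hQ : Cfsg.Geo.IsNondegenerateQuadraticForm Q) :
    ⇑(quadOf hQ) = Q := rfl

lemma isometry_of_omega {Q : (ι → F) → F} {g : GL ι F} (hg : g ∈ Cfsg.Geo.omegaGL Q) :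
    g ∈ Cfsg.isometryGroup F Q := by
  obtain ⟨h, -, rfl⟩ := hg
  exact h.2

lemma omega_polar {Q : (ι → F) → F} (hQ : Cfsg.Geo.IsNondegenerateQuadraticForm Q) {g : GL ι F}
    (hg : g ∈ Cfsg.Geo.omegaGL Q) (x y : ι → F) :
    polar Q ((g : Matrix ι ι F) *ᵥ x) ((g : Matrix ι ι F) *ᵥ y) = polar Q x y :=
  CfsgLib.Orth.polar_app (Q := quadOf hQ) ⟨g, isometry_of_omega hg⟩ x y

lemma commutator_mem_omega {Q : QuadraticForm F (ι → F)} (g h : CfsgLib.Orth.O Q) :
    ((⁅g, h⁆ : CfsgLib.Orth.O Q) : GL ι F) ∈ Cfsg.Geo.omegaGL ⇑Q :=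
  ⟨⁅g, h⁆, Subgroup.commutator_mem_commutator (Subgroup.mem_top g) (Subgroup.mem_top h), rfl⟩

/-- Coordinates. -/
noncomputable def coord {κ : Type} [Fintype κ] (e : ι ≃ κ) (P : GL ι F) : (κ → F) ≃ₗ[F] (ι → F) :=
  (LinearEquiv.funCongrLeft F F e).trans (Matrix.GeneralLinearGroup.toLin P |> LinearMap.GeneralLinearGroup.toLinearEquiv)

lemma coord_apply {κ : Type} [Fintype κ] (e : ι ≃ κ) (P : GL ι F) (x : κ → F) :
    coord e P x = (P : Matrix ι ι F) *ᵥ (x ∘ e) := rfl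

lemma conj_reindex_mulVec {κ : Type} [Fintype κ] [DecidableEq κ] (e : ι ≃ κ) (P : GL ι F) (k : GL κ F)
    (x : κ → F) :
    ((MulAut.conj P (Cfsg.Geo.glReindex e.symm k) : GL ι F) : Matrix ι ι F) *ᵥ coord e P x =
      coord e P ((k : Matrix κ κ F) *ᵥ x) := by
  rw [coord_apply, coord_apply, MulAut.conj_apply, Units.val_mul, Units.val_mul, ← Matrix.mulVec_mulVec,
    ← Matrix.mulVec_mulVec]
  congr 1
  rw [Matrix.mulVec_mulVec (v := x ∘ e) (M := ((P⁻¹ : GL ι F) : Matrix ι ι F)),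
    ← Units.val_mul, inv_mul_cancel, Units.val_one, Matrix.one_mulVec]
  show (Matrix.reindexAlgEquiv F F e.symm (k : Matrix κ κ F)) *ᵥ (x ∘ e) = _
  simp [Matrix.reindexAlgEquiv_apply, Matrix.submatrix_mulVec_equiv, Function.comp_assoc]

variable {n₁ n₂ : ℕ}

/-- A pure tensor. -/
def pure (v : Fin n₁ → F) (w : Fin n₂ → F) : Fin n₁ × Fin n₂ → F := fun a => v a.1 * w a.2

lemma kronecker_mulVec_pure (a : Matrix (Fin n₁) (Fin n₁) F) (b : Matrix (Fin n₂) (Fin n₂) F)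
    (v : Fin n₁ → F) (w : Fin n₂ → F) : (a ⊗ₖ b) *ᵥ pure v w = pure (a *ᵥ v) (b *ᵥ w) := by
  funext ⟨i, j⟩
  simp only [Matrix.mulVec, dotProduct, pure, Fintype.sum_prod_type, Matrix.kroneckerMap_apply,
    Finset.sum_mul_sum]
  exact Finset.sum_congr rfl fun c _ => Finset.sum_congr rfl fun d _ => by ring

/-- Elements of the tensor stabiliser act factorwise on pure tensors. -/
lemma exists_factors {e : ι ≃ Fin n₁ × Fin n₂} {P : GL ι F} {g : GL ι F}
    (hg : g ∈ Cfsg.Geo.tensorProductSubgroup n₁ n₂ e P) :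
    ∃ (a : GL (Fin n₁) F) (b : GL (Fin n₂) F), ∀ v w,
      (g : Matrix ι ι F) *ᵥ coord e P (pure v w) =
        coord e P (pure ((a : Matrix (Fin n₁) (Fin n₁) F) *ᵥ v) ((b : Matrix (Fin n₂) (Fin n₂) F) *ᵥ w)) := by
  obtain ⟨_, ⟨k, ⟨a, b, hk⟩, rfl⟩, rfl⟩ := hg
  refine ⟨a, b, fun v w => ?_⟩
  show ((MulAut.conj P (Cfsg.Geo.glReindex e.symm k) : GL ι F) : Matrix ι ι F) *ᵥ _ = _
  rw [conj_reindex_mulVec, hk, kronecker_mulVec_pure]

lemma bilinear_expand {m : ℕ} {f : (Fin m → F) → (Fin m → F) → F} (hf : Cfsg.Geo.IsBilinearForm f)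
    (v w : Fin m → F) : f v w = ∑ a, ∑ b, v a * Cfsg.Geo.gramMatrix f a b * w b := by
  let B : LinearMap.BilinForm F (Fin m → F) := LinearMap.mk₂ F f hf.add_left
    (fun c x y => by rw [hf.smul_left, smul_eq_mul]) (fun x y z => hf.add_right x y z)
    (fun c x y => by rw [hf.smul_right, smul_eq_mul])
  show B v w = _
  conv_lhs => rw [pi_eq_sum_univ' v, pi_eq_sum_univ' w]
  simp only [map_sum, map_smul, LinearMap.sum_apply, LinearMap.smul_apply, smul_eq_mul, Finset.mul_sum]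
  rw [Finset.sum_comm]
  refine Finset.sum_congr rfl fun a _ => Finset.sum_congr rfl fun b _ => ?_
  show _ * (_ * f _ _) = _
  rw [Cfsg.Geo.gramMatrix]; ring

/-- The tensor form on pure tensors. -/
lemma tensor_form_pure {f : (ι → F) → (ι → F) → F} {f₁ : (Fin n₁ → F) → (Fin n₁ → F) → F}
    {f₂ : (Fin n₂ → F) → (Fin n₂ → F) → F} (h₁ : Cfsg.Geo.IsBilinearForm f₁)
    (h₂ : Cfsg.Geo.IsBilinearForm f₂) {e : ι ≃ Fin n₁ × Fin n₂} {P : GL ι F}
    (hT : Cfsg.Geo.IsTensorFormStructure id f f₁ f₂ e P) :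
    ∃ c : F, c ≠ 0 ∧ ∀ v w v' w',
      f (coord e P (pure v w)) (coord e P (pure v' w')) = c * (f₁ v v' * f₂ w w') := by
  obtain ⟨c, hc, h⟩ := hT
  refine ⟨c, hc, fun v w v' w' => ?_⟩
  rw [coord_apply, coord_apply, h]
  congr 1
  rw [bilinear_expand h₁ v v', bilinear_expand h₂ w w', Finset.sum_mul_sum]
  simp only [Cfsg.Geo.formOfGram, pure, id, Fintype.sum_prod_type, Matrix.kroneckerMap_apply,
    Finset.sum_mul_sum]
  exact Finset.sum_congr rfl fun a _ => Finset.sum_congr rfl fun a' _ =>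
    Finset.sum_congr rfl fun b _ => Finset.sum_congr rfl fun b' _ => by ring

end CfsgLib.Maximal.TensorTools
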