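import Cfsg.Agent.Lib.Maximal.TensorTools

/-!
Coordinates for tensor powers: pure tensors, slot operators, the tensor wreath group, forms on pure tensors.
-/

set_option autoImplicit false
set_option linter.unusedSectionVars false

namespace CfsgLib.Maximal.TensorPower

open Matrix QuadraticMap

variable {F : Type*} [Field F] {k t : ℕ}

/-- A pure tensor. -/
def tp (xs : Fin t → Fin k → F) : (Fin t → Fin k) → F := fun a => ∏ i, xs i (a i)

/-- The tensor product of a family of matrices. -/
def pm (as : Fin t → Matrix (Fin k) (Fin k) F) : Matrix (Fin t → Fin k) (Fin t → Fin k) F :=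
  fun a b => ∏ i, as i (a i) (b i)

lemma pm_mulVec (as : Fin t → Matrix (Fin k) (Fin k) F) (xs : Fin t → Fin k → F) :
    pm as *ᵥ tp xs = tp fun i => as i *ᵥ xs i := by
  funext a
  simp only [Matrix.mulVec, dotProduct, pm, tp, ← Finset.prod_mul_distrib]
  rw [Fintype.prod_sum]

lemma pm_mul (as bs : Fin t → Matrix (Fin k) (Fin k) F) : pm as * pm bs = pm fun i => as i * bs i := by
  ext a b
  simp only [Matrix.mul_apply, pm, ← Finset.prod_mul_distrib]
  rw [Fintype.prod_sum]

lemma pm_one : pm (1 : Fin t → Matrix (Fin k) (Fin k) F) = 1 := by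
  ext a b
  simp only [pm, Pi.one_apply, Matrix.one_apply]
  rcases eq_or_ne a b with rfl | h
  · simp
  · obtain ⟨i, hi⟩ := Function.ne_iff.1 h
    rw [if_neg h]
    exact Finset.prod_eq_zero (Finset.mem_univ i) (if_neg hi)

lemma tp_single (b : Fin t → Fin k) :
    tp (fun i => Pi.single (b i) (1 : F)) = Pi.single b 1 := by
  funext a
  simp only [tp, Pi.single_apply]
  rcases eq_or_ne a b with rfl | h
  · simp
  · obtain ⟨i, hi⟩ := Function.ne_iff.1 h
    rw [if_neg h]
    exact Finset.prod_eq_zero (Finset.mem_univ i) (if_neg hi)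

lemma ext_tp {A B : Matrix (Fin t → Fin k) (Fin t → Fin k) F} (h : ∀ xs, A *ᵥ tp xs = B *ᵥ tp xs) : A = B :=
  Matrix.ext_of_mulVec_single fun b => by rw [← tp_single]; exact h _

/-- The operator acting as `a` on the `i`-th factor. -/
def slot (i : Fin t) : Matrix (Fin k) (Fin k) F →ₗ[F] Matrix (Fin t → Fin k) (Fin t → Fin k) F where
  toFun a := pm (Function.update 1 i a)
  map_add' a a' := by
    ext x y
    simp only [pm, Matrix.add_apply, ← Finset.mul_prod_erase Finset.univ _ (Finset.mem_univ i),
      Function.update_self]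
    have h : ∀ c, ∀ j ∈ Finset.univ.erase i,
        Function.update (1 : Fin t → Matrix (Fin k) (Fin k) F) i c j (x j) (y j) = (1 : Matrix (Fin k) (Fin k) F) (x j) (y j) := fun c j hj => by
      rw [Function.update_of_ne (Finset.ne_of_mem_erase hj), Pi.one_apply]
    rw [Finset.prod_congr rfl (h _), Finset.prod_congr rfl (h a), Finset.prod_congr rfl (h a')]
    ring
  map_smul' c a := by
    ext x y
    simp only [pm, RingHom.id_apply, Matrix.smul_apply, smul_eq_mul,
      ← Finset.mul_prod_erase Finset.univ _ (Finset.mem_univ i), Function.update_self]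
    have h : ∀ c, ∀ j ∈ Finset.univ.erase i,
        Function.update (1 : Fin t → Matrix (Fin k) (Fin k) F) i c j (x j) (y j) = (1 : Matrix (Fin k) (Fin k) F) (x j) (y j) := fun c j hj => by
      rw [Function.update_of_ne (Finset.ne_of_mem_erase hj), Pi.one_apply]
    rw [Finset.prod_congr rfl (h _), Finset.prod_congr rfl (h a)]
    ring

lemma slot_apply (i : Fin t) (a : Matrix (Fin k) (Fin k) F) : slot i a = pm (Function.update 1 i a) := rfl

lemma slot_mulVec (i : Fin t) (a : Matrix (Fin k) (Fin k) F) (xs : Fin t → Fin k → F) :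
    slot i a *ᵥ tp xs = tp (Function.update xs i (a *ᵥ xs i)) := by
  rw [slot_apply, pm_mulVec]
  congr 1
  funext j
  rcases eq_or_ne j i with rfl | h
  · simp
  · simp [h]

lemma slot_mul (i : Fin t) (a b : Matrix (Fin k) (Fin k) F) : slot i a * slot i b = slot i (a * b) := by
  rw [slot_apply, slot_apply, pm_mul, slot_apply]
  congr 1
  funext j
  rcases eq_or_ne j i with rfl | h
  · simp
  · simp [h]

lemma slot_one (i : Fin t) : slot i (1 : Matrix (Fin k) (Fin k) F) = 1 := by
  rw [slot_apply, show (1 : Matrix (Fin k) (Fin k) F) = (1 : Fin t → Matrix (Fin k) (Fin k) F) i from rfl,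
    Function.update_eq_self, pm_one]

lemma slot_comm {i j : Fin t} (hij : i ≠ j) (a b : Matrix (Fin k) (Fin k) F) :
    slot i a * slot j b = slot j b * slot i a := by
  rw [slot_apply, slot_apply, pm_mul, pm_mul]
  congr 1
  funext l
  rcases eq_or_ne l i with rfl | h
  · simp [hij]
  · simp [h]

/-- If `Z` commutes with all slot operators, it commutes with every matrix. -/
lemma commute_all {Z : Matrix (Fin t → Fin k) (Fin t → Fin k) F}
    (hZ : ∀ i a, Z * slot i a = slot i a * Z) (M : Matrix (Fin t → Fin k) (Fin t → Fin k) F) : Z * M = M * Z := by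
  classical
  have hpm : ∀ (s : Finset (Fin t)) (as : Fin t → Matrix (Fin k) (Fin k) F), (∀ i ∉ s, as i = 1) →
      Z * pm as = pm as * Z := by
    intro s
    induction s using Finset.induction with
    | empty =>
      intro as h
      rw [show as = 1 from funext fun i => h i (Finset.notMem_empty i), pm_one, mul_one, one_mul]
    | @insert i s hi ih =>
      intro as h
      have e : pm as = slot i (as i) * pm (Function.update as i 1) := by
        rw [slot_apply, pm_mul]
        congr 1
        funext j
        rcases eq_or_ne j i with rfl | hj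
        · simp
        · simp [hj]
      rw [e, ← mul_assoc, hZ, mul_assoc, ih _ (fun j hj => ?_), ← mul_assoc]
      rcases eq_or_ne j i with rfl | hji
      · simp
      · rw [Function.update_of_ne hji]; exact h j (by simp [hji, hj])
  induction M using Matrix.induction_on' with
  | h_zero => simp
  | h_add p q hp hq => rw [mul_add, add_mul, hp, hq]
  | h_std_basis a b c =>
    have e : Matrix.single a b c = c • pm (fun i => Matrix.single (a i) (b i) (1 : F)) := by
      refine ext_tp fun xs => ?_
      rw [Matrix.smul_mulVec, pm_mulVec]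
      funext x
      simp only [tp, Matrix.single_mulVec, Pi.smul_apply, smul_eq_mul, Function.update_apply, Pi.zero_apply, one_mul]
      rcases eq_or_ne x a with rfl | h
      · simp [tp]
      · obtain ⟨i, hi⟩ := Function.ne_iff.1 h
        rw [if_neg h, Finset.prod_eq_zero (Finset.mem_univ i) (if_neg hi), mul_zero]
    rw [e, mul_smul_comm, smul_mul_assoc, hpm Finset.univ _ (fun i hi => absurd (Finset.mem_univ i) hi)]

/-- Acting on pure tensors by a permutation of the factors followed by factorwise maps. -/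
def IsMonomial (g : GL (Fin t → Fin k) F) : Prop :=
  ∃ (σ : Equiv.Perm (Fin t)) (as : Fin t → GL (Fin k) F), ∀ xs,
    (g : Matrix (Fin t → Fin k) (Fin t → Fin k) F) *ᵥ tp xs =
      tp fun i => (as i : Matrix (Fin k) (Fin k) F) *ᵥ xs (σ i)

lemma isMonomial_of_mem {g : GL (Fin t → Fin k) F} (hg : g ∈ Cfsg.Geo.tensorWreathStandard k t F) :
    IsMonomial g := by
  induction hg using Subgroup.closure_induction with
  | mem g hg =>
    rcases hg with ⟨gs, h⟩ | ⟨σ, h⟩
    · refine ⟨1, gs, fun xs => ?_⟩
      rw [show (g : Matrix (Fin t → Fin k) (Fin t → Fin k) F) = pm fun i => (gs i : Matrix (Fin k) (Fin k) F) from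
        Matrix.ext h, pm_mulVec]
      rfl
    · refine ⟨σ⁻¹, fun _ => 1, fun xs => ?_⟩
      funext a
      simp only [Matrix.mulVec, dotProduct, h, ite_mul, one_mul, zero_mul, Finset.sum_ite_eq', Finset.mem_univ, if_true,
        Units.val_one, Matrix.one_mulVec]
      simp only [tp, Function.comp_apply]
      rw [← Equiv.prod_comp σ (fun i => xs (σ⁻¹ i) (a i))]
      simp
  | one => exact ⟨1, fun _ => 1, fun xs => by simp⟩
  | mul g h _ _ hg hh =>
    obtain ⟨σ, as, hg⟩ := hg
    obtain ⟨τ, bs, hh⟩ := hh
    refine ⟨τ * σ, fun i => as i * bs (σ i), fun xs => ?_⟩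
    rw [Units.val_mul, ← Matrix.mulVec_mulVec, hh, hg]
    simp [Matrix.mulVec_mulVec]
  | inv g _ hg =>
    obtain ⟨σ, as, hg⟩ := hg
    refine ⟨σ⁻¹, fun i => (as (σ⁻¹ i))⁻¹, fun xs => ?_⟩
    set ys : Fin t → Fin k → F :=
      fun j => (((as (σ⁻¹ j))⁻¹ : GL (Fin k) F) : Matrix (Fin k) (Fin k) F) *ᵥ xs (σ⁻¹ j)
    have h : tp xs = (g : Matrix (Fin t → Fin k) (Fin t → Fin k) F) *ᵥ tp ys := by
      rw [hg]
      congr 1
      funext i
      simp [ys, Matrix.mulVec_mulVec]
    rw [h, Matrix.mulVec_mulVec, ← Units.val_mul, inv_mul_cancel, Units.val_one, Matrix.one_mulVec]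

lemma bilinear_prod {f : (Fin k → F) → (Fin k → F) → F} (hf : Cfsg.Geo.IsBilinearForm f)
    (xs ys : Fin t → Fin k → F) :
    ∑ a, ∑ b, tp xs a * (∏ i, Cfsg.Geo.gramMatrix f (a i) (b i)) * tp ys b = ∏ i, f (xs i) (ys i) := by
  simp only [TensorTools.bilinear_expand hf, tp, ← Finset.prod_mul_distrib]
  rw [Fintype.prod_sum]
  refine Finset.sum_congr rfl fun a _ => ?_
  rw [Fintype.prod_sum]

end CfsgLib.Maximal.TensorPower
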