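import Cfsg.Agent.Lib.Maximal.TensorTools

/-!
Over the field of three elements a tensor decomposition with a three-dimensional orthogonal factor
refines to an orthogonal decomposition into three subspaces.
-/

set_option autoImplicit false

namespace CfsgLib.Maximal.TensorThree

open Matrix QuadraticMap CfsgLib.Maximal.TensorTools
open scoped commutatorElement

variable {F : Type*} [Field F] [Fintype F]

lemma three_eq_zero (hq : Fintype.card F = 3) : (3 : F) = 0 := by
  have := FiniteField.cast_card_eq_zero F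
  rw [hq] at this
  exact_mod_cast this

lemma two_eq (hq : Fintype.card F = 3) : (2 : F) = -1 := by linear_combination three_eq_zero hq

lemma two_ne (hq : Fintype.card F = 3) : (2 : F) ≠ 0 := by
  rw [two_eq hq]; simp

lemma eq_one_or (hq : Fintype.card F = 3) {x : F} (hx : x ≠ 0) : x = 1 ∨ x = -1 := by
  have h := FiniteField.pow_card_sub_one_eq_one x hx
  rw [hq] at h
  exact sq_eq_one_iff.mp h

lemma fin_three_cases : ∀ i j k l : Fin 3, i ≠ j → i ≠ k → j ≠ k → l = i ∨ l = j ∨ l = k := by decide

lemma fin_three_third : ∀ i j : Fin 3, ∃ r : Fin 3, i ≠ j → ∀ s, s = i ∨ s = j ∨ s = r := by decide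

/-- An orthogonal frame. -/
structure Frame {m : ℕ} (f : (Fin m → F) → (Fin m → F) → F) (b : Fin m → Fin m → F) : Prop where
  ortho : ∀ i j, i ≠ j → f (b i) (b j) = 0
  ne_zero : ∀ i, f (b i) (b i) ≠ 0
  expand : ∀ v, v = ∑ i, (f v (b i) / f (b i) (b i)) • b i

lemma frame_of_ortho {m : ℕ} {f : (Fin m → F) → (Fin m → F) → F} (hf : Cfsg.Geo.IsBilinearForm f)
    (b : Fin m → Fin m → F) (ho : ∀ i j, i ≠ j → f (b i) (b j) = 0) (hn : ∀ i, f (b i) (b i) ≠ 0) :
    Frame f b := by
  refine ⟨ho, hn, fun v => ?_⟩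
  let B : LinearMap.BilinForm F (Fin m → F) := LinearMap.mk₂ F f hf.add_left
    (fun c x y => by rw [hf.smul_left, smul_eq_mul]) (fun x y z => hf.add_right x y z)
    (fun c x y => by rw [hf.smul_right, smul_eq_mul])
  have hpair : ∀ (g : Fin m → F) i, f (∑ j, g j • b j) (b i) = g i * f (b i) (b i) := fun g i => by
    show B (∑ j, g j • b j) (b i) = _
    rw [map_sum, LinearMap.sum_apply, Finset.sum_eq_single i]
    · show f (g i • b i) (b i) = _
      rw [hf.smul_left]
    · intro j _ hj
      show f (g j • b j) (b i) = 0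
      rw [hf.smul_left, ho j i hj, mul_zero]
    · simp
  have hli : LinearIndependent F b := by
    rw [Fintype.linearIndependent_iff]
    intro g hg i
    have h := hpair g i
    rw [hg] at h
    have h0 : f 0 (b i) = 0 := by simpa using hf.smul_left 0 (b i) (b i)
    rw [h0] at h
    exact (mul_eq_zero.mp h.symm).resolve_right (hn i)
  have hspan : Submodule.span F (Set.range b) = ⊤ := hli.span_eq_top_of_card_eq_finrank' (by simp)
  obtain ⟨g, hg⟩ := (Submodule.mem_span_range_iff_exists_fun F).mp (hspan ▸ Submodule.mem_top (x := v))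
  conv_lhs => rw [← hg]
  refine Finset.sum_congr rfl fun i _ => ?_
  rw [← hg, hpair, mul_div_cancel_right₀ _ (hn i)]

lemma exists_frame (h2 : (2 : F) ≠ 0) {m : ℕ} {f : (Fin m → F) → (Fin m → F) → F}
    (hf : Cfsg.Geo.IsSymmetricForm f) : ∃ b, Frame f b := by
  have : Invertible (2 : F) := invertibleOfNonzero h2
  let B : LinearMap.BilinForm F (Fin m → F) := LinearMap.mk₂ F f hf.bilinear.add_left
    (fun c x y => by rw [hf.bilinear.smul_left, smul_eq_mul]) (fun x y z => hf.bilinear.add_right x y z)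
    (fun c x y => by rw [hf.bilinear.smul_right, smul_eq_mul])
  obtain ⟨v, hv⟩ := LinearMap.BilinForm.exists_orthogonal_basis (B := B) ⟨fun x y => hf.symm x y⟩
  let w := v.reindex (finCongr (Module.finrank_fin_fun F))
  have ho : ∀ i j, i ≠ j → f (w i) (w j) = 0 := fun i j hij => by
    simp only [w, Module.Basis.reindex_apply]
    exact hv (fun h => hij (by simpa using h))
  refine ⟨w, frame_of_ortho hf.bilinear w ho fun i hi => ?_⟩
  have hall : ∀ x, f (w i) x = 0 := fun x => by
    show B (w i) x = 0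
    rw [← w.sum_repr x, map_sum]
    refine Finset.sum_eq_zero fun j _ => ?_
    rw [map_smul]
    show _ • f (w i) (w j) = 0
    rcases eq_or_ne i j with rfl | hij
    · rw [hi, smul_zero]
    · rw [ho i j hij, smul_zero]
  obtain ⟨-, x, hx⟩ := hf.nondegenerate (w i) (w.ne_zero i)
  exact hx (hall x)

/-- Two frame vectors of equal norm. -/
lemma exists_equal_pair (hq : Fintype.card F = 3) {m : ℕ} (hm : 3 ≤ m) {f : (Fin m → F) → (Fin m → F) → F}
    {b : Fin m → Fin m → F} (hb : Frame f b) :
    ∃ i j k, i ≠ j ∧ i ≠ k ∧ j ≠ k ∧ f (b i) (b i) = f (b j) (b j) := by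
  set a : Fin m := ⟨0, by omega⟩
  set c : Fin m := ⟨1, by omega⟩
  set d : Fin m := ⟨2, by omega⟩
  have hac : a ≠ c := by simp [a, c, Fin.ext_iff]
  have had : a ≠ d := by simp [a, d, Fin.ext_iff]
  have hcd : c ≠ d := by simp [c, d, Fin.ext_iff]
  rcases eq_one_or hq (hb.ne_zero a) with ha | ha <;> rcases eq_one_or hq (hb.ne_zero c) with hc | hc <;>
    rcases eq_one_or hq (hb.ne_zero d) with hd | hd
  all_goals first
    | exact ⟨a, c, d, hac, had, hcd, ha.trans hc.symm⟩
    | exact ⟨a, d, c, had, hac, hcd.symm, ha.trans hd.symm⟩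
    | exact ⟨c, d, a, hcd, hac.symm, had.symm, hc.trans hd.symm⟩

/-- An orthogonal frame of three vectors of equal norm. -/
lemma exists_three_frame (hq : Fintype.card F = 3) {f : (Fin 3 → F) → (Fin 3 → F) → F}
    (hf : Cfsg.Geo.IsSymmetricForm f) :
    ∃ v : Fin 3 → Fin 3 → F, Frame f v ∧ ∀ i, f (v i) (v i) = f (v 0) (v 0) := by
  obtain ⟨b, hb⟩ := exists_frame (two_ne hq) hf
  obtain ⟨i, j, k, hij, hik, hjk, he⟩ := exists_equal_pair hq le_rfl hb
  by_cases hk : f (b k) (b k) = f (b i) (b i)
  · refine ⟨b, hb, fun l => ?_⟩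
    have hall : ∀ l, f (b l) (b l) = f (b i) (b i) := fun l => by
      have : l = i ∨ l = j ∨ l = k := fin_three_cases i j k l hij hik hjk
      rcases this with rfl | rfl | rfl
      · rfl
      · exact he.symm
      · exact hk
    rw [hall, hall 0]
  · set d := f (b i) (b i)
    have hk' : f (b k) (b k) = -d := by
      rcases eq_one_or hq (hb.ne_zero k) with h | h <;> rcases eq_one_or hq (hb.ne_zero i) with h' | h'
      · exact absurd (h.trans h'.symm) hk
      · rw [h]; simp [d, h']
      · rw [h]; simp [d, h']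
      · exact absurd (h.trans h'.symm) hk
    have hv0 : f (b i + b j) (b i + b j) = -d := by
      rw [hf.bilinear.add_left, hf.bilinear.add_right, hf.bilinear.add_right, hb.ortho i j hij,
        hb.ortho j i hij.symm, ← he]
      linear_combination d * three_eq_zero hq
    have hneg : ∀ x y, f x ((-1 : F) • y) = - f x y := fun x y => by rw [hf.bilinear.smul_right]; ring
    have hneg' : ∀ x y, f ((-1 : F) • x) y = - f x y := fun x y => by rw [hf.bilinear.smul_left]; ring
    have hv1 : f (b i + (-1 : F) • b j) (b i + (-1 : F) • b j) = -d := by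
      rw [hf.bilinear.add_left, hf.bilinear.add_right, hf.bilinear.add_right, hneg, hneg', hneg', hneg,
        hb.ortho i j hij, hb.ortho j i hij.symm, ← he]
      linear_combination d * three_eq_zero hq
    have h01 : f (b i + b j) (b i + (-1 : F) • b j) = 0 := by
      rw [hf.bilinear.add_left, hf.bilinear.add_right, hf.bilinear.add_right, hneg, hneg,
        hb.ortho i j hij, hb.ortho j i hij.symm, ← he]
      ring
    have h02 : f (b i + b j) (b k) = 0 := by
      rw [hf.bilinear.add_left, hb.ortho i k hik, hb.ortho j k hjk, add_zero]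
    have h12 : f (b i + (-1 : F) • b j) (b k) = 0 := by
      rw [hf.bilinear.add_left, hneg', hb.ortho i k hik, hb.ortho j k hjk, neg_zero, add_zero]
    refine ⟨![b i + b j, b i + (-1 : F) • b j, b k], frame_of_ortho hf.bilinear _ ?_ ?_, ?_⟩
    · intro x y hxy
      fin_cases x <;> fin_cases y <;> first | exact absurd rfl hxy | skip
      all_goals simp only [Fin.isValue, Matrix.cons_val]
      · exact h01
      · exact h02
      · rw [hf.symm]; exact h01
      · exact h12
      · rw [hf.symm]; exact h02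
      · rw [hf.symm]; exact h12
    · intro x
      fin_cases x <;> simp only [Fin.isValue, Matrix.cons_val]
      · exact hv0.trans_ne (neg_ne_zero.mpr (hb.ne_zero i))
      · exact hv1.trans_ne (neg_ne_zero.mpr (hb.ne_zero i))
      · exact hb.ne_zero k
    · intro x
      fin_cases x <;> simp only [Fin.isValue, Matrix.cons_val]
      · exact (rfl)
      · exact hv1.trans hv0.symm
      · exact hk'.trans hv0.symm

/-- Vectors of the common norm lie on the frame lines. -/
lemma mem_line (hq : Fintype.card F = 3) {f : (Fin 3 → F) → (Fin 3 → F) → F} (hf : Cfsg.Geo.IsBilinearForm f)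
    {v : Fin 3 → Fin 3 → F} (hv : Frame f v) (hd : ∀ i, f (v i) (v i) = f (v 0) (v 0))
    {u : Fin 3 → F} (hu : f u u = f (v 0) (v 0)) : ∃ i, ∃ c : F, c ≠ 0 ∧ u = c • v i := by
  set d := f (v 0) (v 0)
  set x : Fin 3 → F := fun i => f u (v i) / f (v i) (v i) with hx
  have hexp : u = x 0 • v 0 + x 1 • v 1 + x 2 • v 2 := (hv.expand u).trans (by rw [Fin.sum_univ_three])
  have hnorm : d = (x 0 ^ 2 + x 1 ^ 2 + x 2 ^ 2) * d := by
    conv_lhs => rw [← hu]
    rw [hexp]
    simp only [hf.add_left, hf.add_right, hf.smul_left, hf.smul_right,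
      hv.ortho 0 1 (by decide), hv.ortho 0 2 (by decide), hv.ortho 1 0 (by decide), hv.ortho 1 2 (by decide),
      hv.ortho 2 0 (by decide), hv.ortho 2 1 (by decide), hd 1, hd 2]
    ring
  have hsum : x 0 ^ 2 + x 1 ^ 2 + x 2 ^ 2 = 1 :=
    mul_right_cancel₀ (hv.ne_zero 0) (by rw [one_mul]; exact hnorm.symm)
  have hsq : ∀ i, x i ≠ 0 → x i ^ 2 = 1 := fun i hi => by
    rcases eq_one_or hq hi with h | h <;> rw [h] <;> ring
  have h3 := three_eq_zero hq
  rcases eq_or_ne (x 0) 0 with h0 | h0 <;> rcases eq_or_ne (x 1) 0 with h1 | h1 <;>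
    rcases eq_or_ne (x 2) 0 with h2 | h2
  · rw [h0, h1, h2] at hsum; simp at hsum
  · exact ⟨2, x 2, h2, by rw [hexp, h0, h1]; simp⟩
  · exact ⟨1, x 1, h1, by rw [hexp, h0, h2]; simp⟩
  · exfalso; rw [h0, hsq 1 h1, hsq 2 h2] at hsum; exact one_ne_zero (by linear_combination hsum : (1 : F) = 0)
  · exact ⟨0, x 0, h0, by rw [hexp, h1, h2]; simp⟩
  · exfalso; rw [h1, hsq 0 h0, hsq 2 h2] at hsum; exact one_ne_zero (by linear_combination hsum : (1 : F) = 0)
  · exfalso; rw [h2, hsq 0 h0, hsq 1 h1] at hsum; exact one_ne_zero (by linear_combination hsum : (1 : F) = 0)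
  · exfalso; rw [hsq 0 h0, hsq 1 h1, hsq 2 h2] at hsum; exact two_ne hq (by linear_combination hsum)

/-- A similarity of a three-frame over three elements permutes the lines. -/
lemma similarity_lines (hq : Fintype.card F = 3) {f : (Fin 3 → F) → (Fin 3 → F) → F} (hf : Cfsg.Geo.IsBilinearForm f)
    {v : Fin 3 → Fin 3 → F} (hv : Frame f v) (hd : ∀ i, f (v i) (v i) = f (v 0) (v 0))
    (a : (Fin 3 → F) →ₗ[F] (Fin 3 → F)) (l : F) (hl : l ≠ 0)
    (ha : ∀ x y, f (a x) (a y) = l * f x y) :
    ∃ σ : Equiv.Perm (Fin 3), ∀ i, ∃ c : F, c ≠ 0 ∧ a (v i) = c • v (σ i) := by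
  set d := f (v 0) (v 0)
  have hl1 : l = 1 := by
    rcases eq_one_or hq hl with h | h
    · exact h
    exfalso
    -- the images of v₀ ± v₁ lie on frame lines
    have hu : ∀ e : F, e ^ 2 = 1 → ∃ i, ∃ c : F, c ≠ 0 ∧ a (v 0 + e • v 1) = c • v i := by
      intro e he
      refine mem_line hq hf hv hd ?_
      rw [ha, h]
      simp only [hf.add_left, hf.add_right, hf.smul_left, hf.smul_right, hd 1,
        hv.ortho 0 1 (by decide), hv.ortho 1 0 (by decide)]
      linear_combination (-d) * he - d * three_eq_zero hq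
    obtain ⟨p, cp, hcp, hp⟩ := hu 1 (by ring)
    obtain ⟨q, cq, hcq, hq'⟩ := hu (-1) (by ring)
    have horth : ∀ e : F, f (a (v 2)) (a (v 0 + e • v 1)) = 0 := fun e => by
      rw [ha, hf.add_right, hf.smul_right, hv.ortho 2 0 (by decide), hv.ortho 2 1 (by decide)]; ring
    have hp2 : f (a (v 2)) (v p) = 0 := by
      have := horth 1
      rw [hp, hf.smul_right] at this
      exact (mul_eq_zero.mp this).resolve_left hcp
    have hq2 : f (a (v 2)) (v q) = 0 := by
      have := horth (-1)
      rw [hq', hf.smul_right] at this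
      exact (mul_eq_zero.mp this).resolve_left hcq
    have hpq : p ≠ q := by
      rintro rfl
      have h0 : f (a (v 0 + (1 : F) • v 1)) (a (v 0 + (-1 : F) • v 1)) = 0 := by
        rw [ha]
        simp only [hf.add_left, hf.add_right, hf.smul_left, hf.smul_right, hd 1,
          hv.ortho 0 1 (by decide), hv.ortho 1 0 (by decide)]
        ring
      rw [hp, hq', hf.smul_left, hf.smul_right, hd] at h0
      exact mul_ne_zero hcp (mul_ne_zero hcq (hv.ne_zero 0)) h0
    obtain ⟨r, hr'⟩ := fin_three_third p q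
    have hr := hr' hpq
    have hexp : a (v 2) = (f (a (v 2)) (v r) / d) • v r := by
      conv_lhs => rw [hv.expand (a (v 2))]
      rw [Finset.sum_eq_single r]
      · rw [hd r]
      · intro s _ hs
        rcases hr s with rfl | rfl | rfl
        · rw [hp2, zero_div, zero_smul]
        · rw [hq2, zero_div, zero_smul]
        · exact absurd rfl hs
      · simp
    set t := f (a (v 2)) (v r) / d
    have hn := ha (v 2) (v 2)
    rw [hexp, hf.smul_left, hf.smul_right, h, hd 2, hd r] at hn
    have ht : t ^ 2 = -1 := mul_right_cancel₀ (hv.ne_zero 0) (by linear_combination hn)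
    rcases eq_or_ne t 0 with h0 | h0
    · rw [h0] at ht; simp at ht
    · rcases eq_one_or hq h0 with h0 | h0 <;> rw [h0] at ht <;> exact two_ne hq (by linear_combination ht)
  subst hl1
  have himg : ∀ i, ∃ j, ∃ c : F, c ≠ 0 ∧ a (v i) = c • v j := fun i =>
    mem_line hq hf hv hd (by rw [ha, one_mul, hd])
  choose σ c hc hσ using himg
  have hinj : Function.Injective σ := by
    intro i j hij
    by_contra hne
    have h := ha (v i) (v j)
    rw [hσ, hσ, hij, hf.smul_left, hf.smul_right, hv.ortho i j hne, mul_zero] at h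
    exact mul_ne_zero (hc i) (mul_ne_zero (hc j) (hv.ne_zero _)) h
  exact ⟨Equiv.ofBijective σ (Finite.injective_iff_bijective.mp hinj), fun i => ⟨c i, hc i, hσ i⟩⟩

end CfsgLib.Maximal.TensorThree
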