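import Mathlib

/-!
Abelian linear groups of order prime to the characteristic: their order is at most `q^d - 1`,
with strict inequality if the group is reducible.
-/

set_option autoImplicit false

open Module

namespace CfsgLib.Maximal

variable {F : Type*} [Field F]
variable {V : Type*} [AddCommGroup V] [Module F V]

/-- `W` is invariant under every element of `U`. -/
def InvUnder (U : Subgroup (Module.End F V)ˣ) (W : Submodule F V) : Prop :=
  ∀ u ∈ U, ∀ x ∈ W, (u : Module.End F V) x ∈ W

/-- The algebra generated by `U`. -/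
noncomputable def spanAlg (U : Subgroup (Module.End F V)ˣ) : Subalgebra F (Module.End F V) :=
  Algebra.adjoin F ((fun u : (Module.End F V)ˣ => (u : Module.End F V)) '' (U : Set (Module.End F V)ˣ))

theorem mem_spanAlg_of_mem {U : Subgroup (Module.End F V)ˣ} {u : (Module.End F V)ˣ} (hu : u ∈ U) :
    (u : Module.End F V) ∈ spanAlg U := Algebra.subset_adjoin ⟨u, hu, rfl⟩

theorem spanAlg_comm (U : Subgroup (Module.End F V)ˣ) (hU : ∀ a ∈ U, ∀ b ∈ U, a * b = b * a)
    {a b : Module.End F V} (ha : a ∈ spanAlg U) (hb : b ∈ spanAlg U) : a * b = b * a := by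
  let : CommRing (spanAlg U) := Algebra.adjoinCommRingOfComm F (by
    rintro _ ⟨x, hx, rfl⟩ _ ⟨y, hy, rfl⟩
    exact congrArg Units.val (hU x hx y hy))
  exact congrArg Subtype.val (mul_comm (⟨a, ha⟩ : spanAlg U) ⟨b, hb⟩)

/-- Over an irreducible abelian group, the generated algebra acts simply transitively. -/
theorem spanAlg_bijective [Finite V] (U : Subgroup (Module.End F V)ˣ)
    (hU : ∀ a ∈ U, ∀ b ∈ U, a * b = b * a)
    (hirr : ∀ W : Submodule F V, InvUnder U W → W = ⊥ ∨ W = ⊤) {v : V} (hv : v ≠ 0) :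
    Function.Bijective (fun a : spanAlg U => (a : Module.End F V) v) := by
  refine ⟨fun a b hab => ?_, fun x => ?_⟩
  · by_contra hne
    set c : Module.End F V := (a : Module.End F V) - (b : Module.End F V) with hc
    have hcm : c ∈ spanAlg U := (spanAlg U).sub_mem a.2 b.2
    rcases hirr (LinearMap.ker c) (fun u hu x hx => by
      rw [LinearMap.mem_ker] at hx ⊢
      rw [← Module.End.mul_apply, spanAlg_comm U hU hcm (mem_spanAlg_of_mem hu), Module.End.mul_apply,
        hx, map_zero]) with h | h
    · apply hv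
      have : v ∈ LinearMap.ker c := by simp [hc, LinearMap.sub_apply, show (a : Module.End F V) v = b.1 v from hab]
      simpa [h] using this
    · exact hne (Subtype.ext (sub_eq_zero.1 (LinearMap.ker_eq_top.1 h)))
  · let W : Submodule F V := (Subalgebra.toSubmodule (spanAlg U)).map (LinearMap.applyₗ v)
    rcases hirr W (fun u hu y hy => by
      obtain ⟨a, ha, rfl⟩ := hy
      exact ⟨(u : Module.End F V) * a, (spanAlg U).mul_mem (mem_spanAlg_of_mem hu) ha, rfl⟩) with h | h
    · exfalso
      have h1 : v ∈ W := ⟨1, (spanAlg U).one_mem, rfl⟩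
      rw [h] at h1
      exact hv h1
    · obtain ⟨a, ha, hax⟩ : x ∈ W := h ▸ Submodule.mem_top
      exact ⟨⟨a, ha⟩, hax⟩

variable [Fintype F]

theorem card_le_of_irreducible [Finite V] [Nontrivial V] (U : Subgroup (Module.End F V)ˣ)
    (hU : ∀ a ∈ U, ∀ b ∈ U, a * b = b * a)
    (hirr : ∀ W : Submodule F V, InvUnder U W → W = ⊥ ∨ W = ⊤) :
    Nat.card U ≤ Fintype.card F ^ finrank F V - 1 := by
  classical
  obtain ⟨v, hv⟩ := exists_ne (0 : V)
  have hinj : Function.Injective (fun u : U => (⟨(u : (Module.End F V)ˣ).val v, fun h0 => hv (by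
      have h1 : ((u : (Module.End F V)ˣ)⁻¹).val ((u : (Module.End F V)ˣ).val v) = v := by
        rw [← Module.End.mul_apply, Units.inv_mul]; rfl
      rw [← h1, h0, map_zero])⟩ : {x : V // x ≠ 0})) := by
    intro a b hab
    have := (spanAlg_bijective U hU hirr hv).1
      (a₁ := ⟨_, mem_spanAlg_of_mem a.2⟩) (a₂ := ⟨_, mem_spanAlg_of_mem b.2⟩) (congrArg Subtype.val hab)
    exact Subtype.ext (Units.ext (congrArg Subtype.val this))
  have : Fintype V := Fintype.ofFinite V
  calc Nat.card U ≤ Nat.card {x : V // x ≠ 0} := Nat.card_le_card_of_injective _ hinj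
    _ = _ := by
      rw [Nat.card_eq_fintype_card, Fintype.card_subtype_compl, Fintype.card_subtype_eq,
        ← Module.card_eq_pow_finrank (K := F)]

/-- Restriction of an invertible map to an invariant subspace. -/
noncomputable def restrictHom (U : Subgroup (Module.End F V)ˣ) (W : Submodule F V) (hW : InvUnder U W) :
    U →* (Module.End F W)ˣ :=
  MonoidHom.toHomUnits
    { toFun := fun u => LinearMap.restrict (u : (Module.End F V)ˣ).val (hW _ u.2)
      map_one' := by ext x; rfl
      map_mul' := fun a b => by ext x; rfl }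

/-- The map induced on the quotient by an invariant subspace. -/
noncomputable def quotHom (U : Subgroup (Module.End F V)ˣ) (W : Submodule F V) (hW : InvUnder U W) :
    U →* (Module.End F (V ⧸ W))ˣ :=
  MonoidHom.toHomUnits
    { toFun := fun u => W.mapQ W (u : (Module.End F V)ˣ).val (fun x hx => hW _ u.2 x hx)
      map_one' := Submodule.linearMap_qext _ (by ext x; rfl)
      map_mul' := fun a b => Submodule.linearMap_qext _ (by ext x; rfl) }

omit [Fintype F] in
theorem eq_one_of_restrict_quot [Finite V] (U : Subgroup (Module.End F V)ˣ) (W : Submodule F V) (hW : InvUnder U W)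
    (hc : (Nat.card U : F) ≠ 0) {u : U} (h1 : restrictHom U W hW u = 1) (h2 : quotHom U W hW u = 1) :
    u = 1 := by
  set N : Module.End F V := (u : (Module.End F V)ˣ).val - 1 with hN
  have hW0 : ∀ w ∈ W, N w = 0 := by
    intro w hw
    have := congrArg (fun e : (Module.End F W)ˣ => ((e : Module.End F W) ⟨w, hw⟩ : V)) h1
    change (u : (Module.End F V)ˣ).val w = w at this
    simp [hN, this]
  have hin : ∀ x, N x ∈ W := by
    intro x
    have := congrArg (fun e : (Module.End F (V ⧸ W))ˣ =>
      (e : Module.End F (V ⧸ W)) (Submodule.Quotient.mk x)) h2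
    change Submodule.Quotient.mk ((u : (Module.End F V)ˣ).val x) = Submodule.Quotient.mk x at this
    simpa [hN] using (Submodule.Quotient.eq W).1 this
  have hNN : N * N = 0 := LinearMap.ext fun x => hW0 _ (hin x)
  have hu : (u : (Module.End F V)ˣ).val = 1 + N := by simp [hN]
  have hpow : ∀ k : ℕ, (u : (Module.End F V)ˣ).val ^ k = 1 + (k : F) • N := by
    intro k
    induction k with
    | zero => simp
    | succ k ih =>
      rw [pow_succ, ih, hu, add_mul, mul_add, mul_add, one_mul, one_mul, mul_one, smul_mul_assoc,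
        hNN, smul_zero, add_zero, Nat.cast_succ, add_smul, one_smul]
      abel
  have h3 : (u : (Module.End F V)ˣ).val ^ Nat.card U = 1 := by
    rw [← Units.val_pow_eq_pow_val, ← SubgroupClass.coe_pow, pow_card_eq_one']
    rfl
  rw [hpow, add_eq_left, smul_eq_zero] at h3
  refine Subtype.ext (Units.ext ?_)
  rw [hu, h3.resolve_left hc, add_zero]
  rfl

theorem pow_sub_one_mul_lt {q k l : ℕ} (hq : 2 ≤ q) (hk : 1 ≤ k) (hl : 1 ≤ l) :
    (q ^ k - 1) * (q ^ l - 1) < q ^ (k + l) - 1 := by
  have ha : 2 ≤ q ^ k := hq.trans (Nat.le_self_pow (by omega) q)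
  have hb : 2 ≤ q ^ l := hq.trans (Nat.le_self_pow (by omega) q)
  rw [pow_add]
  obtain ⟨a, rfl⟩ : ∃ a, q = a + 2 := ⟨q - 2, by omega⟩
  generalize (a + 2) ^ k = A at ha ⊢
  generalize (a + 2) ^ l = B at hb ⊢
  obtain ⟨A, rfl⟩ : ∃ c, A = c + 2 := ⟨A - 2, by omega⟩
  obtain ⟨B, rfl⟩ : ∃ c, B = c + 2 := ⟨B - 2, by omega⟩
  have h2 : (A + 2) * (B + 2) = (A + 1) * (B + 1) + A + B + 3 := by ring
  have h3 : A + 2 - 1 = A + 1 := by omega
  have h4 : B + 2 - 1 = B + 1 := by omega
  rw [h3, h4]
  omega

/-- An abelian group of order prime to the characteristic has at most `q^d - 1` elements, and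
fewer if it is reducible. -/
theorem card_abelian_bound (d : ℕ) : ∀ {V : Type*} [AddCommGroup V] [Module F V] [Finite V]
    (U : Subgroup (Module.End F V)ˣ), (∀ a ∈ U, ∀ b ∈ U, a * b = b * a) → (Nat.card U : F) ≠ 0 →
    finrank F V = d → 1 ≤ d →
    Nat.card U ≤ Fintype.card F ^ d - 1 ∧
      (∀ W : Submodule F V, InvUnder U W → W ≠ ⊥ → W ≠ ⊤ → Nat.card U < Fintype.card F ^ d - 1) := by
  induction d using Nat.strong_induction_on with
  | _ d IH =>
  intro V _ _ _ U hU hc hd h1
  have hred : ∀ W : Submodule F V, InvUnder U W → W ≠ ⊥ → W ≠ ⊤ →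
      Nat.card U < Fintype.card F ^ d - 1 := by
    intro W hW hWb hWt
    have hsum := W.finrank_quotient_add_finrank
    have hk : 1 ≤ finrank F W := Nat.one_le_iff_ne_zero.2 (fun h => hWb (Submodule.finrank_eq_zero.1 h))
    have hlt : finrank F W < finrank F V := Submodule.finrank_lt hWt
    have hl : 1 ≤ finrank F (V ⧸ W) := by omega
    have key : ∀ {X : Type _} [Group X] (φ : U →* X), Nat.card φ.range ∣ Nat.card U :=
      fun φ => Subgroup.card_range_dvd φ
    have hne : ∀ {m : ℕ}, m ∣ Nat.card U → (m : F) ≠ 0 := by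
      rintro m ⟨c, hm⟩ h0
      exact hc (by rw [hm, Nat.cast_mul, h0, zero_mul])
    have hcomm : ∀ {X : Type _} [Group X] (φ : U →* X), ∀ a ∈ φ.range, ∀ b ∈ φ.range, a * b = b * a := by
      rintro X _ φ _ ⟨a, rfl⟩ _ ⟨b, rfl⟩
      rw [← map_mul, ← map_mul]
      exact congrArg φ (Subtype.ext (hU _ a.2 _ b.2))
    have : Finite (V ⧸ W) := Finite.of_surjective W.mkQ W.mkQ_surjective
    have : Finite (Module.End F W) := Finite.of_injective _ DFunLike.coe_injective
    have : Finite (Module.End F (V ⧸ W)) := Finite.of_injective _ DFunLike.coe_injective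
    have hA := (IH _ (by omega) (restrictHom U W hW).range (hcomm _) (hne (key _)) rfl hk).1
    have hB := (IH _ (by omega) (quotHom U W hW).range (hcomm _) (hne (key _)) rfl hl).1
    have hinj : Function.Injective (fun u : U =>
        ((⟨_, ⟨u, rfl⟩⟩ : (restrictHom U W hW).range), (⟨_, ⟨u, rfl⟩⟩ : (quotHom U W hW).range))) := by
      intro a b hab
      simp only [Prod.mk.injEq] at hab
      have hab1 : restrictHom U W hW a = restrictHom U W hW b := congrArg Subtype.val hab.1
      have hab2 : quotHom U W hW a = quotHom U W hW b := congrArg Subtype.val hab.2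
      have := eq_one_of_restrict_quot U W hW hc (u := a * b⁻¹)
        (by rw [map_mul, map_inv, hab1, mul_inv_cancel]) (by rw [map_mul, map_inv, hab2, mul_inv_cancel])
      exact mul_inv_eq_one.1 this
    calc Nat.card U ≤ Nat.card (restrictHom U W hW).range * Nat.card (quotHom U W hW).range := by
          rw [← Nat.card_prod]; exact Nat.card_le_card_of_injective _ hinj
      _ ≤ _ := Nat.mul_le_mul hA hB
      _ < _ := pow_sub_one_mul_lt Fintype.one_lt_card hk hl
      _ = _ := by rw [show finrank F W + finrank F (V ⧸ W) = d by omega]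
  refine ⟨?_, hred⟩
  by_cases hirr : ∀ W : Submodule F V, InvUnder U W → W = ⊥ ∨ W = ⊤
  · have : Nontrivial V := Module.nontrivial_of_finrank_pos (R := F) (by omega)
    exact hd ▸ card_le_of_irreducible U hU hirr
  · simp only [not_forall, not_or] at hirr
    obtain ⟨W, hW, hWb, hWt⟩ := hirr
    exact (hred W hW hWb hWt).le

end CfsgLib.Maximal
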