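import Mathlib

/-!
The group of permutations preserving a partition into equal blocks: primitivity of proper overgroups.
-/

set_option autoImplicit false

open Equiv MulAction Pointwise

namespace CfsgLib.Maximal

variable {Ω β : Type*}

/-- The permutations preserving the partition into the fibres of `f`. -/
def blockGroup (f : Ω → β) : Subgroup (Equiv.Perm Ω) where
  carrier := {g | ∀ x y : Ω, f x = f y ↔ f (g x) = f (g y)}
  one_mem' := fun _ _ => Iff.rfl
  mul_mem' := fun {_ h} hg hh x y => (hh x y).trans (hg (h x) (h y))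
  inv_mem' := fun {g} hg x y => by simpa using (hg (g⁻¹ x) (g⁻¹ y)).symm

theorem mem_blockGroup {f : Ω → β} {g : Equiv.Perm Ω} :
    g ∈ blockGroup f ↔ ∀ x y : Ω, f x = f y ↔ f (g x) = f (g y) := Iff.rfl

theorem closure_eq_blockGroup (f : Ω → β) :
    Subgroup.closure {g : Equiv.Perm Ω | ∀ x y : Ω, f x = f y ↔ f (g x) = f (g y)} = blockGroup f :=
  Subgroup.closure_eq (blockGroup f)

theorem swap_mem_blockGroup [DecidableEq Ω] {f : Ω → β} {c d : Ω} (h : f c = f d) :
    Equiv.swap c d ∈ blockGroup f := by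
  have key : ∀ z, f (Equiv.swap c d z) = f z := by
    intro z
    rcases eq_or_ne z c with rfl | hc
    · rw [Equiv.swap_apply_left, h]
    rcases eq_or_ne z d with rfl | hd
    · rw [Equiv.swap_apply_right, h]
    rw [Equiv.swap_apply_of_ne_of_ne hc hd]
  intro x y
  rw [key, key]

set_option linter.unusedSectionVars false

variable [Fintype Ω] [DecidableEq Ω] {a b : ℕ}

/-- Coordinates adapted to a partition into blocks of equal size. -/
theorem exists_blockEquiv (f : Ω → Fin b) (hf : ∀ i : Fin b, Nat.card {x : Ω // f x = i} = a) :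
    ∃ e : Ω ≃ Fin b × Fin a, ∀ x, (e x).1 = f x := by
  have e1 : ∀ i, {x : Ω // f x = i} ≃ Fin a := fun i => Finite.equivFinOfCardEq (hf i)
  exact ⟨(Equiv.sigmaFiberEquiv f).symm.trans
    ((Equiv.sigmaCongrRight e1).trans (Equiv.sigmaEquivProd _ _)), fun x => rfl⟩

/-- Two distinct points of one block, avoiding a given set of points. -/
theorem exists_pair_avoid {f : Ω → Fin b} {e : Ω ≃ Fin b × Fin a} (he : ∀ x, (e x).1 = f x)
    (ha : 2 ≤ a) (i : Fin b) : ∃ c d : Ω, c ≠ d ∧ f c = i ∧ f d = i := by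
  refine ⟨e.symm (i, ⟨0, by omega⟩), e.symm (i, ⟨1, by omega⟩), ?_, by simp [← he], by simp [← he]⟩
  intro h
  simpa using congrArg Prod.snd (e.symm.injective h)

/-- The lift of a block permutation combined with a coordinate permutation. -/
def liftPerm (e : Ω ≃ Fin b × Fin a) (σ : Equiv.Perm (Fin b)) (τ : Equiv.Perm (Fin a)) :
    Equiv.Perm Ω := (e.trans (Equiv.prodCongr σ τ)).trans e.symm

theorem liftPerm_mem {f : Ω → Fin b} {e : Ω ≃ Fin b × Fin a} (he : ∀ x, (e x).1 = f x)
    (σ : Equiv.Perm (Fin b)) (τ : Equiv.Perm (Fin a)) :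
    liftPerm e σ τ ∈ blockGroup f ∧ ∀ x, f (liftPerm e σ τ x) = σ (f x) := by
  have key : ∀ x, f (liftPerm e σ τ x) = σ (f x) := by
    intro x; simp [liftPerm, ← he]
  refine ⟨fun x y => ?_, key⟩
  rw [key, key, σ.injective.eq_iff]

theorem exists_even_or {g : Equiv.Perm Ω} {c d : Ω} (hcd : c ≠ d) :
    g ∈ alternatingGroup Ω ∨ g * Equiv.swap c d ∈ alternatingGroup Ω := by
  simp only [Equiv.Perm.mem_alternatingGroup, map_mul, Equiv.Perm.sign_swap hcd]
  rcases Int.units_eq_one_or (Equiv.Perm.sign g) with h | h <;> simp [h]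

theorem swap_mul_swap_mem_alternating {c d u v : Ω} (hcd : c ≠ d) (huv : u ≠ v) :
    Equiv.swap c d * Equiv.swap u v ∈ alternatingGroup Ω := by
  simp [Equiv.Perm.mem_alternatingGroup, hcd, huv]

/-- Transitivity of the even part of the block group. -/
theorem exists_even_block_map {f : Ω → Fin b} {e : Ω ≃ Fin b × Fin a} (he : ∀ x, (e x).1 = f x)
    (ha : 2 ≤ a) (hb : 2 ≤ b) (x y : Ω) :
    ∃ g ∈ blockGroup f ⊓ alternatingGroup Ω, g x = y := by
  set g0 := liftPerm e (Equiv.swap (e x).1 (e y).1) (Equiv.swap (e x).2 (e y).2) with hg0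
  have h1 := (liftPerm_mem he (Equiv.swap (e x).1 (e y).1) (Equiv.swap (e x).2 (e y).2)).1
  have h2 : g0 x = y := by simp [hg0, liftPerm, Prod.map]
  have : Nontrivial (Fin b) := Fin.nontrivial_iff_two_le.2 hb
  obtain ⟨i, hi⟩ := exists_ne (f x)
  obtain ⟨c, d, hcd, hc, hd⟩ := exists_pair_avoid he ha i
  have hxc : x ≠ c := fun h => hi (by rw [← hc, h])
  have hxd : x ≠ d := fun h => hi (by rw [← hd, h])
  rcases exists_even_or (g := g0) hcd with h | h
  · exact ⟨g0, ⟨h1, h⟩, h2⟩
  · refine ⟨g0 * Equiv.swap c d, ⟨mul_mem h1 (swap_mem_blockGroup (hc.trans hd.symm)), h⟩, ?_⟩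
    rw [Equiv.Perm.mul_apply, Equiv.swap_apply_of_ne_of_ne hxc hxd, h2]

/-- An overgroup of the even block group that is not inside the block group is primitive. -/
theorem isPreprimitive_of_block (f : Ω → Fin b) (hf : ∀ i : Fin b, Nat.card {x : Ω // f x = i} = a)
    (ha : 2 ≤ a) (hb : 2 ≤ b) (h3 : 3 ≤ a ∨ 3 ≤ b) (K : Subgroup (Equiv.Perm Ω))
    (hK : blockGroup f ⊓ alternatingGroup Ω ≤ K) (hnot : ¬ K ≤ blockGroup f) :
    IsPreprimitive K Ω := by
  obtain ⟨e, he⟩ := exists_blockEquiv f hf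
  have htr : IsPretransitive K Ω := ⟨fun x y => by
    obtain ⟨g, hg, h⟩ := exists_even_block_map he ha hb x y
    exact ⟨⟨g, hK hg⟩, h⟩⟩
  refine ⟨fun {B} hB => ?_⟩
  have hfix : ∀ (g : Equiv.Perm Ω), g ∈ K → ∀ z ∈ B, g z ∈ B → ∀ w ∈ B, g w ∈ B := by
    intro g hg z hz hgz w hw
    have h := (isBlock_iff_smul_eq_of_nonempty.1 hB) (g := (⟨g, hg⟩ : K))
      ⟨g z, ⟨z, hz, rfl⟩, hgz⟩
    rw [← h]
    exact ⟨w, hw, rfl⟩
  by_contra hnt
  rw [IsTrivialBlock, not_or] at hnt
  obtain ⟨hns, hnu⟩ := hnt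
  -- moving a point within its block while fixing another point
  have hmove : ∀ x ∈ B, ∀ y ∈ B, ∀ y', y ≠ x → f y' = f y → y' ≠ x → y' ∈ B := by
    intro x hx y hy y' hyx hyy hy'x
    rcases eq_or_ne y' y with rfl | hne
    · exact hy
    obtain ⟨c, d, hcd, hfcd, hcx, hdx, hcy, hdy⟩ : ∃ c d : Ω, c ≠ d ∧ f c = f d ∧ c ≠ x ∧ d ≠ x ∧
        c ≠ y ∧ d ≠ y := by
      rcases h3 with h3 | h3
      · have : Nontrivial (Fin b) := Fin.nontrivial_iff_two_le.2 hb
        obtain ⟨i, hi⟩ := exists_ne (f y)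
        have h2 : 1 < ((Finset.univ : Finset (Fin a)).erase (e x).2).card := by
          rw [Finset.card_erase_of_mem (Finset.mem_univ _), Finset.card_univ, Fintype.card_fin]; omega
        obtain ⟨s, hs, t, ht, hst⟩ := Finset.one_lt_card.1 h2
        have hf' : ∀ s, f (e.symm (i, s)) = i := fun s => by simp [← he]
        refine ⟨e.symm (i, s), e.symm (i, t), fun h => hst (congrArg Prod.snd (e.symm.injective h)),
          (hf' s).trans (hf' t).symm, ?_, ?_, ?_, ?_⟩
        · rintro rfl; simp at hs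
        · rintro rfl; simp at ht
        · exact fun h => hi (by rw [← hf' s, h])
        · exact fun h => hi (by rw [← hf' t, h])
      · obtain ⟨i, hix, hiy⟩ := Finset.exists_mem_notMem_of_card_lt_card
          (s := ({f x, f y} : Finset (Fin b))) (t := Finset.univ)
          (by rw [Finset.card_univ, Fintype.card_fin]; exact lt_of_le_of_lt Finset.card_le_two h3)
        obtain ⟨c, d, hcd, hc, hd⟩ := exists_pair_avoid he ha i
        simp only [Finset.mem_insert, Finset.mem_singleton, not_or] at hiy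
        exact ⟨c, d, hcd, hc.trans hd.symm, fun h => hiy.1 (by rw [← hc, h]),
          fun h => hiy.1 (by rw [← hd, h]), fun h => hiy.2 (by rw [← hc, h]),
          fun h => hiy.2 (by rw [← hd, h])⟩
    have hg : Equiv.swap y y' * Equiv.swap c d ∈ K :=
      hK ⟨mul_mem (swap_mem_blockGroup hyy.symm) (swap_mem_blockGroup hfcd),
        swap_mul_swap_mem_alternating hne.symm hcd⟩
    have hgx : (Equiv.swap y y' * Equiv.swap c d) x = x := by
      rw [Equiv.Perm.mul_apply, Equiv.swap_apply_of_ne_of_ne hcx.symm hdx.symm,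
        Equiv.swap_apply_of_ne_of_ne hyx.symm hy'x.symm]
    have hgy : (Equiv.swap y y' * Equiv.swap c d) y = y' := by
      rw [Equiv.Perm.mul_apply, Equiv.swap_apply_of_ne_of_ne hcy.symm hdy.symm,
        Equiv.swap_apply_left]
    have := hfix _ hg x hx (by rw [hgx]; exact hx) y hy
    rwa [hgy] at this
  rw [Set.not_subsingleton_iff] at hns
  obtain ⟨x, hx, y, hy, hxy⟩ := hns
  have hwhole : ∀ z ∈ B, ∀ z', f z' = f z → z' ∈ B := by
    intro z hz z' hzz
    obtain ⟨w, hw, hwz⟩ : ∃ w ∈ B, z ≠ w := by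
      rcases eq_or_ne z x with rfl | h
      · exact ⟨y, hy, hxy⟩
      · exact ⟨x, hx, h⟩
    rcases eq_or_ne z' w with rfl | h
    · exact hw
    · exact hmove w hw z hz z' hwz hzz h
  by_cases hcase : ∀ z ∈ B, f z = f x
  · -- `B` is a block of the partition
    apply hnot
    have hfwd : ∀ g ∈ K, ∀ u v, f u = f v → f (g u) = f (g v) := by
      intro g hg u v huv
      obtain ⟨k, ⟨hk, hkA⟩, hkx⟩ := exists_even_block_map he ha hb x u
      obtain ⟨k', ⟨hk', hk'A⟩, hk'x⟩ := exists_even_block_map he ha hb (g u) x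
      have hvB : k⁻¹ v ∈ B := hwhole x hx _ (((hk x (k⁻¹ v)).2 (by simpa [hkx] using huv)).symm)
      have := hfix (k' * g * k) (mul_mem (mul_mem (hK ⟨hk', hk'A⟩) hg) (hK ⟨hk, hkA⟩)) x hx
        (by simpa [hkx, hk'x] using hx) _ hvB
      simp only [Equiv.Perm.mul_apply, Equiv.Perm.coe_inv, Equiv.apply_symm_apply] at this
      exact (hk' (g u) (g v)).2 (by rw [hk'x, hcase _ this])
    intro g hg u v
    refine ⟨hfwd g hg u v, fun h => ?_⟩
    simpa using hfwd g⁻¹ (inv_mem hg) (g u) (g v) h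
  · simp only [not_forall] at hcase
    obtain ⟨z, hz, hzx⟩ := hcase
    apply hnu
    rw [Set.eq_univ_iff_forall]
    intro w
    by_cases hwz : f w = f z
    · exact hwhole z hz w hwz
    by_cases hwx : f w = f x
    · exact hwhole x hx w hwx
    obtain ⟨c, d, hcd, hc, hd⟩ := exists_pair_avoid he ha (f x)
    obtain ⟨hg0, hgf⟩ := liftPerm_mem he (Equiv.swap (f x) (f w)) 1
    obtain ⟨g, hg, hgf'⟩ : ∃ g ∈ blockGroup f ⊓ alternatingGroup Ω,
        ∀ u, f (g u) = Equiv.swap (f x) (f w) (f u) := by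
      rcases exists_even_or (g := liftPerm e (Equiv.swap (f x) (f w)) 1) hcd with h | h
      · exact ⟨_, ⟨hg0, h⟩, hgf⟩
      · refine ⟨_, ⟨mul_mem hg0 (swap_mem_blockGroup (hc.trans hd.symm)), h⟩, fun u => ?_⟩
        rw [Equiv.Perm.mul_apply, hgf]
        congr 1
        rcases eq_or_ne u c with rfl | h1
        · rw [Equiv.swap_apply_left, hc, hd]
        rcases eq_or_ne u d with rfl | h2
        · rw [Equiv.swap_apply_right, hc, hd]
        rw [Equiv.swap_apply_of_ne_of_ne h1 h2]
    have h1 : f (g z) = f z := by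
      rw [hgf', Equiv.swap_apply_of_ne_of_ne hzx (fun h => hwz h.symm)]
    have h2 := hfix g (hK hg) z hz (hwhole z hz _ h1) x hx
    exact hwhole _ h2 w (by rw [hgf', Equiv.swap_apply_left])

theorem blockGroup_ne_top {f : Ω → Fin b} {e : Ω ≃ Fin b × Fin a} (he : ∀ x, (e x).1 = f x)
    (ha : 2 ≤ a) (hb : 2 ≤ b) : ¬ alternatingGroup Ω ≤ blockGroup f := by
  intro h
  let x := e.symm (⟨0, by omega⟩, ⟨0, by omega⟩)
  let y := e.symm (⟨0, by omega⟩, ⟨1, by omega⟩)
  let z := e.symm (⟨1, by omega⟩, ⟨0, by omega⟩)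
  have hxy : x ≠ y := fun h => by simpa [x, y] using congrArg (fun p => (e p).2) h
  have hxz : x ≠ z := fun h => by simpa [x, z] using congrArg (fun p => (e p).1) h
  have hyz : y ≠ z := fun h => by simpa [y, z] using congrArg (fun p => (e p).1) h
  have hg := h (swap_mul_swap_mem_alternating hyz hxy) x y
  have h1 : (Equiv.swap y z * Equiv.swap x y) x = z := by
    rw [Equiv.Perm.mul_apply, Equiv.swap_apply_left, Equiv.swap_apply_left]
  have h2 : (Equiv.swap y z * Equiv.swap x y) y = x := by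
    rw [Equiv.Perm.mul_apply, Equiv.swap_apply_right, Equiv.swap_apply_of_ne_of_ne hxy hxz]
  rw [h1, h2] at hg
  have := hg.1 (by simp [x, y, ← he])
  simp [x, z, ← he] at this

/-- The imprimitive wreath product is maximal in the symmetric group. -/
theorem isCoatom_blockGroup (f : Ω → Fin b) (hf : ∀ i : Fin b, Nat.card {x : Ω // f x = i} = a)
    (ha : 2 ≤ a) (hb : 2 ≤ b) : IsCoatom (blockGroup f) := by
  obtain ⟨e, he⟩ := exists_blockEquiv f hf
  refine ⟨fun h => blockGroup_ne_top he ha hb (h ▸ le_top), fun K hK => ?_⟩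
  obtain ⟨g, hgK, hg⟩ := SetLike.not_le_iff_exists.1 hK.not_ge
  rcases Nat.lt_or_ge 2 a with ha3 | ha3
  · obtain ⟨c, d, hcd, hc, hd⟩ := exists_pair_avoid he ha ⟨0, by omega⟩
    exact Equiv.Perm.subgroup_eq_top_of_isPreprimitive_of_isSwap_mem
      (isPreprimitive_of_block f hf ha hb (Or.inl ha3) K (inf_le_left.trans hK.le) hK.not_ge)
      _ ⟨c, d, hcd, rfl⟩ (hK.le (swap_mem_blockGroup (hc.trans hd.symm)))
  rcases Nat.lt_or_ge 2 b with hb3 | hb3
  · obtain ⟨c, d, hcd, hc, hd⟩ := exists_pair_avoid he ha ⟨0, by omega⟩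
    exact Equiv.Perm.subgroup_eq_top_of_isPreprimitive_of_isSwap_mem
      (isPreprimitive_of_block f hf ha hb (Or.inr hb3) K (inf_le_left.trans hK.le) hK.not_ge)
      _ ⟨c, d, hcd, rfl⟩ (hK.le (swap_mem_blockGroup (hc.trans hd.symm)))
  -- two blocks of size two: an index three subgroup
  obtain rfl : a = 2 := le_antisymm ha3 ha
  obtain rfl : b = 2 := le_antisymm hb3 hb
  have hcard : Nat.card (Equiv.Perm Ω) = 24 := by
    rw [Nat.card_perm, Nat.card_congr e, Nat.card_prod, Nat.card_eq_fintype_card, Fintype.card_fin]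
    rfl
  let t : Fin 2 × Fin 2 → Equiv.Perm Ω := fun q => e.symm.permCongr
    (Equiv.prodCongr (Equiv.swap 0 q.1) (Equiv.swap 0 q.2))
  let s : Equiv.Perm Ω := Equiv.swap (e.symm (0, 0)) (e.symm (0, 1))
  have ht : ∀ q, t q ∈ blockGroup f := fun q => by
    intro x y
    simp [t, Equiv.permCongr_apply, ← he]
  have hs : s ∈ blockGroup f := swap_mem_blockGroup (by simp [← he])
  have h5 : 5 ≤ Nat.card (blockGroup f) := by
    have hinj : Function.Injective (fun o : Option (Fin 2 × Fin 2) =>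
        (o.elim ⟨s, hs⟩ (fun q => ⟨t q, ht q⟩) : blockGroup f)) := by
      intro o o' h
      have h' : ∀ z, e ((o.elim ⟨s, hs⟩ (fun q => ⟨t q, ht q⟩) : blockGroup f).1 (e.symm z)) =
          e ((o'.elim ⟨s, hs⟩ (fun q => ⟨t q, ht q⟩) : blockGroup f).1 (e.symm z)) := fun z => by
        rw [show (o.elim ⟨s, hs⟩ (fun q => ⟨t q, ht q⟩) : blockGroup f) = _ from h]
      have k0 := h' (0, 0)
      have k1 := h' (1, 0)
      have hswap : ∀ z, e (s (e.symm z)) = Equiv.swap ((0, 0) : Fin 2 × Fin 2) (0, 1) z := fun z => by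
        simp only [s]
        rw [e.injective.map_swap]
        simp
      have htv : ∀ q z, e (t q (e.symm z)) = (Equiv.swap 0 q.1 z.1, Equiv.swap 0 q.2 z.2) := fun q z => by
        simp [t, Equiv.permCongr_apply, Prod.map]
      clear h h'
      revert k0 k1
      rcases o with _ | ⟨p, q⟩ <;> rcases o' with _ | ⟨p', q'⟩ <;>
        simp only [Option.elim_none, Option.elim_some, hswap, htv]
      · exact fun _ _ => trivial
      · revert p' q'; decide
      · revert p q; decide
      · revert p q p' q'; decide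
    simpa [Nat.card_eq_fintype_card] using Nat.card_le_card_of_injective _ hinj
  have hlt : Nat.card (blockGroup f) < Nat.card K :=
    Set.Finite.card_lt_card (Set.toFinite _) hK
  obtain ⟨k, hk⟩ := Subgroup.card_dvd_of_le hK.le
  have hKd := K.card_subgroup_dvd_card
  rw [hcard] at hKd
  have hKle : Nat.card K ≤ 24 := Nat.le_of_dvd (by norm_num) hKd
  have hWd := (blockGroup f).card_subgroup_dvd_card
  rw [hcard] at hWd
  have hA : K.index ≤ 2 := by
    have := K.index_mul_card
    rw [hcard] at this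
    have h12 : 10 ≤ Nat.card K := by
      rcases Nat.lt_or_ge k 2 with h | h
      · interval_cases k <;> simp_all
      · rw [hk]; nlinarith
    nlinarith
  have hAK := Equiv.Perm.alternatingGroup_le_of_index_le_two hA
  by_contra htop
  have hidx : K.index = 2 := by
    have : K.index ≠ 1 := fun h => htop (Subgroup.index_eq_one.1 h)
    have : K.index ≠ 0 := Subgroup.index_ne_zero_of_finite
    omega
  obtain ⟨c, d, hcd, hc, hd⟩ := exists_pair_avoid he le_rfl (0 : Fin 2)
  have hmem := hK.le (swap_mem_blockGroup (f := f) (hc.trans hd.symm))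
  rw [Equiv.Perm.eq_alternatingGroup_of_index_eq_two hidx, Equiv.Perm.mem_alternatingGroup,
    Equiv.Perm.sign_swap hcd] at hmem
  exact absurd hmem (by decide)

end CfsgLib.Maximal
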