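import Cfsg.Agent.Lib.Maximal.BlockGroup

/-!
The even part of the imprimitive wreath product is maximal in the alternating group,
except on 8 points with blocks of size two.
-/

set_option autoImplicit false
set_option linter.unusedSectionVars false

open Equiv

namespace CfsgLib.Maximal

/-- The other point of a block of size two. -/
def partner {b : ℕ} (x : Fin b × Fin 2) : Fin b × Fin 2 := (x.1, x.2 + 1)

theorem partner_ne {b : ℕ} (x : Fin b × Fin 2) : partner x ≠ x := by
  intro h
  have := congrArg Prod.snd h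
  simp only [partner] at this
  revert this
  generalize x.2 = c
  revert c
  decide

theorem partner_fst {b : ℕ} (x : Fin b × Fin 2) : (partner x).1 = x.1 := rfl

/-- Nine even elements preserving three blocks of size two. -/
def sixWords : Fin 9 → Equiv.Perm (Fin 3 × Fin 2) :=
  ![Equiv.swap (0,0) (0,1) * Equiv.swap (1,0) (1,1), Equiv.swap (0,0) (0,1) * Equiv.swap (2,0) (2,1),
    Equiv.swap (1,0) (1,1) * Equiv.swap (2,0) (2,1),
    Equiv.swap (0,0) (1,0) * Equiv.swap (0,1) (1,1), Equiv.swap (0,0) (2,0) * Equiv.swap (0,1) (2,1),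
    Equiv.swap (1,0) (2,0) * Equiv.swap (1,1) (2,1),
    Equiv.swap (0,0) (1,1) * Equiv.swap (0,1) (1,0), Equiv.swap (0,0) (2,1) * Equiv.swap (0,1) (2,0),
    Equiv.swap (1,0) (2,1) * Equiv.swap (1,1) (2,0)]

/-- Boolean test for moving exactly three points. -/
def movesThree (p : Equiv.Perm (Fin 3 × Fin 2)) : Bool :=
  ([((0 : Fin 3), (0 : Fin 2)), (0,1), (1,0), (1,1), (2,0), (2,1)].countP fun x => decide (p x ≠ x)) == 3

theorem six_words_spec : ∀ u v s w : Fin 3 × Fin 2,
    u.1 ≠ v.1 → s ≠ w → u ≠ s → u ≠ w → v ≠ s → v ≠ w → partner u ≠ s → partner u ≠ w →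
    ∃ i : Fin 9, movesThree (Equiv.swap u v * Equiv.swap s w * sixWords i) = true ∨
      movesThree ((Equiv.swap u v * Equiv.swap s w * sixWords i) *
        (Equiv.swap u v * Equiv.swap s w * sixWords i)) = true := by
  decide +kernel

theorem movesThree_isThreeCycle {p : Equiv.Perm (Fin 3 × Fin 2)} (h : movesThree p = true) :
    p.IsThreeCycle := by
  rw [← card_support_eq_three_iff]
  simp only [movesThree, beq_iff_eq] at h
  refine Eq.trans ?_ h
  rw [List.countP_eq_length_filter]
  rw [← List.toFinset_card_of_nodup]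
  · congr 1
    ext x
    simp only [Equiv.Perm.mem_support, List.mem_toFinset, List.mem_filter, decide_eq_true_eq]
    refine ⟨fun hx => ⟨?_, hx⟩, fun hx => hx.2⟩
    clear hx
    revert x
    decide
  · exact List.Nodup.filter _ (by decide)

theorem sixWords_mem (i : Fin 9) : sixWords i ∈ blockGroup (Prod.fst : Fin 3 × Fin 2 → Fin 3) ⊓
    alternatingGroup (Fin 3 × Fin 2) := by
  refine ⟨?_, ?_⟩
  · show ∀ x y, _
    revert i
    decide +kernel
  · show sixWords i ∈ alternatingGroup _
    rw [Equiv.Perm.mem_alternatingGroup]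
    revert i
    decide +kernel

theorem exists_threeCycle_of_double {b : ℕ} (hb : 3 ≤ b) (hb4 : b ≠ 4)
    (K : Subgroup (Equiv.Perm (Fin b × Fin 2)))
    (hK : blockGroup (Prod.fst : Fin b × Fin 2 → Fin b) ⊓ alternatingGroup _ ≤ K)
    {u v s w : Fin b × Fin 2} (huv : u.1 ≠ v.1) (hsw : s ≠ w) (hus : u ≠ s) (huw : u ≠ w)
    (hvs : v ≠ s) (hvw : v ≠ w) (hps : partner u ≠ s) (hpw : partner u ≠ w)
    (ht : Equiv.swap u v * Equiv.swap s w ∈ K) : ∃ p ∈ K, p.IsThreeCycle := by
  rcases Nat.lt_or_ge b 5 with hb5 | hb5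
  · obtain rfl : b = 3 := by omega
    obtain ⟨i, hi | hi⟩ := six_words_spec u v s w huv hsw hus huw hvs hvw hps hpw
    · exact ⟨_, K.mul_mem ht (hK (sixWords_mem i)), movesThree_isThreeCycle hi⟩
    · exact ⟨_, K.mul_mem (K.mul_mem ht (hK (sixWords_mem i))) (K.mul_mem ht (hK (sixWords_mem i))),
        movesThree_isThreeCycle hi⟩
  obtain ⟨i, -, hi⟩ := Finset.exists_mem_notMem_of_card_lt_card
    (s := ({u.1, v.1, s.1, w.1} : Finset (Fin b))) (t := Finset.univ)
    (by rw [Finset.card_univ, Fintype.card_fin]; exact lt_of_le_of_lt Finset.card_le_four hb5)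
  simp only [Finset.mem_insert, Finset.mem_singleton, not_or] at hi
  obtain ⟨hiu, hiv, his, hiw⟩ := hi
  set z : Fin b × Fin 2 := (i, 0) with hz
  have hz' : ∀ y : Fin b × Fin 2, i ≠ y.1 → z ≠ y ∧ partner z ≠ y := fun y h =>
    ⟨fun e => h (by rw [← e]), fun e => h (by rw [← e]; rfl)⟩
  have hpv : partner u ≠ v := fun e => huv (by rw [← e]; rfl)
  have hzn := (partner_ne z).symm
  have hun := (partner_ne u).symm
  set t := Equiv.swap u v * Equiv.swap s w with htdef
  set e := Equiv.swap u (partner u) * Equiv.swap z (partner z) with hedef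
  have he : e ∈ K := hK ⟨mul_mem (swap_mem_blockGroup rfl) (swap_mem_blockGroup rfl),
    swap_mul_swap_mem_alternating hun hzn⟩
  have htinv : t⁻¹ = t := by
    have hd : Equiv.swap s w * Equiv.swap u v = Equiv.swap u v * Equiv.swap s w := by
      apply Equiv.Perm.Disjoint.commute
      intro x
      rcases eq_or_ne x u with rfl | hxu
      · exact Or.inl (Equiv.swap_apply_of_ne_of_ne hus huw)
      rcases eq_or_ne x v with rfl | hxv
      · exact Or.inl (Equiv.swap_apply_of_ne_of_ne hvs hvw)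
      exact Or.inr (Equiv.swap_apply_of_ne_of_ne hxu hxv)
    rw [htdef, mul_inv_rev, Equiv.swap_inv, Equiv.swap_inv, hd]
  have htu : t u = v := by
    rw [htdef, Equiv.Perm.mul_apply, Equiv.swap_apply_of_ne_of_ne hus huw, Equiv.swap_apply_left]
  have htfix : ∀ y, y ≠ u → y ≠ v → y ≠ s → y ≠ w → t y = y := fun y h1 h2 h3 h4 => by
    rw [htdef, Equiv.Perm.mul_apply, Equiv.swap_apply_of_ne_of_ne h3 h4,
      Equiv.swap_apply_of_ne_of_ne h1 h2]
  have htpu : t (partner u) = partner u := htfix _ (partner_ne u) hpv hps hpw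
  have htz : t z = z := htfix _ (hz' u hiu).1 (hz' v hiv).1 (hz' s his).1 (hz' w hiw).1
  have htpz : t (partner z) = partner z := htfix _ (hz' u hiu).2 (hz' v hiv).2 (hz' s his).2 (hz' w hiw).2
  have hconj : t * e * t⁻¹ = Equiv.swap v (partner u) * Equiv.swap z (partner z) := by
    rw [hedef, show t * (Equiv.swap u (partner u) * Equiv.swap z (partner z)) * t⁻¹ =
      (t * Equiv.swap u (partner u) * t⁻¹) * (t * Equiv.swap z (partner z) * t⁻¹) by group,
      ← Equiv.swap_apply_apply, ← Equiv.swap_apply_apply, htu, htpu, htz, htpz]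
  have hcomm : Equiv.swap z (partner z) * Equiv.swap u (partner u) =
      Equiv.swap u (partner u) * Equiv.swap z (partner z) := by
    apply Equiv.Perm.Disjoint.commute
    intro x
    rcases eq_or_ne x z with rfl | h1
    · exact Or.inr (Equiv.swap_apply_of_ne_of_ne (hz' u hiu).1 (hz' (partner u) hiu).1)
    rcases eq_or_ne x (partner z) with rfl | h2
    · exact Or.inr (Equiv.swap_apply_of_ne_of_ne (hz' u hiu).2 (hz' (partner u) hiu).2)
    exact Or.inl (Equiv.swap_apply_of_ne_of_ne h1 h2)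
  refine ⟨t * e * t⁻¹ * e, K.mul_mem (K.mul_mem (K.mul_mem ht he) (K.inv_mem ht)) he, ?_⟩
  rw [hconj, hedef, mul_assoc, ← mul_assoc (Equiv.swap z (partner z)), hcomm, mul_assoc,
    Equiv.swap_mul_self, mul_one, Equiv.swap_comm v (partner u), Equiv.swap_comm u (partner u)]
  exact Equiv.Perm.isThreeCycle_swap_mul_swap_same hpv (partner_ne u) (fun h => huv (by rw [h]))

/-- An overgroup of the even block group (blocks of size two) not preserving the blocks
contains a three-cycle. -/
theorem exists_threeCycle_two {b : ℕ} (hb : 3 ≤ b) (hb4 : b ≠ 4)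
    (K : Subgroup (Equiv.Perm (Fin b × Fin 2)))
    (hK : blockGroup (Prod.fst : Fin b × Fin 2 → Fin b) ⊓ alternatingGroup _ ≤ K)
    (hnot : ¬ K ≤ blockGroup (Prod.fst : Fin b × Fin 2 → Fin b)) : ∃ p ∈ K, p.IsThreeCycle := by
  obtain ⟨g, hg, i, hi⟩ : ∃ g ∈ K, ∃ i : Fin b, (g (i, 0)).1 ≠ (g (i, 1)).1 := by
    by_contra h
    push_neg at h
    have hfwd : ∀ g ∈ K, ∀ x y : Fin b × Fin 2, x.1 = y.1 → (g x).1 = (g y).1 := by
      rintro g hg ⟨i, c⟩ ⟨j, d⟩ (rfl : i = j)
      fin_cases c <;> fin_cases d <;> simp [h g hg i]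
    apply hnot
    intro g hg x y
    refine ⟨hfwd g hg x y, fun he => ?_⟩
    simpa using hfwd g⁻¹ (inv_mem hg) (g x) (g y) he
  obtain ⟨j, -, hji⟩ := Finset.exists_mem_notMem_of_card_lt_card
    (s := ({i} : Finset (Fin b))) (t := Finset.univ)
    (by rw [Finset.card_univ, Fintype.card_fin, Finset.card_singleton]; omega)
  obtain ⟨k, -, hki⟩ := Finset.exists_mem_notMem_of_card_lt_card
    (s := ({i, j} : Finset (Fin b))) (t := Finset.univ)
    (by rw [Finset.card_univ, Fintype.card_fin]; exact lt_of_le_of_lt Finset.card_le_two hb)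
  simp only [Finset.mem_insert, Finset.mem_singleton, not_or] at hji hki
  obtain ⟨l, hli, hl0, hl1⟩ : ∃ l, l ≠ i ∧ partner (g (i, 0)) ≠ g (l, 0) ∧ partner (g (i, 0)) ≠ g (l, 1) := by
    by_cases h : partner (g (i, 0)) = g (j, 0) ∨ partner (g (i, 0)) = g (j, 1)
    · refine ⟨k, hki.1, ?_, ?_⟩ <;>
        (intro e; rcases h with h | h <;>
          exact hki.2 (congrArg Prod.fst (g.injective (e.symm.trans h))))
    · exact ⟨j, hji, not_or.1 h⟩
  have hne : ∀ {p q : Fin b} {c d : Fin 2}, p ≠ q → g (p, c) ≠ g (q, d) := fun h e =>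
    h (congrArg Prod.fst (g.injective e))
  have hP : Equiv.swap (i, (0 : Fin 2)) (i, 1) * Equiv.swap (l, (0 : Fin 2)) (l, 1) ∈ K :=
    hK ⟨mul_mem (swap_mem_blockGroup rfl) (swap_mem_blockGroup rfl),
      swap_mul_swap_mem_alternating (by simp) (by simp)⟩
  have ht : Equiv.swap (g (i, 0)) (g (i, 1)) * Equiv.swap (g (l, 0)) (g (l, 1)) ∈ K := by
    rw [Equiv.swap_apply_apply, Equiv.swap_apply_apply]
    convert K.mul_mem (K.mul_mem hg hP) (K.inv_mem hg) using 1
    group
  exact exists_threeCycle_of_double hb hb4 K hK hi (fun e => by simpa using g.injective e)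
    (hne hli.symm) (hne hli.symm) (hne hli.symm) (hne hli.symm) hl0 hl1 ht

variable {Ω : Type*} [Fintype Ω] [DecidableEq Ω] {a b : ℕ}

/-- Transport of even block-preserving permutations along coordinates. -/
theorem permCongr_mem {f : Ω → Fin b} {e : Ω ≃ Fin b × Fin a} (he : ∀ x, (e x).1 = f x)
    {p : Equiv.Perm (Fin b × Fin a)}
    (hp : p ∈ blockGroup (Prod.fst : Fin b × Fin a → Fin b) ⊓ alternatingGroup _) :
    e.symm.permCongrHom p ∈ blockGroup f ⊓ alternatingGroup Ω := by
  refine ⟨fun x y => ?_, ?_⟩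
  · simpa [Equiv.permCongrHom, Equiv.permCongr_apply, ← he] using hp.1 (e x) (e y)
  · show e.symm.permCongrHom p ∈ alternatingGroup Ω
    have h : p ∈ alternatingGroup _ := hp.2
    rw [Equiv.Perm.mem_alternatingGroup] at h
    rw [Equiv.Perm.mem_alternatingGroup, ← h]
    exact Equiv.Perm.sign_permCongr _ _

theorem exists_threeCycle_blocks (f : Ω → Fin b) (hf : ∀ i : Fin b, Nat.card {x : Ω // f x = i} = a)
    (ha : 2 ≤ a) (h3 : 3 ≤ a ∨ (3 ≤ b ∧ b ≠ 4)) (hb : 2 ≤ b)
    (K : Subgroup (Equiv.Perm Ω))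
    (hK : blockGroup f ⊓ alternatingGroup Ω ≤ K) (hnot : ¬ K ≤ blockGroup f) :
    ∃ p ∈ K, p.IsThreeCycle := by
  obtain ⟨e, he⟩ := exists_blockEquiv f hf
  rcases Nat.lt_or_ge 2 a with ha3 | ha3
  · let x := e.symm (⟨0, by omega⟩, ⟨0, by omega⟩)
    let y := e.symm (⟨0, by omega⟩, ⟨1, by omega⟩)
    let z := e.symm (⟨0, by omega⟩, ⟨2, by omega⟩)
    have hxy : x ≠ y := fun h => by simpa [x, y] using congrArg (fun p => (e p).2) h
    have hxz : x ≠ z := fun h => by simpa [x, z] using congrArg (fun p => (e p).2) h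
    have hyz : y ≠ z := fun h => by simpa [y, z] using congrArg (fun p => (e p).2) h
    refine ⟨Equiv.swap x y * Equiv.swap x z, hK ⟨mul_mem (swap_mem_blockGroup (by simp [x, y, ← he]))
      (swap_mem_blockGroup (by simp [x, z, ← he])), swap_mul_swap_mem_alternating hxy hxz⟩,
      Equiv.Perm.isThreeCycle_swap_mul_swap_same hxy hxz hyz⟩
  obtain rfl : a = 2 := le_antisymm ha3 ha
  obtain ⟨hb3, hb4⟩ : 3 ≤ b ∧ b ≠ 4 := h3.resolve_left (by omega)
  obtain ⟨p, hp, hp3⟩ := exists_threeCycle_two hb3 hb4 (K.comap e.symm.permCongrHom.toMonoidHom)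
    (fun p hp => hK (permCongr_mem he hp))
    (fun hle => hnot fun g hg => by
      have h0 : e.symm.permCongrHom (e.permCongrHom g) = g := by
        ext x; simp [Equiv.permCongrHom, Equiv.permCongr_apply]
      have h1 := hle (x := e.permCongrHom g) (by
        rw [Subgroup.mem_comap]; exact (congrArg (· ∈ K) h0).mpr hg)
      intro x y
      simpa [Equiv.permCongrHom, Equiv.permCongr_apply, ← he] using h1 (e x) (e y))
  refine ⟨_, hp, ?_⟩
  rw [← card_support_eq_three_iff] at hp3 ⊢
  rw [← hp3, ← Finset.card_map e.symm.toEmbedding]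
  congr 1
  ext x
  simp [Equiv.permCongrHom, Equiv.permCongr_apply, Equiv.symm_apply_eq]

/-- The even imprimitive group is maximal in the alternating group. -/
theorem isCoatom_blockGroup_alt (h8 : Fintype.card Ω ≠ 8) (f : Ω → Fin b)
    (hf : ∀ i : Fin b, Nat.card {x : Ω // f x = i} = a) (ha : 2 ≤ a) (hb : 2 ≤ b) :
    IsCoatom ((blockGroup f ⊓ alternatingGroup Ω).subgroupOf (alternatingGroup Ω)) := by
  obtain ⟨e, he⟩ := exists_blockEquiv f hf
  have hcard : Fintype.card Ω = b * a := by
    rw [Fintype.card_congr e, Fintype.card_prod, Fintype.card_fin, Fintype.card_fin]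
  refine ⟨fun h => blockGroup_ne_top he ha hb fun g hg => ?_, fun K' hK' => ?_⟩
  · have : (⟨g, hg⟩ : alternatingGroup Ω) ∈
        (blockGroup f ⊓ alternatingGroup Ω).subgroupOf (alternatingGroup Ω) := h ▸ Subgroup.mem_top _
    exact this.1
  obtain ⟨g, hgK, hg⟩ := SetLike.not_le_iff_exists.1 hK'.not_ge
  have hle : blockGroup f ⊓ alternatingGroup Ω ≤ K'.map (alternatingGroup Ω).subtype := fun x hx =>
    ⟨⟨x, hx.2⟩, hK'.le hx, rfl⟩
  have hnot : ¬ K'.map (alternatingGroup Ω).subtype ≤ blockGroup f := fun h =>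
    hg ⟨h ⟨g, hgK, rfl⟩, g.2⟩
  suffices hA : alternatingGroup Ω ≤ K'.map (alternatingGroup Ω).subtype by
    rw [eq_top_iff]
    intro x _
    obtain ⟨y, hy, hyx⟩ := hA x.2
    obtain rfl : y = x := Subtype.ext hyx
    exact hy
  by_cases h22 : a = 2 ∧ b = 2
  · obtain ⟨rfl, rfl⟩ := h22
    -- four points: the block group has index three
    set W := blockGroup f ⊓ alternatingGroup Ω with hWdef
    let q : Fin 2 × Fin 2 → Equiv.Perm (Fin 2 × Fin 2) := fun i =>
      Equiv.prodCongr (Equiv.swap 0 i.1) (Equiv.swap 0 i.2)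
    have hq : ∀ i, q i ∈ blockGroup (Prod.fst : Fin 2 × Fin 2 → Fin 2) ⊓ alternatingGroup _ := by
      intro i
      refine ⟨fun x y => ?_, ?_⟩
      · simp [q]
      · show q i ∈ alternatingGroup _
        rw [Equiv.Perm.mem_alternatingGroup]
        revert i
        decide
    have h4 : 4 ≤ Nat.card W := by
      have hinj : Function.Injective q := by decide
      have := Nat.card_le_card_of_injective
        (fun i => (⟨e.symm.permCongrHom (q i), permCongr_mem he (hq i)⟩ : W))
        (fun i j h => hinj (e.symm.permCongrHom.injective (congrArg Subtype.val h)))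
      simpa [Nat.card_eq_fintype_card] using this
    have hlt : W < K'.map (alternatingGroup Ω).subtype :=
      lt_of_le_of_ne hle fun h => hnot (h ▸ inf_le_left)
    obtain ⟨k, hk⟩ := Subgroup.card_dvd_of_le hle
    have hcl := Set.Finite.card_lt_card (Set.toFinite _) hlt
    have h12 : Nat.card (alternatingGroup Ω) = 12 := by
      have : Nontrivial Ω := Fintype.one_lt_card_iff_nontrivial.1 (by omega)
      have := two_mul_card_alternatingGroup (α := Ω)
      rw [Fintype.card_perm, hcard] at this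
      rw [Nat.card_eq_fintype_card]
      have : 2 * Fintype.card (alternatingGroup Ω) = 24 := this
      omega
    have hKd := Subgroup.card_dvd_of_le (Subgroup.map_subtype_le K')
    rw [h12] at hKd
    change Nat.card W < Nat.card ↥(K'.map (alternatingGroup Ω).subtype) at hcl
    have hWd := Subgroup.card_dvd_of_le (show W ≤ alternatingGroup Ω from inf_le_right)
    rw [h12] at hWd
    have hfin : Nat.card ↥(K'.map (alternatingGroup Ω).subtype) = 12 := by
      generalize Nat.card ↥(K'.map (alternatingGroup Ω).subtype) = m at *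
      generalize Nat.card W = w at *
      have := Nat.le_of_dvd (by norm_num) hKd
      have := Nat.le_of_dvd (by norm_num) hWd
      subst hk
      have hk2 : 2 ≤ k := by
        rcases k with _ | _ | k <;> simp_all
      have hm8 : 8 ≤ w * k := le_trans (by norm_num) (Nat.mul_le_mul h4 hk2)
      obtain ⟨c, hc⟩ := hKd
      rcases c with _ | _ | c
      · simp at hc
      · omega
      · nlinarith
    exact (Subgroup.eq_of_le_of_card_ge (Subgroup.map_subtype_le K') (by rw [hfin, h12])).ge
  have h3 : 3 ≤ a ∨ (3 ≤ b ∧ b ≠ 4) := by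
    by_contra hc
    simp only [not_or, not_and_or, not_not] at hc
    obtain rfl : a = 2 := by omega
    omega
  obtain ⟨p, hp, hp3⟩ := exists_threeCycle_blocks f hf ha h3 hb _ hle hnot
  exact Equiv.Perm.alternatingGroup_le_of_isPreprimitive_of_isThreeCycle_mem
    (isPreprimitive_of_block f hf ha hb (by omega) _ hle hnot) hp3 hp

end CfsgLib.Maximal
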