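import Cfsg.Agent.Lib.CNCount.Frob

/-!
# Values on an abelian normal subgroup with free action
-/

set_option autoImplicit false

noncomputable section

namespace CfsgLib.CASimple

open Cfsg CfsgLib.Characters CfsgLib.CNCount
open scoped ComplexConjugate

universe u

variable {N : Type u} [Group N] [Fintype N] {H : Subgroup N} [H.Normal] [Fintype H]

/-- Expansion of a class function on an abelian subgroup by linear characters. -/
theorem sum_linear (hcomm : commutator H = ⊥) {φ : N → ℂ} (hφ : IsClassFunction N φ) (y : H) :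
    φ y = ∑ f : ↥H →* ℂˣ, classInner φ (chi H f) * (f y : ℂ) := by
  classical
  have hidx : ((commutator H).index : ℂ) = (Nat.card H : ℂ) := by rw [hcomm, Subgroup.index_bot]
  have hz : ∀ z : H, ∑ f : ↥H →* ℂˣ, conj (f z : ℂ) * (f y : ℂ) =
      if z = y then (Nat.card H : ℂ) else 0 := by
    intro z
    rw [Finset.sum_congr rfl fun f _ => show conj (f z : ℂ) * (f y : ℂ) = (f (z⁻¹ * y) : ℂ) by
      rw [conj_unitsHom, map_mul, map_inv, Units.val_mul], sum_unitsHom, hidx]
    by_cases h : z = y
    · rw [if_pos h, if_pos (by rw [h, inv_mul_cancel]; exact one_mem _)]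
    · rw [if_neg h, if_neg (by rwa [hcomm, Subgroup.mem_bot, inv_mul_eq_one])]
  rw [Finset.sum_congr rfl fun f _ => congrArg (· * (f y : ℂ)) (classInner_res hφ f).symm]
  simp only [classInner, mul_assoc, Finset.sum_mul, ← Finset.mul_sum]
  rw [Finset.sum_comm]
  simp only [← Finset.mul_sum, hz, mul_ite, mul_zero, Finset.sum_ite_eq', Finset.mem_univ, if_true]
  rw [← mul_assoc, mul_comm ((Nat.card H : ℂ))⁻¹, mul_assoc,
    inv_mul_cancel₀ (Nat.cast_ne_zero.2 Nat.card_pos.ne'), mul_one]

open scoped Classical in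
/-- Weighted sums of the induced characters, grouped by linear characters. -/
theorem sum_indSet (hfree : FreeOn H) (hcomm : commutator H = ⊥) (F : (N → ℂ) → ℂ) (y : H) :
    ∑ χ ∈ indSet H, F (χ : N → ℂ) * (χ : N → ℂ) y =
      ∑ f ∈ Finset.univ.erase (1 : ↥H →* ℂˣ), F (chi H f) * (f y : ℂ) := by
  have key : ∀ χ ∈ indSet H, F (χ : N → ℂ) * (χ : N → ℂ) y =
      ∑ f ∈ Finset.univ.erase (1 : ↥H →* ℂˣ),
        if chi H f = (χ : N → ℂ) then F (chi H f) * (f y : ℂ) else 0 := by
    intro χ hχ
    rw [sum_linear hcomm (irr_isClassFunction χ) y, Finset.mul_sum,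
      ← Finset.add_sum_erase Finset.univ _ (Finset.mem_univ (1 : ↥H →* ℂˣ))]
    obtain ⟨g, hg, hgχ⟩ := mem_indSet.1 hχ
    have h0 : classInner (χ : N → ℂ) (chi H 1) = 0 := by
      rw [← hgχ, CfsgLib.Induction.classInner_swap, classInner_chi_trivial, if_neg hg, map_zero]
    rw [h0, zero_mul, mul_zero, zero_add]
    refine Finset.sum_congr rfl fun f hf => ?_
    by_cases h : chi H f = (χ : N → ℂ)
    · rw [if_pos h, h, classInner_irr_self χ.2, one_mul]
    · rw [if_neg h, classInner_irr_ne χ.2 (isIrr_chi hfree (Finset.mem_erase.1 hf).1)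
        (fun e => h e.symm), zero_mul, mul_zero]
  rw [Finset.sum_congr rfl key, Finset.sum_comm]
  refine Finset.sum_congr rfl fun f hf => ?_
  have hf1 := (Finset.mem_erase.1 hf).1
  rw [Finset.sum_eq_single (⟨chi H f, isIrr_chi hfree hf1⟩ : IrrCharacter N)
    (fun χ _ hne => if_neg fun h => hne (Subtype.ext h.symm))
    (fun h => absurd (mem_indSet.2 ⟨f, hf1, rfl⟩) h)]
  exact if_pos rfl

open scoped Classical in
/-- The induced characters sum to `-1` at a non-identity element. -/
theorem sum_indSet_apply (hfree : FreeOn H) (hcomm : commutator H = ⊥) {y : H} (hy : y ≠ 1) :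
    ∑ χ ∈ indSet H, (χ : N → ℂ) y = -1 := by
  have h := sum_indSet hfree hcomm (fun _ => (1 : ℂ)) y
  simp only [one_mul] at h
  rw [h]
  have h2 := sum_unitsHom (K := ↥H) y
  rw [if_neg (by rwa [hcomm, Subgroup.mem_bot]),
    ← Finset.add_sum_erase Finset.univ _ (Finset.mem_univ (1 : ↥H →* ℂˣ))] at h2
  simp only [MonoidHom.one_apply, Units.val_one] at h2
  linear_combination h2

open scoped Classical in
/-- A class function on the subgroup, by its coefficients at the induced characters. -/
theorem expand (hfree : FreeOn H) (hcomm : commutator H = ⊥) {φ : N → ℂ}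
    (hφ : IsClassFunction N φ) (y : H) :
    φ y = classInner φ (chi H 1) + ∑ χ ∈ indSet H, classInner φ (χ : N → ℂ) * (χ : N → ℂ) y := by
  rw [sum_indSet hfree hcomm (classInner φ) y, sum_linear hcomm hφ y,
    ← Finset.add_sum_erase Finset.univ _ (Finset.mem_univ (1 : ↥H →* ℂˣ))]
  simp only [MonoidHom.one_apply, Units.val_one, mul_one]

end CfsgLib.CASimple
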