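import Cfsg.Agent.Lib.Maximal.CASimpleLocal
import Cfsg.Agent.Lib.Maximal.CASimpleExpand
import Cfsg.Agent.Lib.Characters.TIFNChar
import Cfsg.Agent.Lib.Blocks.ClassCount

/-!
# Simple groups with abelian centralisers: the centraliser of an involution is elementary
-/

set_option autoImplicit false

noncomputable section

namespace CfsgLib.CASimple

open Cfsg CfsgLib.Characters CfsgLib.CNCount
open scoped ComplexConjugate

universe u

variable {G : Type u} [Group G]

/-- The numerical contradiction. -/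
theorem arith {g a r t z k : ℕ} {c ε : ℤ} (hε : ε = 1 ∨ ε = -1) (hr : 3 ≤ r) (ht : 2 ≤ t)
    (hta : t * r + 1 = a) (hz : 1 ≤ z) (hgz : t * z ^ 2 < g) (hk : 1 ≤ k)
    (hg : g = a * r * (1 + k * a))
    (heq : ε * (g : ℤ) * ((r : ℤ) - 1 + 2 * (ε * c)) = ((r : ℤ) - 1) * a * z)
    (hineq : (t : ℤ) * c ^ 2 - 2 * (ε * c) ≤ (r : ℤ) - 1) : False := by
  have hc2 : c ^ 2 = (ε * c) ^ 2 := by rcases hε with rfl | rfl <;> ring
  rw [hc2] at hineq
  generalize ε * c = u at heq hineq
  have hR : (3 : ℤ) ≤ (r : ℤ) := by exact_mod_cast hr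
  have hT : (2 : ℤ) ≤ t := by exact_mod_cast ht
  have hA : (t : ℤ) * r + 1 = a := by exact_mod_cast hta
  have hZ : (1 : ℤ) ≤ z := by exact_mod_cast hz
  have hK : (1 : ℤ) ≤ k := by exact_mod_cast hk
  have hG : (t : ℤ) * z ^ 2 < g := by exact_mod_cast hgz
  have hG' : (g : ℤ) = a * r * (1 + k * a) := by exact_mod_cast hg
  generalize (r : ℤ) = R at *
  set D : ℤ := ε * (R - 1 + 2 * u) with hDdef
  have hDg : D * g = (R - 1) * a * z := by rw [hDdef, ← heq]; ring
  have hApos : (7 : ℤ) ≤ a := by nlinarith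
  have hgpos : (0 : ℤ) < g := by nlinarith
  have hDpos : 0 < D := by
    by_contra h
    nlinarith [mul_nonpos_of_nonpos_of_nonneg (not_lt.1 h) hgpos.le,
      mul_pos (mul_pos (show (0 : ℤ) < R - 1 by linarith) (show (0 : ℤ) < a by linarith))
        (show (0 : ℤ) < z by linarith)]
  have hcancel : D * R * (1 + k * a) = (R - 1) * z :=
    mul_left_cancel₀ (show (a : ℤ) ≠ 0 by linarith) (by linear_combination hDg - D * hG')
  have hlt : D * t * z < (R - 1) * a := by
    have h1 : D * (t * z ^ 2) < D * g := mul_lt_mul_of_pos_left hG hDpos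
    refine lt_of_mul_lt_mul_right (a := (z : ℤ)) ?_ (by linarith)
    calc D * t * z * z = D * (t * z ^ 2) := by ring
      _ < D * g := h1
      _ = (R - 1) * a * z := hDg
  have hge : D * R * a ≤ (R - 1) * z := by
    rw [← hcancel]
    exact mul_le_mul_of_nonneg_left (by nlinarith) (by positivity)
  by_cases hu : 0 ≤ u
  · have hD : R - 1 ≤ D := by
      rcases hε with rfl | rfl <;> simp only [hDdef] at hDpos ⊢ <;> linarith
    have h1 : (R - 1) * (R * a) ≤ (R - 1) * z := by
      refine le_trans ?_ hge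
      rw [mul_assoc]
      exact mul_le_mul_of_nonneg_right hD (by positivity)
    have h2 : R * a ≤ z := le_of_mul_le_mul_left h1 (by linarith)
    have h3 : (R - 1) * (2 * z) ≤ D * t * z := by
      rw [mul_assoc D]
      exact mul_le_mul hD (mul_le_mul_of_nonneg_right hT (by linarith)) (by linarith) hDpos.le
    have h4 : 2 * (z : ℤ) < a :=
      lt_of_mul_lt_mul_left (lt_of_le_of_lt h3 hlt) (by linarith)
    nlinarith [mul_le_mul_of_nonneg_right hR (show (0 : ℤ) ≤ a by linarith)]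
  · have hu' : u ≤ -1 := by omega
    have hu2 : -u ≤ u ^ 2 := by
      rw [show u ^ 2 = -u * -u by ring]
      exact le_mul_of_one_le_left (by linarith) (by linarith)
    have hlow : 2 * u ^ 2 ≤ (t : ℤ) * u ^ 2 := mul_le_mul_of_nonneg_right hT (sq_nonneg u)
    have hD0 : (2 : ℤ) ≤ R - 1 + 2 * u := by linarith
    have hD : D = R - 1 + 2 * u := by
      rcases hε with rfl | rfl <;> simp only [hDdef] at hDpos ⊢ <;> linarith
    have hD2 : R - 1 ≤ 2 * D := by linarith
    have h1 : (t : ℤ) * D * (D * R * a) < (R - 1) * ((R - 1) * a) := by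
      refine lt_of_le_of_lt (mul_le_mul_of_nonneg_left hge (by positivity)) ?_
      calc (t : ℤ) * D * ((R - 1) * z) = (R - 1) * (D * t * z) := by ring
        _ < (R - 1) * ((R - 1) * a) := mul_lt_mul_of_pos_left hlt (by linarith)
    have h2 : (t : ℤ) * D * (D * R) < (R - 1) * (R - 1) :=
      lt_of_mul_lt_mul_right (a := (a : ℤ)) (by
        calc (t : ℤ) * D * (D * R) * a = (t : ℤ) * D * (D * R * a) := by ring
          _ < (R - 1) * ((R - 1) * a) := h1
          _ = (R - 1) * (R - 1) * a := by ring) (by linarith)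
    have h3 : (R - 1) * (R - 1) ≤ (R - 1) * R := mul_le_mul_of_nonneg_left (by linarith) (by linarith)
    have h4 : (t : ℤ) * D * D < R - 1 :=
      lt_of_mul_lt_mul_right (a := R) (by
        calc (t : ℤ) * D * D * R = (t : ℤ) * D * (D * R) := by ring
          _ < (R - 1) * (R - 1) := h2
          _ ≤ (R - 1) * R := h3) (by linarith)
    have h5 : 2 * D ≤ (t : ℤ) * D * D := by
      rw [mul_assoc]
      exact mul_le_mul hT (le_mul_of_one_le_left (by linarith) (by linarith)) (by linarith)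
        (by linarith)
    linarith

namespace Setup

variable [Finite G] (S : Setup G)

/-- The index of the normaliser exceeds one by a positive multiple of `|A|`. -/
theorem exists_index : ∃ k : ℕ, 1 ≤ k ∧ S.N.index = 1 + k * Nat.card S.A := by
  classical
  haveI : Fintype S.A := Fintype.ofFinite _
  haveI : Fintype (G ⧸ S.N) := Fintype.ofFinite _
  have hfree : ∀ q : G ⧸ S.N, q ≠ QuotientGroup.mk 1 → MulAction.stabilizer S.A q = ⊥ := by
    intro q hq
    induction q using Quotient.inductionOn' with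
    | h g =>
      refine eq_bot_iff.2 fun k hk => ?_
      by_contra hk1
      have hk2 : g⁻¹ * (k : G) * g ∈ S.N := by
        have h := QuotientGroup.eq.1
          (show QuotientGroup.mk ((k : G) * g) = (QuotientGroup.mk g : G ⧸ S.N) from hk).symm
        rwa [← mul_assoc] at h
      have hk3 : g⁻¹ * (k : G) * g ∈ S.A := by
        by_contra h
        exact CfsgLib.TIFN.not_conj_mem S.hTI S.hC hk2 h g (by
          rw [show g * (g⁻¹ * (k : G) * g) * g⁻¹ = k by group]; exact k.2)
      have hg : g⁻¹ ∈ S.N := S.mem_N k.2 (fun h => hk1 (Subtype.ext h)) (by rwa [inv_inv])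
      exact hq (QuotientGroup.eq.2 (by simpa using hg))
  have hbase : MulAction.stabilizer S.A (QuotientGroup.mk 1 : G ⧸ S.N) = ⊤ := by
    refine eq_top_iff.2 fun k _ => ?_
    show QuotientGroup.mk ((k : G) * 1) = (QuotientGroup.mk 1 : G ⧸ S.N)
    exact QuotientGroup.eq.2 (by simpa using inv_mem (S.A_le_N k.2))
  haveI : Fintype (MulAction.orbitRel.Quotient S.A (G ⧸ S.N)) := Fintype.ofFinite _
  have hsum := MulAction.card_eq_sum_card_group_div_card_stabilizer (α := S.A) (β := G ⧸ S.N)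
  rw [← Finset.add_sum_erase Finset.univ _
    (Finset.mem_univ (⟦QuotientGroup.mk 1⟧ : MulAction.orbitRel.Quotient S.A (G ⧸ S.N)))] at hsum
  have hq : ∀ ω : MulAction.orbitRel.Quotient S.A (G ⧸ S.N),
      ω ≠ ⟦QuotientGroup.mk 1⟧ → Fintype.card (MulAction.stabilizer S.A ω.out) = 1 := by
    intro ω hω
    rw [← Nat.card_eq_fintype_card, hfree ω.out (fun h => hω (by rw [← h]; exact (Quotient.out_eq ω).symm)),
      Subgroup.card_bot]
  have hb : (⟦QuotientGroup.mk 1⟧ : MulAction.orbitRel.Quotient S.A (G ⧸ S.N)).out =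
      QuotientGroup.mk 1 := by
    obtain ⟨k, hk⟩ := Quotient.mk_out (s := MulAction.orbitRel S.A (G ⧸ S.N)) (QuotientGroup.mk 1)
    rw [← hk]
    exact (show k ∈ MulAction.stabilizer S.A (QuotientGroup.mk 1 : G ⧸ S.N) from
      hbase ▸ Subgroup.mem_top k)
  rw [Finset.sum_congr rfl (fun ω hω => by rw [hq ω (Finset.mem_erase.1 hω).1, Nat.div_one]),
    Finset.sum_const, smul_eq_mul] at hsum
  rw [← Nat.card_eq_fintype_card (α := G ⧸ S.N), ← Subgroup.index_eq_card,
    ← Nat.card_eq_fintype_card, ← Nat.card_eq_fintype_card] at hsum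
  rw [hb, hbase, Subgroup.card_top, Nat.div_self Nat.card_pos] at hsum
  refine ⟨_, ?_, hsum⟩
  by_contra h
  rw [not_le, Nat.lt_one_iff] at h
  rw [h, zero_mul, add_zero] at hsum
  exact S.N_ne_top (Subgroup.index_eq_one.1 hsum)

variable [Fintype G]

theorem pairs_self [DecidableEq G] : (CfsgLib.ClassCount.pairs S.t S.t {S.t}).card + 1 = S.invs.card := by
  classical
  rw [← Finset.card_erase_add_one S.t_mem_invs]
  congr 1
  refine Finset.card_bij (fun z _ => z.1) ?_ ?_ ?_
  · rintro ⟨u, v⟩ hz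
    simp only [CfsgLib.ClassCount.pairs, Finset.mem_filter, Finset.mem_product,
      CfsgLib.ClassCount.mem_cls, Finset.mem_singleton] at hz
    obtain ⟨⟨hu, hv⟩, huv⟩ := hz
    have hu2 : orderOf u = 2 := (CfsgLib.Involutions.orderOf_eq_of_isConj hu).trans S.ht
    have hv2 : orderOf v = 2 := (CfsgLib.Involutions.orderOf_eq_of_isConj hv).trans S.ht
    refine Finset.mem_erase.2 ⟨fun h => ?_, S.mem_invs.2 ⟨?_, hu2⟩⟩
    · rw [show v = 1 from mul_eq_left.1 (by rw [show u * v = u from huv.trans h.symm])] at hv2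
      simp at hv2
    · refine Subgroup.mem_centralizer_singleton_iff.2 ?_
      have h1 : S.t⁻¹ = v * u := by
        rw [← huv, mul_inv_rev, CfsgLib.Involutions.inv_eq_self_of_involution hu2,
          CfsgLib.Involutions.inv_eq_self_of_involution hv2]
      rw [CfsgLib.Involutions.inv_eq_self_of_involution S.ht] at h1
      calc u * S.t = u * (v * u) := by rw [h1]
        _ = u * v * u := (mul_assoc _ _ _).symm
        _ = S.t * u := by rw [huv]
  · rintro ⟨u, v⟩ hz ⟨u', v'⟩ hz' h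
    simp only [CfsgLib.ClassCount.pairs, Finset.mem_filter, Finset.mem_singleton] at hz hz'
    obtain rfl : u = u' := h
    rw [mul_left_cancel (hz.2.trans hz'.2.symm)]
  · intro u hu
    obtain ⟨hut, hu'⟩ := Finset.mem_erase.1 hu
    obtain ⟨huA, hu2⟩ := S.mem_invs.1 hu'
    have huu := CfsgLib.Involutions.mul_self_eq_one hu2
    refine ⟨(u, u * S.t), ?_, rfl⟩
    simp only [CfsgLib.ClassCount.pairs, Finset.mem_filter, Finset.mem_product,
      CfsgLib.ClassCount.mem_cls, Finset.mem_singleton]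
    refine ⟨⟨S.conj _ _ S.ht hu2, S.conj _ _ S.ht ?_⟩, by rw [← mul_assoc, huu, one_mul]⟩
    rw [CfsgLib.Involutions.orderOf_eq_two_iff_mul]
    refine ⟨fun h => hut ?_, ?_⟩
    · calc u = u * S.t * S.t⁻¹ := (mul_inv_cancel_right u S.t).symm
        _ = S.t := by rw [h, one_mul, CfsgLib.Involutions.inv_eq_self_of_involution S.ht]
    · calc u * S.t * (u * S.t) = u * (S.t * u) * S.t := by group
        _ = u * (u * S.t) * S.t := by rw [S.comm S.t_mem huA]
        _ = 1 := by rw [← mul_assoc, huu, one_mul, CfsgLib.Involutions.mul_self_eq_one S.ht]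

theorem pairs_other [DecidableEq G] {y : G} (hy : y ∈ S.A) (hy2 : y * y ≠ 1) :
    (CfsgLib.ClassCount.pairs S.t S.t {y}).card = 0 := by
  classical
  refine Finset.card_eq_zero.2 (Finset.eq_empty_of_forall_notMem ?_)
  rintro ⟨u, v⟩ hz
  simp only [CfsgLib.ClassCount.pairs, Finset.mem_filter, Finset.mem_product,
    CfsgLib.ClassCount.mem_cls, Finset.mem_singleton] at hz
  obtain ⟨⟨hu, hv⟩, huv⟩ := hz
  have hu2 : orderOf u = 2 := (CfsgLib.Involutions.orderOf_eq_of_isConj hu).trans S.ht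
  have hv2 : orderOf v = 2 := (CfsgLib.Involutions.orderOf_eq_of_isConj hv).trans S.ht
  have hy1 : y ≠ 1 := fun h => hy2 (by rw [h, one_mul])
  have hinv : u * y * u⁻¹ = y⁻¹ := huv ▸ CfsgLib.Involutions.left_inverts_prod hu2 hv2
  have huA : u ∈ S.A := S.mem_A_of_involution (S.mem_N hy hy1 (hinv ▸ inv_mem hy)) hu2
  rw [S.comm huA hy, mul_inv_cancel_right] at hinv
  exact hy2 (mul_eq_one_iff_eq_inv.2 hinv)

set_option maxHeartbeats 1600000 in
/-- The centraliser of an involution has exponent two. -/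
theorem sq_eq_one {y : G} (hy : y ∈ S.A) : y * y = 1 := by
  classical
  by_contra hy2
  set N : Subgroup G := Subgroup.normalizer (S.A : Set G)
  haveI : Fintype ↥N := Fintype.ofFinite _
  set H : Subgroup ↥N := S.A.subgroupOf N
  haveI hn : H.Normal := Subgroup.normal_in_normalizer
  haveI : Fintype ↥H := Fintype.ofFinite _
  have hfree : FreeOn H := CfsgLib.TIFNChar.free S.hC
  have hcomm : commutator ↥H = ⊥ := by
    rw [commutator_def, eq_bot_iff, Subgroup.commutator_le]
    intro p _ q _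
    rw [Subgroup.mem_bot, commutatorElement_eq_one_iff_mul_comm]
    exact Subtype.ext (Subtype.ext (S.comm p.2 q.2))
  have hy1 : y ≠ 1 := fun h => hy2 (by rw [h, one_mul])
  set r := S.invs.card with hrdef
  have hidx : H.index = r := S.index_eq
  have hcardH : Nat.card ↥H = Nat.card S.A :=
    Nat.card_congr (Subgroup.subgroupOfEquivOfLe S.A_le_N).toEquiv
  set ι : Type u := {χ : IrrCharacter ↥N // χ ∈ indSet H}
  have hw : Fintype.card ι * r + 1 = Nat.card S.A := by
    rw [← hidx, Fintype.card_coe, card_indSet hfree, hcomm, Subgroup.index_bot, hcardH]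
  have hr : 3 ≤ r := S.three_le_invs_card
  have ht2 : 2 ≤ Fintype.card ι := by
    have h1 : (insert 1 (insert y S.invs)).card ≤ Nat.card S.A := by
      rw [Nat.card_eq_fintype_card, Fintype.card_subtype]
      refine Finset.card_le_card fun x hx => Finset.mem_filter.2 ⟨Finset.mem_univ x, ?_⟩
      rcases Finset.mem_insert.1 hx with rfl | hx
      · exact one_mem _
      rcases Finset.mem_insert.1 hx with rfl | hx
      · exact hy
      · exact (S.mem_invs.1 hx).1
    rw [Finset.card_insert_of_notMem (by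
        simp only [Finset.mem_insert, S.mem_invs, not_or, not_and]
        exact ⟨Ne.symm hy1, fun _ => by simp⟩),
      Finset.card_insert_of_notMem (fun h => hy2
        (CfsgLib.Involutions.mul_self_eq_one (S.mem_invs.1 h).2)), ← hrdef] at h1
    by_contra h
    have h2 : Fintype.card ι * r ≤ 1 * r := Nat.mul_le_mul_right r (by omega)
    omega
  haveI : Nontrivial ι := Fintype.one_lt_card_iff_nontrivial.1 (by omega)
  obtain ⟨i₀⟩ : Nonempty ι := inferInstance
  let χ : ι → ↥N → ℂ := fun i => (i.1 : ↥N → ℂ)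
  have hcl : ∀ i : ι, IsClassFunction ↥N (χ i) := fun i => irr_isClassFunction i.1
  have hdcl : ∀ i j : ι, IsClassFunction ↥N (χ i - χ j) := fun i j =>
    isClassFunction_sub (hcl i) (hcl j)
  have hdoff : ∀ (i j : ι) (x : ↥N), x ∉ H → (χ i - χ j) x = 0 := fun i j x hx => by
    simp [χ, indSet_off i.2 hx, indSet_off j.2 hx]
  have hd1 : ∀ i j : ι, (χ i - χ j) 1 = 0 := fun i j => by
    simp [χ, indSet_apply_one i.2, indSet_apply_one j.2]
  obtain ⟨εc, hεc, μ, hμ, hτ⟩ := CfsgLib.CharExceptional.exceptional_family i₀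
    (fun i => indFun N (χ i - χ i₀))
    (by funext g; simp [CfsgLib.Induction.indFun_apply, extendByZero, Function.extend_def])
    (fun i => CfsgLib.CharArtin.isGeneralizedCharacter_indFun N
      (isGeneralizedCharacter_sub (isGeneralizedCharacter_irr i.1) (isGeneralizedCharacter_irr i₀.1)))
    (fun i => by rw [CfsgLib.Induction.indFun_one_apply, hd1, mul_zero])
    (fun i hi => by
      rw [CfsgLib.TIFNChar.isometry S.hTI S.hC (hdcl i i₀) (hdoff i i₀) (hd1 i i₀),
        CfsgLib.CharExceptional.classInner_diff]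
      have : i.1 ≠ i₀.1 := fun e => hi (Subtype.ext e)
      simp [this, this.symm])
    (fun i j hi hj hne => by
      rw [CfsgLib.TIFNChar.isometry S.hTI S.hC (hdcl j i₀) (hdoff j i₀) (hd1 j i₀),
        CfsgLib.CharExceptional.classInner_diff]
      have h1 : i.1 ≠ j.1 := fun e => hne (Subtype.ext e)
      have h2 : i.1 ≠ i₀.1 := fun e => hi (Subtype.ext e)
      have h3 : i₀.1 ≠ j.1 := fun e => hj (Subtype.ext e.symm)
      simp [h1, h2, h3])
  obtain ⟨ε, hε, rfl⟩ := CfsgLib.CNCount.exists_sign hεc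
  have hεε : (ε : ℂ) * ε = 1 := by rcases hε with rfl | rfl <;> norm_num
  have hε0 : (ε : ℂ) ≠ 0 := left_ne_zero_of_mul_eq_one hεε
  have hδN : ∀ a b : IrrCharacter ↥N, classInner (a : ↥N → ℂ) (b : ↥N → ℂ) =
      if a = b then 1 else 0 := classInner_irr
  have hδG : ∀ a b : IrrCharacter G, classInner (a : G → ℂ) (b : G → ℂ) =
      if a = b then 1 else 0 := classInner_irr
  have hcoeff : ∀ ψ : IrrCharacter G, ∃ m : ℤ, ∀ i : ι,
      classInner (fun x : ↥N => (ψ : G → ℂ) x) (χ i) =
        ((m + ε * (if ψ = μ i then 1 else 0) : ℤ) : ℂ) := by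
    intro ψ
    obtain ⟨m₀, hm₀⟩ := classInner_char_nat
      (CfsgLib.Clifford.isCharacter_subtype (irr_isCharacter ψ) N) (irr_isCharacter i₀.1)
    refine ⟨(m₀ : ℤ) - ε * (if ψ = μ i₀ then 1 else 0), fun i => ?_⟩
    have h1 := CfsgLib.Induction.classInner_indFun_right N (χ i - χ i₀) (irr_isClassFunction ψ)
    rw [hτ i, classInner_smul_right, classInner_sub_right, classInner_sub_right, hδG, hδG,
      map_intCast, show classInner (fun x : ↥N => (ψ : G → ℂ) x) (χ i₀) = (m₀ : ℂ) from hm₀] at h1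
    rw [eq_add_of_sub_eq h1.symm]
    split_ifs <;> push_cast <;> ring
  choose m hm using hcoeff
  have hres : ∀ ψ : IrrCharacter G, IsClassFunction ↥N (fun x : ↥N => (ψ : G → ℂ) x) :=
    fun ψ a b => irr_isClassFunction ψ (a : G) (b : G)
  have hC' : ∀ ψ : IrrCharacter G, ∃ C : ℤ, ∀ x : ↥H, x ≠ 1 → (ψ : G → ℂ) ((x : ↥N) : G) =
      (C : ℂ) + (ε : ℂ) * ∑ i : ι, if ψ = μ i then χ i x else 0 := by
    intro ψ
    obtain ⟨m₁, hm₁⟩ := classInner_char_nat
      (CfsgLib.Clifford.isCharacter_subtype (irr_isCharacter ψ) N) (isCharacter_chi (H := H) 1)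
    refine ⟨(m₁ : ℤ) - m ψ, fun x hx => ?_⟩
    have hs : ∑ i : ι, χ i x = -1 := by
      rw [← sum_indSet_apply hfree hcomm hx, ← Finset.sum_coe_sort (indSet H)]
    have he := expand hfree hcomm (hres ψ) x
    rw [hm₁, ← Finset.sum_coe_sort (indSet H)] at he
    refine he.trans ?_
    rw [Finset.sum_congr rfl (fun (i : ι) _ => show
      classInner (fun x : ↥N => (ψ : G → ℂ) x) (χ i) * χ i x =
        (m ψ : ℂ) * χ i x + (ε : ℂ) * (if ψ = μ i then χ i x else 0) by
      rw [hm ψ i]; split_ifs <;> push_cast <;> ring)]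
    rw [Finset.sum_add_distrib, ← Finset.mul_sum, ← Finset.mul_sum, hs]
    push_cast
    ring
  choose C hC using hC'
  have hvout : ∀ ψ : IrrCharacter G, (∀ i, μ i ≠ ψ) → ∀ x : ↥H, x ≠ 1 →
      (ψ : G → ℂ) ((x : ↥N) : G) = (C ψ : ℂ) := fun ψ hψ x hx => by
    rw [hC ψ x hx, Finset.sum_eq_zero fun i _ => if_neg (hψ i).symm, mul_zero, add_zero]
  have hvown : ∀ (j : ι) (x : ↥H), x ≠ 1 →
      (μ j : G → ℂ) ((x : ↥N) : G) = (C (μ j) : ℂ) + (ε : ℂ) * χ j x := fun j x hx => by
    rw [hC (μ j) x hx, Finset.sum_eq_single j (fun i _ hi => if_neg fun e => hi (hμ e).symm)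
      (fun h => absurd (Finset.mem_univ j) h), if_pos rfl]
  -- distinguished elements of `H`
  let i : ↥H := ⟨⟨S.t, S.A_le_N S.t_mem⟩, S.t_mem⟩
  let w : ↥H := ⟨⟨y, S.A_le_N hy⟩, hy⟩
  have hi1 : i ≠ 1 := fun h => S.t_ne_one (congrArg (fun p : ↥H => ((p : ↥N) : G)) h)
  have hw1 : w ≠ 1 := fun h => hy1 (congrArg (fun p : ↥H => ((p : ↥N) : G)) h)
  -- the common constant and degree
  have hdiff : ∀ j : ι, ∀ g : G, (μ j : G → ℂ) g - (μ i₀ : G → ℂ) g =
      (ε : ℂ) * indFun N (χ j - χ i₀) g := fun j g => by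
    rw [hτ j, Pi.smul_apply, smul_eq_mul, ← mul_assoc, hεε, one_mul, Pi.sub_apply]
  have hCeq : ∀ j, C (μ j) = C (μ i₀) := by
    intro j
    have h := hdiff j ((i : ↥N) : G)
    rw [CfsgLib.TIFN.indFun_apply_of_support S.hTI S.hC _ (hdcl j i₀)
      (fun x hx => hdoff j i₀ x hx) (hd1 j i₀) (i : ↥N), hvown j i hi1, hvown i₀ i hi1,
      Pi.sub_apply] at h
    have h' : (C (μ j) : ℂ) = C (μ i₀) := by linear_combination h
    exact_mod_cast h'
  set c : ℤ := C (μ i₀)
  obtain ⟨z, hz0, hz⟩ := irr_exists_degree (μ i₀).2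
  have hdeg : ∀ j, (μ j : G → ℂ) 1 = (z : ℂ) := by
    intro j
    have h := hdiff j 1
    rw [CfsgLib.Induction.indFun_one_apply, hd1, mul_zero, mul_zero, hz] at h
    linear_combination h
  -- values at the involution
  have hθf : ∀ f : ↥H →* ℂˣ, chi H f (i : ↥N) =
      ∑ v ∈ Finset.univ.filter (fun v : ↥H => orderOf v = 2), (f v : ℂ) := by
    intro f
    rw [chi, CfsgLib.Induction.indFun_normal_apply H _ i]
    let cj : ↥N → ↥H := fun p => ⟨p * (i : ↥N) * p⁻¹, hn.conj_mem _ i.2 p⟩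
    show (Nat.card ↥H : ℂ)⁻¹ * ∑ p : ↥N, (f (cj p) : ℂ) = _
    have hord : ∀ v : ↥H, orderOf ((v : ↥N) : G) = orderOf v := fun v => by
      rw [Subgroup.orderOf_coe, Subgroup.orderOf_coe]
    rw [← Finset.sum_fiberwise_of_maps_to (g := cj)
      (t := Finset.univ.filter (fun v : ↥H => orderOf v = 2)) (fun p _ => by
        refine Finset.mem_filter.2 ⟨Finset.mem_univ _, ?_⟩
        rw [← hord]
        exact (CfsgLib.Involutions.orderOf_conj_eq (p : G) S.t).trans S.ht)]
    rw [Finset.mul_sum]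
    refine Finset.sum_congr rfl fun v hv => ?_
    rw [Finset.sum_congr rfl (fun p hp => show (f (cj p) : ℂ) = (f v : ℂ) by
      rw [(Finset.mem_filter.1 hp).2]), Finset.sum_const, nsmul_eq_mul, ← mul_assoc]
    obtain ⟨p₀, hp₀N, hp₀⟩ := S.exists_conj S.t_mem_invs (S.mem_invs.2
      ⟨(v.2 : ((v : ↥N) : G) ∈ S.A), (hord v).trans (Finset.mem_filter.1 hv).2⟩)
    have hcard : (Finset.univ.filter fun p : ↥N => cj p = v).card = Nat.card ↥H := by
      rw [Nat.card_eq_fintype_card, ← Finset.card_univ]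
      refine (Finset.card_bij (fun (k : ↥H) _ => (⟨p₀, hp₀N⟩ : ↥N) * (k : ↥N)) ?_ ?_ ?_).symm
      · intro k _
        refine Finset.mem_filter.2 ⟨Finset.mem_univ _, Subtype.ext (Subtype.ext ?_)⟩
        show p₀ * ((k : ↥N) : G) * S.t * (p₀ * ((k : ↥N) : G))⁻¹ = ((v : ↥N) : G)
        refine Eq.trans ?_ hp₀
        rw [mul_assoc p₀, Subgroup.mem_centralizer_singleton_iff.1
          (show ((k : ↥N) : G) ∈ S.A from k.2)]
        group
      · exact fun k _ l _ h => Subtype.ext (mul_left_cancel h)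
      · intro p hp
        have h1 : (p : G) * S.t * (p : G)⁻¹ = p₀ * S.t * p₀⁻¹ := by
          rw [hp₀]; exact congrArg (fun q : ↥H => ((q : ↥N) : G)) (Finset.mem_filter.1 hp).2
        refine ⟨⟨(⟨p₀, hp₀N⟩ : ↥N)⁻¹ * p, Subgroup.mem_centralizer_singleton_iff.2 ?_⟩,
          Finset.mem_univ _, by simp⟩
        show p₀⁻¹ * (p : G) * S.t = S.t * (p₀⁻¹ * (p : G))
        calc p₀⁻¹ * (p : G) * S.t = p₀⁻¹ * ((p : G) * S.t * (p : G)⁻¹) * p := by group
          _ = _ := by rw [h1]; group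
    rw [hcard, inv_mul_cancel₀ (Nat.cast_ne_zero.2 Nat.card_pos.ne'), one_mul]
  set I : Finset ↥H := Finset.univ.filter (fun v : ↥H => orderOf v = 2) with hI
  have hIcard : I.card = r := by
    refine Finset.card_bij (fun v _ => ((v : ↥N) : G)) (fun v hv => S.mem_invs.2
      ⟨v.2, by rw [Subgroup.orderOf_coe, Subgroup.orderOf_coe]; exact (Finset.mem_filter.1 hv).2⟩)
      (fun a _ b _ h => Subtype.ext (Subtype.ext h)) fun x hx => ?_
    obtain ⟨hxA, hx2⟩ := S.mem_invs.1 hx
    refine ⟨⟨⟨x, S.A_le_N hxA⟩, hxA⟩, Finset.mem_filter.2 ⟨Finset.mem_univ _, ?_⟩, rfl⟩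
    rw [← Subgroup.orderOf_coe, ← Subgroup.orderOf_coe]
    exact hx2
  have hcm : ∀ p q : ↥H, p * q = q * p := fun p q => Subtype.ext (Subtype.ext (S.comm p.2 q.2))
  have htwo : ∀ j : ι, χ j i = (r : ℂ) ∨ χ j i = -1 := by
    intro j
    obtain ⟨f, -, hf⟩ := mem_indSet.1 j.2
    show (j.1 : ↥N → ℂ) i = (r : ℂ) ∨ (j.1 : ↥N → ℂ) i = -1
    rw [← hf, hθf f]
    by_cases hall : ∀ v ∈ I, f v = 1
    · left
      rw [Finset.sum_congr rfl fun v hv => by rw [hall v hv, Units.val_one], Finset.sum_const,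
        hIcard, nsmul_one]
    · right
      push Not at hall
      obtain ⟨v₀, hv₀, hfv₀⟩ := hall
      set E : Finset ↥H := Finset.univ.filter (fun v : ↥H => v * v = 1) with hE
      have hv₀2 := CfsgLib.Involutions.mul_self_eq_one (Finset.mem_filter.1 hv₀).2
      have hmem : ∀ v ∈ E, v₀ * v ∈ E := fun v hv => Finset.mem_filter.2 ⟨Finset.mem_univ _, by
        rw [mul_assoc, ← mul_assoc v, hcm v v₀, mul_assoc v₀ v v, (Finset.mem_filter.1 hv).2,
          mul_one, hv₀2]⟩
      have hzero : ∑ v ∈ E, (f v : ℂ) = 0 := by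
        have h1 : (f v₀ : ℂ) * ∑ v ∈ E, (f v : ℂ) = ∑ v ∈ E, (f v : ℂ) := by
          rw [Finset.mul_sum]
          refine Finset.sum_nbij' (fun v => v₀ * v) (fun v => v₀ * v) hmem hmem
            (fun v _ => by rw [← mul_assoc, hv₀2, one_mul])
            (fun v _ => by rw [← mul_assoc, hv₀2, one_mul])
            (fun v _ => by rw [map_mul, Units.val_mul])
        by_contra hne
        exact hfv₀ (Units.ext ((mul_eq_right₀ hne).1 h1))
      have hEI : E = insert 1 I := by
        ext v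
        simp only [E, I, Finset.mem_filter, Finset.mem_univ, true_and, Finset.mem_insert,
          CfsgLib.Involutions.orderOf_eq_two_iff_mul]
        constructor
        · exact fun h => (em (v = 1)).imp id fun h' => ⟨h', h⟩
        · rintro (rfl | ⟨-, h⟩)
          exacts [one_mul 1, h]
      rw [hEI, Finset.sum_insert (by simp [I]), map_one, Units.val_one] at hzero
      linear_combination hzero
  have hθsum : ∀ x : ↥H, x ≠ 1 → ∑ j : ι, χ j x = -1 := fun x hx => by
    rw [← sum_indSet_apply hfree hcomm hx, ← Finset.sum_coe_sort (indSet H)]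
  have hθθ : ∀ x : ↥H, x ≠ 1 → ∑ j : ι, χ j i * χ j x =
      (if orderOf x = 2 then (Nat.card S.A : ℂ) else 0) - r := by
    intro x hx
    rw [← show ∑ χ' ∈ indSet H, (χ' : ↥N → ℂ) i * (χ' : ↥N → ℂ) x = ∑ j : ι, χ j i * χ j x from
      (Finset.sum_coe_sort (indSet H) fun χ' => (χ' : ↥N → ℂ) i * (χ' : ↥N → ℂ) x).symm,
      sum_indSet hfree hcomm (fun F => F (i : ↥N)) x]
    simp only [hθf, Finset.sum_mul]
    rw [Finset.sum_comm]
    have hinner : ∀ v ∈ I, ∑ f ∈ Finset.univ.erase (1 : ↥H →* ℂˣ), (f v : ℂ) * (f x : ℂ) =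
        (if v = x then (Nat.card S.A : ℂ) else 0) - 1 := by
      intro v hv
      have hvinv : v⁻¹ = v :=
        CfsgLib.Involutions.inv_eq_self_of_involution (Finset.mem_filter.1 hv).2
      have h2 := sum_unitsHom (K := ↥H) (v * x)
      rw [← Finset.add_sum_erase Finset.univ _ (Finset.mem_univ (1 : ↥H →* ℂˣ))] at h2
      simp only [MonoidHom.one_apply, Units.val_one, map_mul, Units.val_mul, hcomm,
        Subgroup.mem_bot, Subgroup.index_bot, hcardH] at h2
      have hiff : v * x = 1 ↔ v = x := by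
        rw [mul_eq_one_iff_inv_eq, hvinv]
      simp only [hiff] at h2
      linear_combination h2
    refine (Finset.sum_congr rfl fun v hv => (Eq.trans (by convert rfl) (hinner v hv))).trans ?_
    rw [Finset.sum_sub_distrib, Finset.sum_ite_eq', Finset.sum_const, hIcard, nsmul_one]
    simp [I]
  have hi2 : orderOf i = 2 := by rw [← Subgroup.orderOf_coe, ← Subgroup.orderOf_coe]; exact S.ht
  have hw2 : orderOf w ≠ 2 := fun h => hy2 (by
    have := congrArg (fun p : ↥H => ((p : ↥N) : G)) (CfsgLib.Involutions.mul_self_eq_one h)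
    exact this)
  -- conjugation fixes the values at the involution
  have hreal : ∀ ψ : IrrCharacter G, conj ((ψ : G → ℂ) S.t) = (ψ : G → ℂ) S.t := fun ψ => by
    rw [← char_apply_inv (irr_isCharacter ψ),
      CfsgLib.Involutions.inv_eq_self_of_involution S.ht]
  -- the non-exceptional characters
  set X : Finset (IrrCharacter G) := Finset.univ.image μ with hX
  have hμ1 : ∀ j, μ j ≠ principalIrr G := by
    intro j hj
    obtain ⟨k, hk⟩ := exists_ne j
    have hind : indFun N (χ k - χ j) = (ε : ℂ) • ((μ k : G → ℂ) - (μ j : G → ℂ)) := by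
      rw [show χ k - χ j = (χ k - χ i₀) - (χ j - χ i₀) by abel, CfsgLib.Induction.indFun_sub,
        hτ k, hτ j, ← smul_sub]
      congr 1
      abel
    have hN1 : ∀ l : ι, l.1 ≠ principalIrr ↥N := by
      intro l hl
      have h1 := indSet_apply_one l.2
      rw [hl, hidx] at h1
      have h2 : (r : ℂ) = 1 := h1.symm
      norm_cast at h2
      omega
    have h0 : classInner (indFun N (χ k - χ j)) (principalIrr G : G → ℂ) = 0 := by
      rw [CfsgLib.Induction.classInner_indFun N _ (irr_isClassFunction _), classInner_sub_left]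
      show classInner (χ k) (principalIrr ↥N : ↥N → ℂ) - classInner (χ j) (principalIrr ↥N : ↥N → ℂ) = 0
      rw [hδN, hδN, if_neg (hN1 k), if_neg (hN1 j), sub_self]
    rw [hind, classInner_smul_left, classInner_sub_left, hδG, hδG, if_pos hj,
      if_neg (fun e => hk (hμ (e.trans hj.symm)))] at h0
    simp [hε0] at h0
  have hsplit : ∀ F : IrrCharacter G → ℂ,
      ∑ ψ, F ψ = ∑ ψ ∈ Finset.univ \ X, F ψ + ∑ j : ι, F (μ j) := by
    intro F
    rw [← Finset.sum_sdiff (Finset.subset_univ X)]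
    congr 1
    exact Finset.sum_image fun a _ b _ h => hμ h
  have houtX : ∀ ψ ∈ Finset.univ \ X, ∀ j, μ j ≠ ψ := fun ψ hψ j h =>
    (Finset.mem_sdiff.1 hψ).2 (h ▸ Finset.mem_image_of_mem μ (Finset.mem_univ j))
  have hεsq : (ε : ℂ) ^ 2 = 1 := by rw [sq]; exact hεε
  -- column orthogonality
  have hcol : ((∑ ψ ∈ Finset.univ \ X, C ψ ^ 2 : ℤ) : ℂ) +
      ((Fintype.card ι : ℂ) * (c : ℂ) ^ 2 - 2 * (ε * c) - r) = 0 := by
    have hnc : ¬ IsConj y S.t := fun h => hy2 (CfsgLib.Involutions.mul_self_eq_one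
      ((CfsgLib.Involutions.orderOf_eq_of_isConj h.symm).trans S.ht))
    have h := column_orth y S.t
    rw [if_neg hnc, hsplit] at h
    simp only [hreal] at h
    rw [← h]
    congr 1
    · push_cast
      refine Finset.sum_congr rfl fun ψ hψ => ?_
      rw [show (ψ : G → ℂ) y = C ψ from hvout ψ (houtX ψ hψ) w hw1,
        show (ψ : G → ℂ) S.t = C ψ from hvout ψ (houtX ψ hψ) i hi1, sq]
    · rw [Finset.sum_congr rfl fun (j : ι) _ => show
        (μ j : G → ℂ) y * (μ j : G → ℂ) S.t = (c : ℂ) ^ 2 + (ε * c : ℂ) * χ j w +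
          (ε * c : ℂ) * χ j i + χ j i * χ j w by
        rw [show (μ j : G → ℂ) y = _ from hvown j w hw1,
          show (μ j : G → ℂ) S.t = _ from hvown j i hi1, hCeq j]
        linear_combination (χ j i * χ j w) * hεsq]
      simp only [Finset.sum_add_distrib, Finset.sum_const, Finset.card_univ, nsmul_eq_mul,
        ← Finset.mul_sum, hθsum w hw1, hθsum i hi1, hθθ w hw1, if_neg hw2]
      ring
  have hcolZ : (∑ ψ ∈ Finset.univ \ X, C ψ ^ 2 : ℤ) +
      ((Fintype.card ι : ℤ) * c ^ 2 - 2 * (ε * c) - r) = 0 := by exact_mod_cast hcol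
  have hprin : (1 : ℤ) ≤ ∑ ψ ∈ Finset.univ \ X, C ψ ^ 2 := by
    have hmem : principalIrr G ∈ Finset.univ \ X :=
      Finset.mem_sdiff.2 ⟨Finset.mem_univ _, fun h => by
        obtain ⟨j, -, hj⟩ := Finset.mem_image.1 h
        exact hμ1 j hj⟩
    have h1 : (1 : ℂ) = C (principalIrr G) :=
      hvout (principalIrr G) (houtX _ hmem) i hi1
    have h1' : C (principalIrr G) = 1 := by exact_mod_cast h1.symm
    refine le_trans ?_ (Finset.single_le_sum (fun ψ _ => sq_nonneg (C ψ)) hmem)
    rw [h1']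
    norm_num
  -- the class multiplication constants
  obtain ⟨k, hk1, hk⟩ := S.exists_index
  have hy' : (CfsgLib.ClassCount.pairs S.t S.t {y⁻¹}).card = 0 :=
    S.pairs_other (inv_mem hy) (fun h => hy2 (inv_eq_one.1 (by rw [mul_inv_rev]; exact h)))
  have hpairs : ((r : ℂ) - 1) * (Nat.card S.A : ℂ) * Nat.card S.A =
      ∑ ψ : IrrCharacter G, (Nat.card G : ℂ) / (ψ : G → ℂ) 1 *
        ((ψ : G → ℂ) S.t * (ψ : G → ℂ) S.t * ((ψ : G → ℂ) S.t - (ψ : G → ℂ) y)) := by
    have h1 := CfsgLib.ClassCount.card_pairs_mul_centralizers S.t S.t {S.t}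
    have h2 := CfsgLib.ClassCount.card_pairs_mul_centralizers S.t S.t {y⁻¹}
    simp only [Finset.sum_singleton, inv_inv, hy', Nat.cast_zero, zero_mul,
      CfsgLib.Involutions.inv_eq_self_of_involution S.ht, ← CfsgLib.ClassCount.card_div_degree] at h1 h2
    have hp : ((CfsgLib.ClassCount.pairs S.t S.t {S.t}).card : ℂ) = (r : ℂ) - 1 := by
      rw [hrdef, ← S.pairs_self]; push_cast; ring
    rw [hp] at h1
    rw [show (Nat.card S.A : ℂ) = Nat.card (Subgroup.centralizer ({S.t} : Set G)) from rfl]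
    simp only [mul_sub, Finset.sum_sub_distrib, ← h1, ← h2, sub_zero]
  have hmain : ((r : ℂ) - 1) * (Nat.card S.A : ℂ) * Nat.card S.A * z =
      (Nat.card G : ℂ) * ε * (2 * (ε * c) + r - 1) * Nat.card S.A := by
    rw [hpairs, hsplit, Finset.sum_eq_zero (fun ψ hψ => by
      rw [show (ψ : G → ℂ) S.t = C ψ from hvout ψ (houtX ψ hψ) i hi1,
        show (ψ : G → ℂ) y = C ψ from hvout ψ (houtX ψ hψ) w hw1, sub_self, mul_zero, mul_zero]),
      zero_add, Finset.sum_mul]
    have hterm : ∀ j : ι, (Nat.card G : ℂ) / (μ j : G → ℂ) 1 *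
        ((μ j : G → ℂ) S.t * (μ j : G → ℂ) S.t * ((μ j : G → ℂ) S.t - (μ j : G → ℂ) y)) * z =
        (Nat.card G : ℂ) * ε * (((c : ℂ) ^ 2 + r) * (χ j i - χ j w) +
          (2 * (ε * c) + r - 1) * (χ j i * χ j i - χ j i * χ j w)) := by
      intro j
      rw [show (μ j : G → ℂ) S.t = _ from hvown j i hi1,
        show (μ j : G → ℂ) y = _ from hvown j w hw1, hCeq j, hdeg j]
      have hz' : (z : ℂ) ≠ 0 := by exact_mod_cast (by omega : z ≠ 0)
      have hsq : χ j i * χ j i = ((r : ℂ) - 1) * χ j i + r := by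
        rcases htwo j with h | h <;> rw [h] <;> ring
      rw [mul_comm ((Nat.card G : ℂ) / (z : ℂ)), mul_assoc, div_mul_cancel₀ _ hz']
      linear_combination (Nat.card G : ℂ) * ε * (χ j i - χ j w) *
        (χ j i * χ j i * hεsq + hsq)
    rw [Finset.sum_congr rfl fun j _ => hterm j]
    simp only [← Finset.mul_sum, Finset.sum_add_distrib, Finset.sum_sub_distrib, hθsum i hi1,
      hθsum w hw1, hθθ i hi1, hθθ w hw1, if_pos hi2, if_neg hw2]
    ring
  have hzdeg : (z : ℂ) = (μ i₀ : G → ℂ) 1 := hz.symm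
  have hmainZ : ε * (Nat.card G : ℤ) * ((r : ℤ) - 1 + 2 * (ε * c)) =
      ((r : ℤ) - 1) * Nat.card S.A * z := by
    have h : (ε : ℂ) * Nat.card G * ((r : ℂ) - 1 + 2 * (ε * c)) =
        ((r : ℂ) - 1) * Nat.card S.A * z :=
      mul_right_cancel₀ (show (Nat.card S.A : ℂ) ≠ 0 from Nat.cast_ne_zero.2 Nat.card_pos.ne')
        (by linear_combination -hmain)
    exact_mod_cast h
  -- the degrees
  have hgz : Fintype.card ι * z ^ 2 < Nat.card G := by
    have hd : ∀ ψ : IrrCharacter G, ∃ d : ℕ, (ψ : G → ℂ) 1 = d ∧ (ψ = principalIrr G → d = 1) := by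
      intro ψ
      obtain ⟨d, -, hd⟩ := irr_exists_degree ψ.2
      refine ⟨d, hd, fun h => ?_⟩
      rw [h] at hd
      have h1 : (d : ℂ) = 1 := hd.symm
      exact_mod_cast h1
    choose d hd hd1 using hd
    have hsum : ∑ ψ, d ψ ^ 2 = Nat.card G := by
      have h := sum_sq_degrees (G := G)
      simp only [hd] at h
      exact_mod_cast h
    rw [← hsum, ← Finset.sum_sdiff (Finset.subset_univ X), Finset.sum_image fun a _ b _ h => hμ h]
    have hdz : ∀ j, d (μ j) = z := fun j => by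
      have := (hd (μ j)).symm.trans (hdeg j); exact_mod_cast this
    simp only [hdz, Finset.sum_const, Finset.card_univ, smul_eq_mul]
    refine Nat.lt_add_of_pos_left (Finset.sum_pos' (fun _ _ => Nat.zero_le _)
      ⟨principalIrr G, Finset.mem_sdiff.2 ⟨Finset.mem_univ _, fun h => by
        obtain ⟨j, -, hj⟩ := Finset.mem_image.1 h
        exact hμ1 j hj⟩, by rw [hd1 _ rfl]; norm_num⟩)
  refine arith (c := c) hε hr ht2 hw (by omega : 1 ≤ z) hgz hk1 ?_ hmainZ (by linarith)
  rw [← S.N.card_mul_index, hk, S.card_N, hrdef]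

end Setup

end CfsgLib.CASimple
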