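import Cfsg.Agent.Lib.CNCount.CA
import Cfsg.Agent.Lib.Involutions.Basic
import Cfsg.Agent.Lib.Characters.TIFN
import Mathlib.GroupTheory.Transfer

/-!
# Simple groups with abelian centralisers: local structure at an involution
-/

set_option autoImplicit false

open scoped Pointwise

namespace CfsgLib.CASimple

open Subgroup

universe u

variable {G : Type u} [Group G]

/-- Every non-identity element has an abelian centraliser. -/
def CA (G : Type u) [Group G] : Prop :=
  ∀ x : G, x ≠ 1 → ∀ a ∈ centralizer ({x} : Set G), ∀ b ∈ centralizer ({x} : Set G), a * b = b * a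

theorem self_mem (x : G) : x ∈ centralizer ({x} : Set G) :=
  mem_centralizer_singleton_iff.2 rfl

theorem cent_eq (hCA : CA G) {x y : G} (hx : x ≠ 1) (hy : y ≠ 1)
    (hyx : y ∈ centralizer ({x} : Set G)) :
    centralizer ({y} : Set G) = centralizer ({x} : Set G) := by
  ext z
  constructor
  · intro hz
    exact mem_centralizer_singleton_iff.2 (hCA y hy z hz x
      (mem_centralizer_singleton_iff.2 (hCA x hx x (self_mem x) y hyx)))
  · exact fun hz => mem_centralizer_singleton_iff.2 (hCA x hx z hz y hyx)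

theorem conj_mem_cent (g x z : G) :
    g * z * g⁻¹ ∈ centralizer ({g * x * g⁻¹} : Set G) ↔ z ∈ centralizer ({x} : Set G) := by
  simp only [mem_centralizer_singleton_iff]
  rw [show g * z * g⁻¹ * (g * x * g⁻¹) = g * (z * x) * g⁻¹ by group,
    show g * x * g⁻¹ * (g * z * g⁻¹) = g * (x * z) * g⁻¹ by group, mul_left_inj, mul_right_inj]

/-- An element carrying a non-identity element of `C(x)` into `C(x)` normalises `C(x)`. -/
theorem mem_normalizer_of_conj (hCA : CA G) {x g k : G} (hx : x ≠ 1)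
    (hk : k ∈ centralizer ({x} : Set G)) (hk1 : k ≠ 1)
    (hgk : g * k * g⁻¹ ∈ centralizer ({x} : Set G)) :
    g ∈ Subgroup.normalizer (centralizer ({x} : Set G) : Set G) := by
  refine Subgroup.mem_normalizer_iff.2 fun z => ?_
  have h1 := cent_eq hCA hx hk1 hk
  have h2 := cent_eq hCA hx (fun h => hk1 (conj_eq_one_iff.1 h)) hgk
  conv_lhs => rw [← h1, ← conj_mem_cent g]
  rw [h2]

theorem ti (hCA : CA G) {x : G} (hx : x ≠ 1) :
    ∀ g : G, g ∉ Subgroup.normalizer (centralizer ({x} : Set G) : Set G) →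
      ∀ k ∈ centralizer ({x} : Set G), g * k * g⁻¹ ∈ centralizer ({x} : Set G) → k = 1 :=
  fun _ hg _ hk hgk => by_contra fun h => hg (mem_normalizer_of_conj hCA hx hk h hgk)

theorem cent_le (hCA : CA G) {x : G} (hx : x ≠ 1) :
    ∀ k ∈ centralizer ({x} : Set G), k ≠ 1 →
      centralizer ({k} : Set G) ≤ centralizer ({x} : Set G) :=
  fun _ hk hk1 => (cent_eq hCA hx hk1 hk).le

/-- The involutions of a simple group with abelian centralisers form one class. -/
theorem isConj_involutions [Finite G] [IsSimpleGroup G] (hCA : CA G)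
    (hnc : ¬ ∀ a b : G, a * b = b * a) {s u : G} (hs : orderOf s = 2) (hu : orderOf u = 2) :
    IsConj s u := by
  by_contra hsu
  have hu1 := CfsgLib.Involutions.ne_one_of_involution hu
  have hsub : ∀ s' : G, IsConj s s' → s' ∈ centralizer ({u} : Set G) := by
    intro s' hs'
    have hs'2 : orderOf s' = 2 := (CfsgLib.Involutions.orderOf_eq_of_isConj hs').trans hs
    obtain ⟨w, hw, hws, hwu⟩ := CfsgLib.Involutions.exists_common_involution hs'2 hu
      (fun h => hsu (hs'.trans h))
    have hw1 := CfsgLib.Involutions.ne_one_of_involution hw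
    have h1 : u ∈ centralizer ({w} : Set G) := mem_centralizer_singleton_iff.2 hwu.eq.symm
    rw [cent_eq hCA hw1 hu1 h1]
    exact mem_centralizer_singleton_iff.2 hws.eq.symm
  have hle : normalClosure ({s} : Set G) ≤ centralizer ({u} : Set G) := by
    refine (closure_le _).2 fun z hz => hsub z ?_
    obtain ⟨a, ha, haz⟩ := Group.mem_conjugatesOfSet_iff.1 hz
    rw [Set.mem_singleton_iff] at ha
    exact ha ▸ haz
  rcases (normalClosure_normal (s := ({s} : Set G))).eq_bot_or_eq_top with h | h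
  · exact CfsgLib.Involutions.ne_one_of_involution hs
      (mem_bot.1 (h ▸ subset_normalClosure rfl))
  · exact hnc fun a b => hCA u hu1 a (hle (h ▸ mem_top a)) b (hle (h ▸ mem_top b))

theorem even_card [Finite G] [IsSimpleGroup G] (hCA : CA G)
    (hnc : ¬ ∀ a b : G, a * b = b * a) : Even (Nat.card G) := by
  refine (Nat.even_or_odd _).resolve_right fun h => hnc fun a b => ?_
  exact IsSimpleGroup.comm_iff_isSolvable.2 (CfsgLib.CNCount.ca_solvable G h hCA) a b

/-- The hypotheses at an involution. -/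
structure Setup (G : Type u) [Group G] where
  ca : CA G
  simple : ∀ H : Subgroup G, H.Normal → H = ⊥ ∨ H = ⊤
  nc : ¬ ∀ a b : G, a * b = b * a
  conj : ∀ s u : G, orderOf s = 2 → orderOf u = 2 → IsConj s u
  t : G
  ht : orderOf t = 2

namespace Setup

theorem exists_setup [Finite G] [IsSimpleGroup G] (hCA : CA G)
    (hnc : ¬ ∀ a b : G, a * b = b * a) : Nonempty (Setup G) := by
  obtain ⟨t, ht⟩ := exists_prime_orderOf_dvd_card' 2 (even_card hCA hnc).two_dvd
  exact ⟨⟨hCA, fun H hH => hH.eq_bot_or_eq_top, hnc,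
    fun s u => isConj_involutions hCA hnc, t, ht⟩⟩

variable (S : Setup G)

/-- The centraliser of the involution. -/
def A : Subgroup G := centralizer ({S.t} : Set G)

/-- The normaliser of `A`. -/
def N : Subgroup G := Subgroup.normalizer (S.A : Set G)

theorem t_ne_one : S.t ≠ 1 := CfsgLib.Involutions.ne_one_of_involution S.ht

theorem t_mem : S.t ∈ S.A := self_mem _

theorem hTI : ∀ g : G, g ∉ S.N → ∀ k ∈ S.A, g * k * g⁻¹ ∈ S.A → k = 1 := ti S.ca S.t_ne_one

theorem mem_N {g k : G} (hk : k ∈ S.A) (hk1 : k ≠ 1) (hgk : g * k * g⁻¹ ∈ S.A) : g ∈ S.N :=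
  mem_normalizer_of_conj S.ca S.t_ne_one hk hk1 hgk

theorem hC : ∀ k ∈ S.A, k ≠ 1 → centralizer ({k} : Set G) ≤ S.A := cent_le S.ca S.t_ne_one

theorem cent {k : G} (hk : k ∈ S.A) (hk1 : k ≠ 1) : centralizer ({k} : Set G) = S.A :=
  cent_eq S.ca S.t_ne_one hk1 hk

theorem comm {a b : G} (ha : a ∈ S.A) (hb : b ∈ S.A) : a * b = b * a :=
  S.ca S.t S.t_ne_one a ha b hb

theorem A_le_N : S.A ≤ S.N := Subgroup.le_normalizer

theorem A_ne_bot : S.A ≠ ⊥ := fun h => S.t_ne_one (mem_bot.1 (h ▸ S.t_mem))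

theorem A_ne_top : S.A ≠ ⊤ := fun h =>
  S.nc fun _ _ => S.comm (h ▸ mem_top _) (h ▸ mem_top _)

theorem N_ne_top : S.N ≠ ⊤ := fun h =>
  (S.simple S.A (Subgroup.normalizer_eq_top_iff.1 h)).elim S.A_ne_bot S.A_ne_top

variable [Finite G]

theorem coprime : (Nat.card S.A).Coprime S.A.index :=
  CfsgLib.TIFN.coprime_index S.hTI S.hC

theorem two_dvd_card : 2 ∣ Nat.card S.A := S.ht ▸ S.A.orderOf_dvd_natCard S.t_mem

theorem odd_index : Odd S.A.index := by
  rw [Nat.odd_iff]
  by_contra h
  have h2 : 2 ∣ S.A.index := by omega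
  have h3 := Nat.dvd_gcd S.two_dvd_card h2
  rw [S.coprime.gcd_eq_one] at h3
  omega

/-- An involution normalising `A` lies in `A`. -/
theorem mem_A_of_involution {u : G} (hu : u ∈ S.N) (hu2 : orderOf u = 2) : u ∈ S.A := by
  by_contra h
  obtain ⟨g, hg⟩ := isConj_iff.1 (S.conj u S.t hu2 S.ht)
  exact CfsgLib.TIFN.not_conj_mem S.hTI S.hC hu h g (hg ▸ S.t_mem)

open scoped Classical in
/-- The involutions of `A`. -/
noncomputable def invs [Fintype G] : Finset G :=
  Finset.univ.filter fun x => x ∈ S.A ∧ orderOf x = 2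

theorem mem_invs [Fintype G] {x : G} : x ∈ S.invs ↔ x ∈ S.A ∧ orderOf x = 2 := by
  classical
  simp [invs]

theorem t_mem_invs [Fintype G] : S.t ∈ S.invs := S.mem_invs.2 ⟨S.t_mem, S.ht⟩

theorem conj_mem_invs [Fintype G] {g x : G} (hg : g ∈ S.N) (hx : x ∈ S.invs) :
    g * x * g⁻¹ ∈ S.invs := by
  obtain ⟨h1, h2⟩ := S.mem_invs.1 hx
  exact S.mem_invs.2 ⟨(Subgroup.mem_normalizer_iff.1 hg x).1 h1,
    (CfsgLib.Involutions.orderOf_conj_eq g x).trans h2⟩

/-- `N` is transitive on the involutions of `A`. -/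
theorem exists_conj [Fintype G] {x y : G} (hx : x ∈ S.invs) (hy : y ∈ S.invs) :
    ∃ g ∈ S.N, g * x * g⁻¹ = y := by
  obtain ⟨h1, h2⟩ := S.mem_invs.1 hx
  obtain ⟨h3, h4⟩ := S.mem_invs.1 hy
  obtain ⟨g, hg⟩ := isConj_iff.1 (S.conj x y h2 h4)
  exact ⟨g, S.mem_N h1 (CfsgLib.Involutions.ne_one_of_involution h2) (hg ▸ h3), hg⟩

/-- The orbit map at `t`. -/
theorem index_eq [Fintype G] : (S.A.subgroupOf S.N).index = S.invs.card := by
  classical
  let f : (↥S.N) ⧸ S.A.subgroupOf S.N → {x : G // x ∈ S.invs} :=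
    Quotient.lift (fun g : ↥S.N => (⟨(g : G) * S.t * (g : G)⁻¹, S.conj_mem_invs g.2 S.t_mem_invs⟩ :
      {x : G // x ∈ S.invs})) (fun p q h => Subtype.ext (by
        have h' : ((p : G))⁻¹ * (q : G) ∈ S.A :=
          Subgroup.mem_subgroupOf.1 (QuotientGroup.leftRel_apply.1 h)
        have h2 := mem_centralizer_singleton_iff.1 h'
        calc (p : G) * S.t * (p : G)⁻¹
            = (p : G) * (S.t * ((p : G)⁻¹ * q)) * (q : G)⁻¹ := by group
          _ = (p : G) * (((p : G)⁻¹ * q) * S.t) * (q : G)⁻¹ := by rw [h2]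
          _ = (q : G) * S.t * (q : G)⁻¹ := by group))
  have hf : Function.Bijective f := by
    constructor
    · intro p q h
      induction p using Quotient.inductionOn' with
      | h p =>
        induction q using Quotient.inductionOn' with
        | h q =>
          have h1 : (p : G) * S.t * (p : G)⁻¹ = (q : G) * S.t * (q : G)⁻¹ := congrArg Subtype.val h
          refine Quotient.sound' (QuotientGroup.leftRel_apply.2
            (Subgroup.mem_subgroupOf.2 (mem_centralizer_singleton_iff.2 ?_)))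
          show (p : G)⁻¹ * (q : G) * S.t = S.t * ((p : G)⁻¹ * q)
          calc (p : G)⁻¹ * (q : G) * S.t
              = (p : G)⁻¹ * ((q : G) * S.t * (q : G)⁻¹) * q := by group
            _ = (p : G)⁻¹ * ((p : G) * S.t * (p : G)⁻¹) * q := by rw [h1]
            _ = S.t * ((p : G)⁻¹ * q) := by group
    · rintro ⟨y, hy⟩
      obtain ⟨g, hg, rfl⟩ := S.exists_conj S.t_mem_invs hy
      exact ⟨QuotientGroup.mk ⟨g, hg⟩, rfl⟩
  rw [Subgroup.index_eq_card, Nat.card_eq_of_bijective f hf, Nat.card_eq_fintype_card,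
    Fintype.card_coe]

theorem card_N [Fintype G] : Nat.card S.N = Nat.card S.A * S.invs.card := by
  rw [← S.index_eq, ← (S.A.subgroupOf S.N).card_mul_index,
    Nat.card_congr (Subgroup.subgroupOfEquivOfLe S.A_le_N).toEquiv]

theorem odd_invs_card [Fintype G] : Odd S.invs.card := by
  rw [← S.index_eq]
  exact S.odd_index.of_dvd_nat (Subgroup.relIndex_dvd_index_of_le S.A_le_N)

theorem three_le_invs_card [Fintype G] : 3 ≤ S.invs.card := by
  by_contra hlt
  have h1 : S.invs.card = 1 := by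
    obtain ⟨k, hk⟩ := S.odd_invs_card
    omega
  have hNA : S.N ≤ S.A := Subgroup.subgroupOf_eq_top.1
    (Subgroup.index_eq_one.1 (S.index_eq.trans h1))
  haveI : Fact (Nat.Prime 2) := ⟨Nat.prime_two⟩
  obtain ⟨Q⟩ : Nonempty (Sylow 2 S.A) := inferInstance
  obtain ⟨P, hP⟩ := Sylow.exists_comap_subtype_eq Q
  have hcard : Nat.card ↥((P : Subgroup G) ⊓ S.A : Subgroup G) = Nat.card Q := by
    rw [← hP]
    exact Nat.card_congr
      ((Subgroup.subgroupOfEquivOfLe inf_le_right).symm.toEquiv.trans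
        (MulEquiv.subgroupCongr (inf_subgroupOf_right (P : Subgroup G) S.A)).toEquiv)
  have hmul : Nat.card ↥((P : Subgroup G) ⊓ S.A : Subgroup G) = Nat.card P := by
    rw [hcard, Q.card_eq_multiplicity, P.card_eq_multiplicity]
    congr 1
    rw [← S.A.card_mul_index, Nat.factorization_mul Nat.card_pos.ne'
      Subgroup.index_ne_zero_of_finite, Finsupp.add_apply,
      Nat.factorization_eq_zero_of_not_dvd (n := S.A.index) (fun h => by
        obtain ⟨k, hk⟩ := S.odd_index
        omega), add_zero]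
  have hPA : (P : Subgroup G) ≤ S.A :=
    inf_eq_left.1 (eq_of_le_of_card_ge inf_le_left hmul.ge)
  have hP1 : (P : Subgroup G) ≠ ⊥ := by
    intro h
    have h2 := P.dvd_card_of_dvd_card (even_iff_two_dvd.1
      (even_iff_two_dvd.2 (S.two_dvd_card.trans S.A.card_subgroup_dvd_card)))
    rw [h, Subgroup.card_bot] at h2
    omega
  have hN : Subgroup.normalizer ((P : Subgroup G) : Set G) ≤
      centralizer ((P : Subgroup G) : Set G) := by
    intro g hg
    obtain ⟨k, hk, hk1⟩ := (Subgroup.bot_or_exists_ne_one (P : Subgroup G)).resolve_left hP1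
    have hgA : g ∈ S.A :=
      hNA (S.mem_N (hPA hk) hk1 (hPA ((Subgroup.mem_normalizer_iff.1 hg k).1 hk)))
    exact mem_centralizer_iff.2 fun z hz => S.comm (hPA hz) hgA
  have hc := MonoidHom.ker_transferSylow_isComplement' P hN
  rcases S.simple (MonoidHom.transferSylow P hN).ker inferInstance with h | h
  · rw [h, Subgroup.isComplement'_bot_left] at hc
    exact S.A_ne_top (top_le_iff.1 (hc ▸ hPA))
  · rw [h, Subgroup.isComplement'_top_left] at hc
    exact hP1 hc

end Setup

end CfsgLib.CASimple
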