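import Mathlib

/-!
The length of subnormal chains of a finite group: the maximal length of a chain `⊥ = H₀ < H₁ < ... < H_l = ⊤`
with each term normal in the next one (the composition length).
-/

set_option autoImplicit false
set_option linter.unusedSectionVars false

namespace CfsgLib.Maximal.ChainLength

open Subgroup

variable {G : Type*} [Group G]

/-- `Reach H m`: some chain of length `m` from `⊥` to `H`. -/
inductive Reach : Subgroup G → ℕ → Prop
  | bot : Reach ⊥ 0
  | step {H K : Subgroup G} {m : ℕ} : Reach H m → H < K → (H.subgroupOf K).Normal → Reach K (m + 1)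

lemma Reach.of_chain {l : ℕ} (H : Fin (l + 1) → Subgroup G) (h0 : H 0 = ⊥)
    (hchain : ∀ i : Fin l, H i.castSucc < H i.succ ∧ ((H i.castSucc).subgroupOf (H i.succ)).Normal) :
    Reach (H (Fin.last l)) l := by
  induction l with
  | zero => rw [show Fin.last 0 = 0 from rfl, h0]; exact .bot
  | succ l ih =>
    have h := ih (fun i => H i.castSucc) h0 fun i => hchain i.castSucc
    exact h.step (hchain (Fin.last l)).1 (hchain (Fin.last l)).2

lemma Reach.card_factors [Finite G] {H : Subgroup G} {m : ℕ} (h : Reach H m) :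
    m ≤ ArithmeticFunction.cardFactors (Nat.card H) := by
  induction h with
  | bot => simp
  | @step H K m _ hlt _ ih =>
    obtain ⟨d, hd⟩ := Subgroup.card_dvd_of_le hlt.le
    have hd0 : d ≠ 0 := fun h0 => by rw [h0, mul_zero] at hd; exact Nat.card_pos.ne' hd
    have hd1 : d ≠ 1 := fun h1 => by
      rw [h1, mul_one] at hd
      exact hlt.ne (eq_of_le_of_card_ge hlt.le hd.le)
    rw [hd, ArithmeticFunction.cardFactors_mul Nat.card_pos.ne' hd0]
    have : 1 ≤ ArithmeticFunction.cardFactors d := by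
      obtain ⟨p, hp, hpd⟩ := Nat.exists_prime_and_dvd hd1
      obtain ⟨e, rfl⟩ := hpd
      rw [ArithmeticFunction.cardFactors_mul hp.ne_zero (fun h => hd0 (by simp [h])),
        ArithmeticFunction.cardFactors_apply_prime hp]
      omega
    omega

open scoped Classical in
/-- the composition length -/
noncomputable def clen (G : Type*) [Group G] : ℕ :=
  Nat.findGreatest (fun m => Reach (⊤ : Subgroup G) m) (ArithmeticFunction.cardFactors (Nat.card G))

lemma le_clen [Finite G] {m : ℕ} (h : Reach (⊤ : Subgroup G) m) : m ≤ clen G := by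
  classical
  refine Nat.le_findGreatest ?_ h
  simpa using h.card_factors

lemma chain_le_clen [Finite G] {l : ℕ} (H : Fin (l + 1) → Subgroup G) (h0 : H 0 = ⊥) (hl : H (Fin.last l) = ⊤)
    (hchain : ∀ i : Fin l, H i.castSucc < H i.succ ∧ ((H i.castSucc).subgroupOf (H i.succ)).Normal) :
    l ≤ clen G :=
  le_clen (hl ▸ Reach.of_chain H h0 hchain)

lemma exists_reach_top [Finite G] : ∃ m, Reach (⊤ : Subgroup G) m := by
  by_cases h : (⊥ : Subgroup G) = ⊤
  · exact ⟨0, h ▸ Reach.bot⟩
  · exact ⟨1, Reach.bot.step (bot_lt_top_iff_ne.2 h) (by infer_instance)⟩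
where bot_lt_top_iff_ne {G : Type _} [Group G] : (⊥ : Subgroup G) < ⊤ ↔ (⊥ : Subgroup G) ≠ ⊤ :=
  ⟨fun h => h.ne, fun h => lt_of_le_of_ne le_top h⟩

lemma reach_clen [Finite G] : Reach (⊤ : Subgroup G) (clen G) := by
  classical
  obtain ⟨m, hm⟩ := exists_reach_top (G := G)
  exact Nat.findGreatest_spec (P := fun m => Reach (⊤ : Subgroup G) m) (by simpa using hm.card_factors) hm

lemma clen_le_cardFactors [Finite G] : clen G ≤ ArithmeticFunction.cardFactors (Nat.card G) := by
  simpa using (reach_clen (G := G)).card_factors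

lemma two_pow_clen_le [Finite G] : 2 ^ clen G ≤ Nat.card G := by
  refine (Nat.pow_le_pow_right (by norm_num) clen_le_cardFactors).trans ?_
  have h : ∀ n : ℕ, n ≠ 0 → 2 ^ ArithmeticFunction.cardFactors n ≤ n := by
    intro n hn
    rw [ArithmeticFunction.cardFactors_apply]
    calc 2 ^ n.primeFactorsList.length ≤ n.primeFactorsList.prod :=
          List.pow_card_le_prod _ _ fun p hp => (Nat.prime_of_mem_primeFactorsList hp).two_le
      _ = n := Nat.prod_primeFactorsList hn
  exact h _ Nat.card_pos.ne'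

lemma one_le_clen [Finite G] [Nontrivial G] : 1 ≤ clen G :=
  le_clen (Reach.bot.step bot_lt_top (by infer_instance))

lemma clen_eq_zero [Finite G] [Subsingleton G] : clen G = 0 := by
  have := two_pow_clen_le (G := G)
  rw [Nat.card_of_subsingleton (1 : G)] at this
  exact (Nat.pow_le_pow_iff_right (show 1 < 2 by norm_num)).1 this |> Nat.le_zero.1

lemma Reach.eq_top_of_isSimple [Finite G] [IsSimpleGroup G] {H : Subgroup G} {m : ℕ} (h : Reach H m) :
    H = ⊤ → m ≤ 1 := by
  cases h with
  | bot => intro _; omega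
  | @step K _ m' h' hlt hn =>
    rintro rfl
    have hKn : K.Normal := ⟨fun x hx g => hn.conj_mem ⟨x, mem_top x⟩ hx ⟨g, mem_top g⟩⟩
    rcases hKn.eq_bot_or_eq_top with rfl | rfl
    · have := h'.card_factors
      simp at this
      omega
    · exact absurd hlt (lt_irrefl _)

lemma clen_simple_le [Finite G] [IsSimpleGroup G] : clen G ≤ 1 :=
  (reach_clen (G := G)).eq_top_of_isSimple rfl

lemma Reach.map_injective {G' : Type*} [Group G'] {f : G →* G'} (hf : Function.Injective f)
    {H : Subgroup G} {m : ℕ} (h : Reach H m) : Reach (H.map f) m := by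
  induction h with
  | bot => rw [Subgroup.map_bot]; exact .bot
  | @step H K m _ hlt hn ih =>
    refine ih.step ((Subgroup.map_lt_map_iff_of_injective hf).2 hlt) ⟨?_⟩
    rintro ⟨_, k, hk, rfl⟩ hy ⟨_, k', hk', rfl⟩
    rw [mem_subgroupOf] at hy ⊢
    obtain ⟨h, hh, he⟩ := hy
    obtain rfl : h = k := hf he
    exact ⟨k' * h * k'⁻¹, hn.conj_mem ⟨h, hlt.le hh⟩ hh ⟨k', hk'⟩, by simp⟩

lemma clen_congr_le [Finite G] {G' : Type*} [Group G'] [Finite G'] (e : G ≃* G') : clen G ≤ clen G' := by
  refine le_clen ?_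
  rw [← Subgroup.map_top_of_surjective e.toMonoidHom e.surjective]
  exact reach_clen.map_injective e.injective

lemma clen_congr [Finite G] {G' : Type*} [Group G'] [Finite G'] (e : G ≃* G') : clen G = clen G' :=
  le_antisymm (clen_congr_le e) (clen_congr_le e.symm)

section Hom

variable {Q : Type*} [Group Q] (f : G →* Q)

lemma Reach.split [Finite G] [Finite Q] {H : Subgroup G} {m : ℕ} (h : Reach H m) :
    ∃ a b, Reach (H.subgroupOf f.ker) a ∧ Reach (H.map f) b ∧ m ≤ a + b := by
  induction h with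
  | bot => exact ⟨0, 0, by rw [Subgroup.bot_subgroupOf]; exact .bot, by rw [Subgroup.map_bot]; exact .bot, le_rfl⟩
  | @step H K m _ hlt hn ih =>
    obtain ⟨a, b, ha, hb, hm⟩ := ih
    have n1 : ((H.subgroupOf f.ker).subgroupOf (K.subgroupOf f.ker)).Normal := by
      constructor
      intro x hx y
      rw [mem_subgroupOf] at hx ⊢
      exact hn.conj_mem ⟨((x : f.ker) : G), x.2⟩ hx ⟨((y : f.ker) : G), y.2⟩
    have n2 : ((H.map f).subgroupOf (K.map f)).Normal := by
      constructor
      rintro ⟨_, k, hk, rfl⟩ hy ⟨_, k', hk', rfl⟩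
      rw [mem_subgroupOf] at hy ⊢
      obtain ⟨h, hh, he⟩ := hy
      refine ⟨k' * h * k'⁻¹, hn.conj_mem ⟨h, hlt.le hh⟩ hh ⟨k', hk'⟩, ?_⟩
      simp [he]
    have l1 : H.subgroupOf f.ker ≤ K.subgroupOf f.ker := fun x hx => hlt.le hx
    have l2 : H.map f ≤ K.map f := Subgroup.map_mono hlt.le
    rcases l1.lt_or_eq with h1 | h1 <;> rcases l2.lt_or_eq with h2 | h2
    · exact ⟨a + 1, b + 1, ha.step h1 n1, hb.step h2 n2, by omega⟩
    · exact ⟨a + 1, b, ha.step h1 n1, h2 ▸ hb, by omega⟩
    · exact ⟨a, b + 1, h1 ▸ ha, hb.step h2 n2, by omega⟩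
    · exfalso
      refine hlt.ne (le_antisymm hlt.le fun k hk => ?_)
      obtain ⟨h, hh, he⟩ : f k ∈ H.map f := h2 ▸ Subgroup.mem_map_of_mem f hk
      have hmem : h⁻¹ * k ∈ f.ker := by rw [MonoidHom.mem_ker, map_mul, map_inv, he, inv_mul_cancel]
      have : (⟨h⁻¹ * k, hmem⟩ : f.ker) ∈ H.subgroupOf f.ker := by
        rw [h1]; exact K.mul_mem (K.inv_mem (hlt.le hh)) hk
      simpa using H.mul_mem hh this

lemma clen_le_ker_add [Finite G] [Finite Q] (hf : Function.Surjective f) : clen G ≤ clen f.ker + clen Q := by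
  obtain ⟨a, b, ha, hb, hm⟩ := (reach_clen (G := G)).split f
  rw [Subgroup.top_subgroupOf] at ha
  rw [Subgroup.map_top_of_surjective f hf] at hb
  have := le_clen ha
  have := le_clen hb
  omega

lemma Reach.comap [Finite G] (hf : Function.Surjective f) {H : Subgroup Q} {m : ℕ} (h : Reach H m) {a : ℕ}
    (ha : Reach f.ker a) : Reach (H.comap f) (a + m) := by
  induction h with
  | bot => simpa [MonoidHom.comap_bot] using ha
  | @step H K m _ hlt hn ih =>
    refine ih.step ((Subgroup.comap_lt_comap_of_surjective hf).2 hlt) ⟨?_⟩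
    intro x hx y
    rw [mem_subgroupOf, mem_comap] at hx ⊢
    simpa [mem_subgroupOf] using hn.conj_mem ⟨f (x : G), x.2⟩ hx ⟨f (y : G), y.2⟩

lemma ker_add_le_clen [Finite G] [Finite Q] (hf : Function.Surjective f) : clen f.ker + clen Q ≤ clen G := by
  have h := (reach_clen (G := f.ker)).map_injective (f := f.ker.subtype) f.ker.subtype_injective
  rw [← MonoidHom.range_eq_map, Subgroup.range_subtype] at h
  have h' := (reach_clen (G := Q)).comap f hf h
  rw [Subgroup.comap_top] at h'
  exact le_clen h'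

lemma clen_eq_ker_add [Finite G] [Finite Q] (hf : Function.Surjective f) : clen G = clen f.ker + clen Q :=
  le_antisymm (clen_le_ker_add f hf) (ker_add_le_clen f hf)

lemma clen_le_ker_add_range [Finite G] [Finite Q] : clen G ≤ clen f.ker + clen f.range := by
  have h := clen_le_ker_add f.rangeRestrict f.rangeRestrict_surjective
  rwa [MonoidHom.ker_rangeRestrict] at h

end Hom

lemma clen_normal_add [Finite G] (N : Subgroup G) [N.Normal] : clen G = clen N + clen (G ⧸ N) := by
  have h := clen_eq_ker_add (QuotientGroup.mk' N) (QuotientGroup.mk'_surjective N)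
  rwa [QuotientGroup.ker_mk'] at h

lemma clen_lt_of_normal_lt [Finite G] {H K : Subgroup G} (hlt : H < K) (hn : (H.subgroupOf K).Normal) :
    clen H < clen K := by
  have h := clen_normal_add (H.subgroupOf K)
  have e : clen (H.subgroupOf K) = clen H := clen_congr (Subgroup.subgroupOfEquivOfLe hlt.le)
  haveI : Nontrivial (K ⧸ H.subgroupOf K) := by
    rw [← Finite.one_lt_card_iff_nontrivial]
    refine Subgroup.one_lt_index_of_ne_top fun htop => hlt.not_ge ?_
    exact Subgroup.subgroupOf_eq_top.1 htop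
  have := one_le_clen (G := K ⧸ H.subgroupOf K)
  omega

end CfsgLib.Maximal.ChainLength
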