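import Mathlib
import Cfsg.Agent.Lib.Structure.MinimalNormal

/-!
Normal subgroups of powers of simple groups, and characteristically simple groups.
-/

set_option autoImplicit false

namespace CfsgLib.Maximal

variable {ι S : Type*} [Group S]

/-- Normal subgroups of a finite power of a non-abelian simple group are subproducts. -/
theorem normal_pi_simple [Finite ι] [DecidableEq ι] [IsSimpleGroup S] (hS : ¬ IsMulCommutative S)
    (N : Subgroup (ι → S)) [N.Normal] :
    ∀ x : ι → S, x ∈ N ↔ ∀ i, (∀ y ∈ N, y i = 1) → x i = 1 := by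
  intro x
  refine ⟨fun hx i hi => hi x hx, fun hx => Subgroup.pi_mem_of_mulSingle_mem x fun i => ?_⟩
  by_cases hi : ∀ y ∈ N, y i = 1
  · rw [hx i hi, Pi.mulSingle_one]
    exact N.one_mem
  push Not at hi
  obtain ⟨y, hy, hyi⟩ := hi
  have hn : (N.comap (MonoidHom.mulSingle (fun _ => S) i)).Normal := Subgroup.Normal.comap ‹_› _
  rcases hn.eq_bot_or_eq_top with h | h
  · exfalso
    apply hyi
    have hc : y i ∈ Subgroup.center S := by
      rw [Subgroup.mem_center_iff]
      intro s
      have hmem : y * Pi.mulSingle i s * y⁻¹ * (Pi.mulSingle i s)⁻¹ ∈ N := by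
        have h1 := (‹N.Normal›).conj_mem y⁻¹ (N.inv_mem hy) (Pi.mulSingle i s)
        have h2 := N.mul_mem hy h1
        simpa [mul_assoc] using h2
      have heq : y * Pi.mulSingle i s * y⁻¹ * (Pi.mulSingle i s)⁻¹ =
          Pi.mulSingle i (y i * s * (y i)⁻¹ * s⁻¹) := by
        ext j
        rcases eq_or_ne j i with rfl | hne
        · simp
        · simp [Pi.mulSingle_eq_of_ne hne]
      rw [heq] at hmem
      have h3 : y i * s * (y i)⁻¹ * s⁻¹ ∈ N.comap (MonoidHom.mulSingle (fun _ => S) i) := hmem
      rw [h, Subgroup.mem_bot, mul_inv_eq_one, mul_inv_eq_iff_eq_mul] at h3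
      exact h3.symm
    rcases (inferInstance : (Subgroup.center S).Normal).eq_bot_or_eq_top with hb | ht
    · rwa [hb, Subgroup.mem_bot] at hc
    · exact absurd ⟨⟨fun a b => by
        have hb : b ∈ Subgroup.center S := ht ▸ Subgroup.mem_top b
        exact Subgroup.mem_center_iff.1 hb a⟩⟩ hS
  · exact (h ▸ Subgroup.mem_top (x i) : x i ∈ N.comap (MonoidHom.mulSingle (fun _ => S) i))

/-- A finite power of a simple group has no proper non-trivial characteristic subgroups. -/
theorem pi_simple_char [Finite ι] [DecidableEq ι] [IsSimpleGroup S]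
    (H : Subgroup (ι → S)) [hchar : H.Characteristic] : H = ⊥ ∨ H = ⊤ := by
  rw [or_iff_not_imp_left]
  intro hH
  obtain ⟨x, hx, hx1⟩ := (Subgroup.ne_bot_iff_exists_ne_one).1 hH |>.elim
    (fun a h => (⟨a.1, a.2, fun e => h (Subtype.ext e)⟩ : ∃ x ∈ H, x ≠ 1))
  obtain ⟨i, hi⟩ : ∃ i, x i ≠ 1 := by
    by_contra h
    push Not at h
    exact hx1 (funext h)
  have hperm : ∀ (σ : Equiv.Perm ι) (z : ι → S), z ∈ H → (fun j => z (σ j)) ∈ H := by
    intro σ z hz
    let φ : (ι → S) ≃* (ι → S) :=
      { toFun := fun w j => w (σ j)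
        invFun := fun w j => w (σ⁻¹ j)
        left_inv := fun w => by ext j; simp
        right_inv := fun w => by ext j; simp
        map_mul' := fun _ _ => rfl }
    have : φ z ∈ H.map φ.toMonoidHom := ⟨z, hz, rfl⟩
    rwa [Subgroup.characteristic_iff_map_eq.1 hchar φ] at this
  -- it suffices to contain one full factor
  suffices hfull : ∃ k, ∀ s, Pi.mulSingle k s ∈ H by
    obtain ⟨k, hk⟩ := hfull
    rw [eq_top_iff]
    intro w _
    refine Subgroup.pi_mem_of_mulSingle_mem w fun j => ?_
    have h1 := hperm (Equiv.swap j k) _ (hk (w j))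
    convert h1 using 1
    ext l
    rcases eq_or_ne l j with rfl | hl
    · rw [Equiv.swap_apply_left, Pi.mulSingle_eq_same, Pi.mulSingle_eq_same]
    · rw [Pi.mulSingle_eq_of_ne hl, Pi.mulSingle_eq_of_ne]
      intro e
      exact hl ((Equiv.swap j k).injective (by rw [e, Equiv.swap_apply_left]))
  by_cases hS : IsMulCommutative S
  · by_cases hsub : ∀ j, j = i
    · refine ⟨i, fun s => ?_⟩
      let L : Subgroup S := H.comap (MonoidHom.mulSingle (fun _ => S) i)
      have hL : L.Normal := ⟨fun a ha b => by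
        have : b * a * b⁻¹ = a := by rw [hS.is_comm.comm b a, mul_inv_cancel_right]
        rwa [this]⟩
      rcases hL.eq_bot_or_eq_top with h | h
      · exfalso
        apply hi
        have hxe : Pi.mulSingle i (x i) = x := funext fun j => by rw [hsub j, Pi.mulSingle_eq_same]
        have : x i ∈ L := show Pi.mulSingle i (x i) ∈ H by rw [hxe]; exact hx
        rwa [h, Subgroup.mem_bot] at this
      · exact (h ▸ Subgroup.mem_top s : s ∈ L)
    push Not at hsub
    obtain ⟨j, hj⟩ := hsub
    -- a shear automorphism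
    let φ : (ι → S) ≃* (ι → S) :=
      { toFun := fun w => w * Pi.mulSingle j (w i)
        invFun := fun w => w * (Pi.mulSingle j (w i))⁻¹
        left_inv := fun w => by
          simp [Pi.mulSingle_eq_of_ne hj.symm]
        right_inv := fun w => by
          simp [Pi.mulSingle_eq_of_ne hj.symm]
        map_mul' := fun w w' => by
          ext l
          simp only [Pi.mul_apply, Pi.mulSingle_mul]
          rw [mul_assoc, mul_assoc]
          congr 1
          rw [← mul_assoc, hS.is_comm.comm (w' l), mul_assoc] }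
    let L : Subgroup S := H.comap (MonoidHom.mulSingle (fun _ => S) j)
    have hL : L.Normal := ⟨fun a ha b => by
      have : b * a * b⁻¹ = a := by rw [hS.is_comm.comm b a, mul_inv_cancel_right]
      rwa [this]⟩
    have hmem : x i ∈ L := by
      have h1 : φ x ∈ H.map φ.toMonoidHom := ⟨x, hx, rfl⟩
      rw [Subgroup.characteristic_iff_map_eq.1 hchar φ] at h1
      have h2 := H.mul_mem (H.inv_mem hx) h1
      show Pi.mulSingle j (x i) ∈ H
      simpa [φ] using h2
    rcases hL.eq_bot_or_eq_top with h | h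
    · rw [h, Subgroup.mem_bot] at hmem
      exact absurd hmem hi
    · exact ⟨j, fun s => (h ▸ Subgroup.mem_top s : s ∈ L)⟩
  · refine ⟨i, fun s => ((normal_pi_simple hS H) _).2 fun l hl => ?_⟩
    rw [Pi.mulSingle_eq_of_ne]
    rintro rfl
    exact hi (hl x hx)

variable {G : Type*} [Group G] [Finite G] [Nontrivial G]

/-- A characteristically simple finite group is a power of a simple group. -/
theorem exists_pi_equiv_of_charSimple (h : ∀ H : Subgroup G, H.Characteristic → H = ⊥ ∨ H = ⊤) :
    ∃ (T : Subgroup G) (n : ℕ), IsSimpleGroup T ∧ 1 ≤ n ∧ Nonempty (G ≃* (Fin n → T)) := by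
  classical
  obtain ⟨T, hT⟩ := CfsgLib.Structure.exists_isMinNormal (G := G)
  have hsoc : CfsgLib.Structure.socle G = ⊤ :=
    (h _ CfsgLib.Structure.socle_characteristic).resolve_left CfsgLib.Structure.socle_ne_bot
  have hTs : IsSimpleGroup T := CfsgLib.Structure.isSimpleGroup_of_socle_eq_top hsoc hT
  let P : Subgroup G → Prop := fun N => N.Normal ∧ ∃ n : ℕ, 1 ≤ n ∧ Nonempty (N ≃* (Fin n → T))
  have hPT : P T := ⟨hT.normal, 1, le_rfl,
    ⟨(MulEquiv.funUnique (Fin 1) T).symm⟩⟩
  obtain ⟨N, hN⟩ := (Set.toFinite {N : Subgroup G | P N}).exists_maximal ⟨T, hPT⟩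
  obtain ⟨hNn, n, hn, ⟨e⟩⟩ := hN.1
  rcases eq_or_ne N ⊤ with rfl | hne
  · exact ⟨T, n, hTs, hn, ⟨Subgroup.topEquiv.symm.trans e⟩⟩
  exfalso
  obtain ⟨φ, hφ⟩ : ∃ φ : G ≃* G, ¬ T.map φ.toMonoidHom ≤ N := by
    by_contra hall
    push Not at hall
    let C : Subgroup G := ⨆ φ : G ≃* G, T.map φ.toMonoidHom
    have hC : C.Characteristic := by
      rw [Subgroup.characteristic_iff_map_le]
      intro ψ
      rw [Subgroup.map_iSup, iSup_le_iff]
      intro φ
      rw [Subgroup.map_map]
      exact le_iSup (fun φ : G ≃* G => T.map φ.toMonoidHom) (φ.trans ψ)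
    rcases h C hC with hb | ht
    · apply hT.ne_bot
      rw [eq_bot_iff, ← hb]
      have := le_iSup (fun φ : G ≃* G => T.map φ.toMonoidHom) (MulEquiv.refl G)
      refine le_trans (fun x hx => ?_) this
      exact ⟨x, hx, rfl⟩
    · exact hne (top_le_iff.1 (ht ▸ iSup_le hall))
  have hT' := CfsgLib.Structure.IsMinNormal.map_equiv φ hT
  set T' := T.map φ.toMonoidHom with hT'def
  have hinf : T' ⊓ N = ⊥ := (hT'.inf_eq_bot_or_le hNn).resolve_right hφ
  have hn' : T'.Normal := hT'.normal
  have hcomm : ∀ a ∈ T', ∀ b ∈ N, a * b = b * a := by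
    intro a ha b hb
    exact Subgroup.commute_of_normal_of_disjoint T' N hn' hNn (disjoint_iff.2 hinf) a b ha hb
  let f : T' × N →* G := MonoidHom.noncommCoprod T'.subtype N.subtype
    (fun a b => hcomm a a.2 b b.2)
  have hf : Function.Injective f := by
    refine (MonoidHom.noncommCoprod_injective _ _ _).2 ?_
    refine ⟨T'.subtype_injective, N.subtype_injective, ?_⟩
    rw [Subgroup.range_subtype, Subgroup.range_subtype, disjoint_iff, hinf]
  have hrange : f.range = T' ⊔ N := by
    refine (MonoidHom.noncommCoprod_range _ _ _).trans ?_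
    rw [Subgroup.range_subtype, Subgroup.range_subtype]
  let e' : (T' ⊔ N : Subgroup G) ≃* (Fin (n + 1) → T) :=
    ((MulEquiv.subgroupCongr hrange.symm).trans (MonoidHom.ofInjective hf).symm).trans
      ((MulEquiv.prodCongr (T.equivMapOfInjective φ.toMonoidHom φ.injective).symm e).trans
        { Fin.consEquiv (fun _ => T) with
          map_mul' := fun a b => by ext j; refine Fin.cases ?_ ?_ j <;> simp })
  have := hN.2 (show P (T' ⊔ N) from ⟨Subgroup.sup_normal _ _, n + 1, by omega, ⟨e'⟩⟩) le_sup_right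
  exact hφ (le_sup_left.trans this)

end CfsgLib.Maximal
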