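import Mathlib.GroupTheory.Subgroup.Center
import Mathlib.GroupTheory.QuotientGroup.Basic
import Mathlib.Order.Atoms
import Mathlib.Tactic.Group

/-!
# Iterated cores of two conjugate subgroups
-/

set_option autoImplicit false

namespace CfsgLib.CoreChain

variable {G : Type*} [Group G]

/-- The core in `M` of the part of `Y` inside `M`. -/
def coreIn (M Y : Subgroup G) : Subgroup G := (Y.subgroupOf M).normalCore.map M.subtype

theorem coreIn_le_left (M Y : Subgroup G) : coreIn M Y ≤ M := Subgroup.map_subtype_le _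

theorem coreIn_le (M Y : Subgroup G) : coreIn M Y ≤ Y := by
  rintro _ ⟨m, hm, rfl⟩
  exact Subgroup.mem_subgroupOf.1 (Subgroup.normalCore_le _ hm)

theorem conj_mem_coreIn {M Y : Subgroup G} {m k : G} (hm : m ∈ M) (hk : k ∈ coreIn M Y) :
    m * k * m⁻¹ ∈ coreIn M Y := by
  obtain ⟨z, hz, rfl⟩ := hk
  exact ⟨⟨m, hm⟩ * z * ⟨m, hm⟩⁻¹, (Subgroup.normalCore_normal _).conj_mem z hz _, rfl⟩

theorem le_coreIn {M Y K : Subgroup G} (hKM : K ≤ M) (hKY : K ≤ Y)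
    (hn : ∀ m ∈ M, ∀ k ∈ K, m * k * m⁻¹ ∈ K) : K ≤ coreIn M Y := by
  intro k hk
  refine ⟨⟨k, hKM hk⟩, fun m => Subgroup.mem_subgroupOf.2 (hKY ?_), rfl⟩
  exact hn m m.2 k hk

theorem map_coreIn (e : G ≃* G) (M Y : Subgroup G) :
    (coreIn M Y).map e.toMonoidHom = coreIn (M.map e.toMonoidHom) (Y.map e.toMonoidHom) := by
  refine le_antisymm (le_coreIn (Subgroup.map_mono (coreIn_le_left M Y))
    (Subgroup.map_mono (coreIn_le M Y)) ?_) ?_
  · rintro _ ⟨m, hm, rfl⟩ _ ⟨k, hk, rfl⟩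
    exact ⟨m * k * m⁻¹, conj_mem_coreIn hm hk, by simp⟩
  · intro k hk
    refine ⟨e.symm k, le_coreIn (K := (coreIn (M.map e.toMonoidHom) (Y.map e.toMonoidHom)).map
      e.symm.toMonoidHom) ?_ ?_ ?_ ⟨k, hk, rfl⟩, by simp⟩
    · rintro _ ⟨x, hx, rfl⟩
      obtain ⟨y, hy, rfl⟩ := coreIn_le_left _ _ hx
      simpa using hy
    · rintro _ ⟨x, hx, rfl⟩
      obtain ⟨y, hy, rfl⟩ := coreIn_le _ _ hx
      simpa using hy
    · rintro m hm _ ⟨x, hx, rfl⟩
      exact ⟨e m * x * (e m)⁻¹, conj_mem_coreIn ⟨m, hm, rfl⟩ hx, by simp⟩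

/-- The two descending sequences. -/
def seq (M₁ M₂ : Subgroup G) : ℕ → Subgroup G × Subgroup G
  | 0 => (M₁, M₂)
  | i + 1 => (coreIn M₁ ((seq M₁ M₂ i).1 ⊓ (seq M₁ M₂ i).2),
      coreIn M₂ ((seq M₁ M₂ i).1 ⊓ (seq M₁ M₂ i).2))

theorem seq_snd {M : Subgroup G} {g : G} (hg : g * g ∈ M) (i : ℕ) :
    (seq M (M.map (MulAut.conj g).toMonoidHom) i).2 =
      ((seq M (M.map (MulAut.conj g).toMonoidHom) i).1).map (MulAut.conj g).toMonoidHom := by
  set c : G ≃* G := MulAut.conj g with hc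
  induction i with
  | zero => rfl
  | succ i ih =>
    show coreIn (M.map c.toMonoidHom) _ = (coreIn M _).map c.toMonoidHom
    rw [map_coreIn, ih]
    congr 1
    refine le_antisymm ?_ ?_
    · intro x hx
      obtain ⟨hxA, hxB⟩ := Subgroup.mem_inf.1 hx
      obtain ⟨a, ha, rfl⟩ := Subgroup.mem_map.1 hxB
      refine ⟨a, Subgroup.mem_inf.2 ⟨ha, g⁻¹ * a * g, ?_, ?_⟩, rfl⟩
      · have hgg : g * a * g⁻¹ ∈ (seq M (M.map c.toMonoidHom) i).1 := hxA
        rw [show g⁻¹ * a * g = (g * g)⁻¹ * (g * a * g⁻¹) * ((g * g)⁻¹)⁻¹ by group]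
        cases i with
        | zero => exact mul_mem (mul_mem (inv_mem hg) hgg) (inv_mem (inv_mem hg))
        | succ j => exact conj_mem_coreIn (inv_mem hg) hgg
      · show g * (g⁻¹ * a * g) * g⁻¹ = a
        group
    · rintro _ ⟨a, ha, rfl⟩
      obtain ⟨ha1, ha2⟩ := Subgroup.mem_inf.1 ha
      obtain ⟨b, hb, hab⟩ := Subgroup.mem_map.1 ha2
      refine Subgroup.mem_inf.2 ⟨?_, a, ha1, rfl⟩
      have h1 : c.toMonoidHom a = (g * g) * b * (g * g)⁻¹ := by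
        rw [← hab]; simp [hc, mul_assoc]
      rw [h1]
      cases i with
      | zero => exact mul_mem (mul_mem hg hb) (inv_mem hg)
      | succ j => exact conj_mem_coreIn hg hb

/-- A criterion for an example in which the chain of cores has length exactly six. -/
theorem exists_example (M : Subgroup G) (g : G) (hM : IsCoatom M) (hcore : M.normalCore = ⊥)
    (hgM : g ∉ M) (hg : g * g ∈ M) (T : ℕ → Subgroup G) (hTM : T 1 ≤ M)
    (hTn : ∀ n, 1 ≤ n → ∀ m ∈ M, ∀ k ∈ T n, m * k * m⁻¹ ∈ T n)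
    (hT1 : ∀ n, 1 ≤ n → T (n + 1) ≤ T n)
    (hT2 : ∀ n, 1 ≤ n → T (n + 1) ≤ (T n).map (MulAut.conj g).toMonoidHom)
    (x : G) (hx : x ≠ 1) (hxT : x ∈ T 6)
    (hxK : ∀ K : Subgroup G, K ≤ M → (∀ m ∈ M, ∀ k ∈ K, m * k * m⁻¹ ∈ K) → K ≠ ⊥ → x ∈ K)
    (hdesc : ∀ S : ℕ → Subgroup G, S 0 = M → (∀ n, ∀ m ∈ M, ∀ k ∈ S n, m * k * m⁻¹ ∈ S n) →
      (∀ n, ∀ k ∈ S (n + 1), k ∈ S n ∧ g⁻¹ * k * g ∈ S n) → x ∉ S 6) :
    ∃ (M₁ M₂ : Subgroup G) (g' : G) (A B : ℕ → Subgroup G),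
      IsCoatom M₁ ∧ M₂ = M₁.map (MulAut.conj g').toMonoidHom ∧ M₁ ≠ M₂ ∧ M₁.normalCore = ⊥ ∧
      A 0 = M₁ ∧ B 0 = M₂ ∧
      (∀ i, A (i + 1) = ((A i ⊓ B i).subgroupOf M₁).normalCore.map M₁.subtype) ∧
      (∀ i, B (i + 1) = ((A i ⊓ B i).subgroupOf M₂).normalCore.map M₂.subtype) ∧
      A 6 = ⊥ ∧ A 5 ≠ ⊥ := by
  set M₂ := M.map (MulAut.conj g).toMonoidHom with hM₂
  have hTle : ∀ n, 1 ≤ n → T n ≤ M := by
    intro n hn
    induction n, hn using Nat.le_induction with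
    | base => exact hTM
    | succ n hn ih => exact (hT1 n hn).trans ih
  refine ⟨M, M₂, g, fun i => (seq M M₂ i).1, fun i => (seq M M₂ i).2, hM, rfl, ?_, hcore,
    rfl, rfl, fun i => rfl, fun i => rfl, ?_, ?_⟩
  · intro he
    have hgN : g ∈ Subgroup.normalizer (M : Set G) := by
      refine Subgroup.mem_normalizer_iff.2 fun k => ⟨fun hk => ?_, fun hk => ?_⟩
      · exact (SetLike.ext_iff.1 he _).2 ⟨k, hk, rfl⟩
      · obtain ⟨a, ha, hak⟩ := (SetLike.ext_iff.1 he _).1 hk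
        have hak' : g * a * g⁻¹ = g * k * g⁻¹ := hak
        exact mul_left_cancel (mul_right_cancel hak') ▸ ha
    rcases eq_or_lt_of_le (Subgroup.le_normalizer (H := M)) with h | h
    · exact hgM (h ▸ hgN)
    · have : M.Normal := Subgroup.normalizer_eq_top_iff.1 (hM.2 _ h)
      have hb : M = ⊥ := by rw [← hcore, Subgroup.normalCore_eq_self]
      exact hx (Subgroup.mem_bot.1 (hb ▸ hTle 6 (by norm_num) hxT))
  · by_contra hne
    have hn : ∀ n, ∀ m ∈ M, ∀ k ∈ (seq M M₂ n).1, m * k * m⁻¹ ∈ (seq M M₂ n).1 := by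
      intro n m hm k hk
      cases n with
      | zero => exact mul_mem (mul_mem hm hk) (inv_mem hm)
      | succ j => exact conj_mem_coreIn hm hk
    refine hdesc (fun n => (seq M M₂ n).1) rfl hn (fun n k hk => ?_)
      (hxK _ (coreIn_le_left _ _) (hn 6) hne)
    obtain ⟨h1, h2⟩ := coreIn_le _ _ hk
    refine ⟨h1, ?_⟩
    rw [show (seq M M₂ n).2 = _ from seq_snd hg n] at h2
    obtain ⟨a, ha, rfl⟩ := h2
    rw [show g⁻¹ * (MulAut.conj g).toMonoidHom a * g = a by simp [mul_assoc]]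
    exact ha
  · have key : ∀ i, T (i + 1) ≤ (seq M M₂ i).1 := by
      intro i
      induction i with
      | zero => exact hTM
      | succ i ih =>
        refine le_coreIn (hTle _ (by omega)) (le_inf ((hT1 _ (by omega)).trans ih) ?_)
          (hTn _ (by omega))
        rw [show (seq M M₂ i).2 = _ from seq_snd hg i]
        exact (hT2 _ (by omega)).trans (Subgroup.map_mono ih)
    exact fun h => hx (Subgroup.mem_bot.1 (h ▸ key 5 hxT))

end CfsgLib.CoreChain
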