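import Cfsg.Agent.Lib.Maximal.CoreChain
import Cfsg.Agent.Lib.ChevStr.Simple

/-!
Iterated cores for a maximal parabolic subgroup of a Chevalley group over the field of two elements.
-/

set_option autoImplicit false

namespace CfsgLib.CoreChainChev

open Cfsg.Lie CfsgLib.ChevStr
open scoped MatrixGroups

variable {D : ChevalleyDatum} {F : Type} [Field F]

/-- Some single-term commutator formula joins a fundamental root to `k`. -/
def stepCheck (D : ChevalleyDatum) (z : ℤ) (i k : ℕ) : Bool :=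
  !Nat.beq k (D.simple i) && !Nat.beq k (D.neg (D.simple i)) &&
    match D.commTerms (D.simple i) k with
    | [(_, w, 1, 1)] => decide (w = z) || decide (w = -z)
    | _ => false

/-- `r` shows that `x_{-p} x_p` moves something in the radical. -/
def witCheck (D : ChevalleyDatum) (z : ℤ) (i r : ℕ) : Bool :=
  stepCheck D z i r && (D.commTerms (D.neg (D.simple i)) r).isEmpty

theorem step_of_check {z : ℤ} (hz : (z : F) ≠ 0) {i k : ℕ} (h : stepCheck D z i k = true) :
    k ≠ D.simple i ∧ k ≠ D.neg (D.simple i) ∧ ∃ (m : ℕ) (w : ℤ), (w : F) ≠ 0 ∧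
      D.commTerms (D.simple i) k = [(m, w, 1, 1)] := by
  simp only [stepCheck, Bool.and_eq_true, Bool.not_eq_true', Bool.eq_false_iff, ne_eq,
    Nat.beq_eq] at h
  obtain ⟨⟨h1, h2⟩, h3⟩ := h
  refine ⟨h1, h2, ?_⟩
  split at h3
  · rename_i m w heq
    simp only [Bool.or_eq_true, decide_eq_true_eq] at h3
    refine ⟨m, w, ?_, heq⟩
    rcases h3 with rfl | rfl
    · exact hz
    · simpa using hz
  · simp at h3

variable (C : ChevCore D F) (a : Fin D.rank)

/-- The coefficient of a root at the node `a`. -/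
def lev (r : ℕ) : ℤ := C.R.α r a

/-- Roots of level at least `n`. -/
def lSet (n : ℕ) : Set ℕ := {r | r < D.nroots ∧ (n : ℤ) ≤ lev C a r}

/-- Positive roots with index at least `k`. -/
def tailSet (k : ℕ) : Set ℕ := {r | D.IsPosRoot r ∧ k ≤ r}

/-- The maximal parabolic subgroup at the node `a`. -/
def par : Subgroup (GL D.Idx F) := C.Ucl (lSet C a 0)

theorem lev_neg {r : ℕ} (hr : r < D.nroots) : lev C a (D.neg r) = -lev C a r := by
  simp [lev, C.R.α_neg r hr]

theorem lev_simple_self : lev C a (D.simple a.val) = 1 := by simp [lev, C.R.α_simple]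

theorem lev_simple_ne {j : Fin D.rank} (h : j ≠ a) : lev C a (D.simple j.val) = 0 := by
  simp [lev, C.R.α_simple, Pi.single_eq_of_ne (Ne.symm h)]

theorem lev_nonneg {r : ℕ} (hr : D.IsPosRoot r) : 0 ≤ lev C a r := ((C.R.isPos_iff r).1 hr).2 a

theorem isPos_of_lev {r : ℕ} (hr : r < D.nroots) (h : 0 < lev C a r) : D.IsPosRoot r := by
  rcases C.R.sign r hr with hs | hs
  · exact (C.R.isPos_iff r).2 ⟨hr, hs⟩
  · have := hs a
    simp only [lev, Pi.zero_apply] at h this
    omega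

theorem par_le_group : par C a ≤ D.group F :=
  C.Ucl_le fun r _ t => C.xGL_mem_group r t

theorem pos_mem_par {r : ℕ} (hr : D.IsPosRoot r) (t : F) : C.xGL r t ∈ par C a :=
  C.xGL_mem_Ucl (show r ∈ lSet C a 0 from ⟨hr.1, by simpa using lev_nonneg C a hr⟩) t

theorem pos_le_par : D.posUnipotent F ≤ par C a :=
  C.posUnipotent_le fun _ t hr => pos_mem_par C a hr t

theorem nS_mem_par {j : Fin D.rank} (hj : j ≠ a) : C.nS j ∈ par C a := by
  have h1 : ∀ t : F, C.xGL (D.simple j.val) t ∈ par C a :=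
    pos_mem_par C a (C.R.simple_pos j)
  have h2 : ∀ t : F, C.xGL (D.neg (D.simple j.val)) t ∈ par C a := fun t =>
    C.xGL_mem_Ucl (show D.neg (D.simple j.val) ∈ lSet C a 0 from
      ⟨C.R.neg_lt _ (C.R.simple_lt j), by
        rw [lev_neg C a (C.R.simple_lt j), lev_simple_ne C a hj]; simp⟩) t
  show C.wordGL (D.nWord (D.simple j.val) 1) ∈ par C a
  refine Subgroup.list_prod_mem _ fun x hx => ?_
  simp only [ChevalleyDatum.nWord, List.map_cons, List.map_nil, List.mem_cons, List.not_mem_nil,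
    or_false] at hx
  rcases hx with rfl | rfl | rfl
  exacts [h1 _, h2 _, h1 _]

/-! ### Two elements -/

section two

variable (hF : ∀ u : Fˣ, u = 1)

include hF

omit C in
theorem eq_zero_or_one (t : F) : t = 0 ∨ t = 1 := by
  by_cases h : t = 0
  · exact Or.inl h
  · exact Or.inr (congrArg Units.val (hF (Units.mk0 t h)))

omit C in
theorem neg_eq_self (t : F) : -t = t := by
  have h : (-1 : F) = 1 := congrArg Units.val (hF (-1))
  rw [← neg_one_mul, h, one_mul]

theorem xGL_inv_self (r : ℕ) (t : F) : (C.xGL r t)⁻¹ = C.xGL r t := by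
  rw [C.xGL_inv, neg_eq_self hF]

theorem torus_eq_one (c : Fin D.rank → Fˣ) : C.R.torus c = 1 := by
  rw [show c = 1 from funext fun k => hF (c k), map_one]

include C in
theorem borel_le_posUnipotent : D.borelSubgroup F ≤ D.posUnipotent F := by
  intro g hg
  obtain ⟨u, hu, c, rfl⟩ := C.mem_borel.1 hg
  rwa [torus_eq_one C hF, mul_one]

theorem borel_le_par : D.borelSubgroup F ≤ par C a :=
  (borel_le_posUnipotent C hF).trans (pos_le_par C a)

theorem nS_mul_self (i : Fin D.rank) : C.nS i * C.nS i = 1 := by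
  obtain ⟨c, hc⟩ := C.nS_mul_self_mem i
  rw [← hc, torus_eq_one C hF]

theorem nS_inv_self (i : Fin D.rank) : (C.nS i)⁻¹ = C.nS i :=
  inv_eq_of_mul_eq_one_right (nS_mul_self C hF i)

theorem nS_conj (i : Fin D.rank) (s : Fin D.nroots) (t : F) :
    C.nS i * C.xGL s t * C.nS i = C.xGL (C.hR.sPerm i s) t := by
  obtain ⟨-, e, he⟩ := C.acts_nS i
  obtain ⟨h1, -, h2⟩ := he s
  have he1 : ((e s : ℤ) : F) = 1 := by
    rcases h1 with h | h <;> simp [h, neg_eq_self hF]
  have h3 := h2 t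
  rwa [nS_inv_self C hF, he1, one_mul] at h3

theorem nS_not_mem_par : C.nS a ∉ par C a := by
  intro hn
  have hx : C.xGL (D.neg (D.simple a.val)) 1 ∈ par C a := by
    have h := nS_conj C hF a (C.pRoot a) 1
    rw [C.sPerm_pRoot] at h
    exact h ▸ mul_mem (mul_mem hn (pos_mem_par C a (C.R.simple_pos a) 1)) hn
  -- entries of elements of the parabolic subgroup preserve the level filtration
  have key : ∀ g ∈ par C a, (∀ u v, (g : Matrix D.Idx D.Idx F) u v ≠ 0 →
      0 ≤ (C.R.wt u - C.R.wt v) a) ∧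
      (∀ u v, ((g⁻¹ : GL D.Idx F) : Matrix D.Idx D.Idx F) u v ≠ 0 →
      0 ≤ (C.R.wt u - C.R.wt v) a) := by
    have hgen : ∀ r ∈ lSet C a 0, ∀ (t : F) (u v : D.Idx),
        D.x F r t u v ≠ 0 → 0 ≤ (C.R.wt u - C.R.wt v) a := by
      intro r hr t u v h
      by_cases huv : u = v
      · simp [huv]
      obtain ⟨-, k, hk, hkw⟩ := C.R.x_apply_ne_zero huv h
      rw [hkw]
      exact mul_nonneg (by positivity) (by simpa [lev] using hr.2)
    have hmul : ∀ A B : Matrix D.Idx D.Idx F,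
        (∀ u v, A u v ≠ 0 → 0 ≤ (C.R.wt u - C.R.wt v) a) →
        (∀ u v, B u v ≠ 0 → 0 ≤ (C.R.wt u - C.R.wt v) a) →
        ∀ u v, (A * B) u v ≠ 0 → 0 ≤ (C.R.wt u - C.R.wt v) a := by
      intro A B hA hB u v h
      rw [Matrix.mul_apply] at h
      obtain ⟨w, -, hw⟩ := Finset.exists_ne_zero_of_sum_ne_zero h
      have := add_nonneg (hA u w (left_ne_zero_of_mul hw)) (hB w v (right_ne_zero_of_mul hw))
      simpa [Pi.sub_apply] using this
    intro g hg
    refine Subgroup.closure_induction (p := fun (z : GL D.Idx F) _ =>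
      (∀ u v, (z : Matrix D.Idx D.Idx F) u v ≠ 0 → 0 ≤ (C.R.wt u - C.R.wt v) a) ∧
      (∀ u v, ((z⁻¹ : GL D.Idx F) : Matrix D.Idx D.Idx F) u v ≠ 0 →
        0 ≤ (C.R.wt u - C.R.wt v) a)) ?_ ?_ ?_ ?_ hg
    · rintro _ ⟨r, hr, t, rfl⟩
      refine ⟨fun u v h => hgen r hr t u v (by simpa [C.coe_xGL] using h), fun u v h => ?_⟩
      rw [C.xGL_inv, C.coe_xGL] at h
      exact hgen r hr (-t) u v h
    · refine ⟨fun u v h => ?_, fun u v h => ?_⟩ <;>
      · by_cases huv : u = v
        · simp [huv]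
        · simp [Matrix.one_apply_ne huv, inv_one, Units.val_one] at h
    · intro x y _ _ hx hy
      refine ⟨by rw [Units.val_mul]; exact hmul _ _ hx.1 hy.1, ?_⟩
      rw [mul_inv_rev, Units.val_mul]
      exact hmul _ _ hy.2 hx.2
    · intro x _ hx
      exact ⟨hx.2, by rw [inv_inv]; exact hx.1⟩
  set r := D.neg (D.simple a.val) with hrdef
  have hr : r < D.nroots := C.R.neg_lt _ (C.R.simple_lt a)
  obtain ⟨i, hi⟩ := C.exists_coroot_ne_zero (F := F) hr
  have h := (key _ hx).1 (Sum.inl i) (Sum.inr ⟨D.neg r, C.R.neg_lt r hr⟩) (by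
    rw [C.coe_xGL, C.R.x_apply_coroot hr]; simpa using hi)
  rw [C.R.wt_inl, C.R.wt_inr, zero_sub, Pi.neg_apply] at h
  have h1 : C.R.α (D.neg r) a = 1 := by
    rw [hrdef, C.R.neg_neg _ (C.R.simple_lt a), C.R.α_simple, Pi.single_eq_same]
  simp only at h
  omega

theorem isCoatom_par : IsCoatom ((par C a).subgroupOf (D.group F)) := by
  refine ⟨fun h => nS_not_mem_par C a hF
    (Subgroup.subgroupOf_eq_top.1 h (C.nGL_mem_group _ _)), fun Q hQ => ?_⟩
  obtain ⟨m, hmQ, hm⟩ := SetLike.exists_of_lt hQ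
  set Q' := Q.map (D.group F).subtype with hQ'
  have hle : par C a ≤ Q' := fun x hx =>
    ⟨⟨x, par_le_group C a hx⟩, hQ.le (Subgroup.mem_subgroupOf.2 hx), rfl⟩
  have hBQ : D.borelSubgroup F ≤ Q' := (borel_le_par C a hF).trans hle
  obtain ⟨b, hb, n, hn, hnQ, b', hb', hmn⟩ := C.mem_M_cases hBQ (Subgroup.map_subtype_le Q)
    (⟨m, hmQ, rfl⟩ : (m : GL D.Idx F) ∈ Q')
  have hnP : n ∉ par C a := fun h => hm (Subgroup.mem_subgroupOf.2 (by
    rw [hmn]
    exact mul_mem (mul_mem (borel_le_par C a hF hb) h) (borel_le_par C a hF hb')))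
  have key : ∀ (N : ℕ) (n : GL D.Idx F) (w : Equiv.Perm (Fin D.nroots)),
      n ∈ D.monomialSubgroup F → n ∈ Q' → C.Moves n w → n ∉ par C a →
      (C.hR.invSet w).card ≤ N → C.nS a ∈ Q' := by
    intro N
    induction N with
    | zero =>
      intro n w hn _ hw hnP hN
      refine absurd (borel_le_par C a hF (le_sup_right (a := D.posUnipotent F)
        (C.mem_diagonal_of_moves_one hn ?_))) hnP
      rwa [← C.hR.eq_one_of_invSet_eq_empty hw.1 (Finset.card_eq_zero.1 (Nat.le_zero.1 hN))]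
    | succ N ih =>
      intro n w hn hnQ hw hnP hN
      by_cases he : C.hR.invSet w = ∅
      · exact ih n w hn hnQ hw hnP (by simp [he])
      obtain ⟨i, hi⟩ := C.hR.exists_simple_neg_of_ne_one hw.1 he
      by_cases hia : i = a
      · exact hia ▸ C.nS_mem_of_neg hBQ hn hnQ hw i hi
      have hsP : C.nS i ∈ par C a := nS_mem_par C a hia
      refine ih (n * C.nS i) (w * C.hR.sPerm i) (mul_mem hn (C.nS_mem_monomial i))
        (mul_mem hnQ (hle hsP)) (ChevCore.Moves.mul C hw (ChevCore.Acts.moves C (C.acts_nS i)))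
        (fun h => hnP (by simpa using mul_mem h (inv_mem hsP))) ?_
      have := C.hR.invSet_mul_sPerm_of_neg hw.1 i hi
      omega
  obtain ⟨w, hw, -⟩ := C.exists_moves hn
  have ha : C.nS a ∈ Q' := key _ n w hn hnQ hw hnP le_rfl
  have hall : D.group F ≤ Q' := by
    refine C.group_le_closure.trans ((Subgroup.closure_le _).2 (Set.union_subset hBQ ?_))
    rintro _ ⟨i, rfl⟩
    by_cases hia : i = a
    · exact hia ▸ ha
    · exact hle (nS_mem_par C a hia)
  refine eq_top_iff.2 fun x _ => ?_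
  obtain ⟨y, hy, hyx⟩ := hall x.2
  exact (Subtype.ext hyx : y = x) ▸ hy

end two

/-! ### The filtration -/

theorem par_normalizes {n : ℕ} (hn : 1 ≤ n) :
    par C a ≤ Subgroup.normalizer (C.Ucl (lSet C a n) : Set (GL D.Idx F)) := by
  refine C.Ucl_le fun r hr t => C.xGL_mem_normalizer hr.1 (fun s hs => ⟨hs.1, ?_, ?_⟩) t
  · intro e
    have h1 := hs.2
    rw [e, lev_neg C a hr.1] at h1
    have h2 := hr.2
    omega
  · rintro k ⟨hk, p, q, -, hq, hpq⟩
    refine ⟨hk, ?_⟩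
    have h0 : (0 : ℤ) ≤ C.R.α r a := by simpa [lev] using hr.2
    have h1 : (n : ℤ) ≤ C.R.α s a := hs.2
    show (n : ℤ) ≤ C.R.α k a
    rw [hpq, Pi.add_apply, Pi.smul_apply, Pi.smul_apply, smul_eq_mul, smul_eq_mul]
    have hq' : (1 : ℤ) ≤ q := by omega
    nlinarith [mul_nonneg (show (0 : ℤ) ≤ (p : ℤ) by positivity) h0]

theorem lSet_succ_le (n : ℕ) : C.Ucl (lSet C a (n + 1)) ≤ C.Ucl (lSet C a n) :=
  C.Ucl_mono fun r hr => ⟨hr.1, le_trans (by simp) hr.2⟩

theorem isClosed_tailSet (k : ℕ) : C.R.IsClosed (tailSet (D := D) k) :=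
  ⟨fun _ h => h.1, fun _ hr _ hs _ hm =>
    ⟨C.R.combo_pos hr.1 hs.1 hm, le_trans hr.2 (C.R.combo_lt hr.1 hs.1 hm).1.le⟩⟩

theorem pos_normalizes_tailSet {r : ℕ} (hr : D.IsPosRoot r) (k : ℕ) (t : F) :
    C.xGL r t ∈ Subgroup.normalizer (C.Ucl (tailSet (D := D) k) : Set (GL D.Idx F)) :=
  C.pos_normalizes (S := tailSet (D := D) k) hr (fun _ hs => hs.1) (fun _ hs _ hm =>
    ⟨C.R.combo_pos hr hs.1 hm, le_trans hs.2 (C.R.combo_lt hr hs.1 hm).2.le⟩) t

theorem posUnipotent_normalizes_tailSet (k : ℕ) :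
    D.posUnipotent F ≤ Subgroup.normalizer (C.Ucl (tailSet (D := D) k) : Set (GL D.Idx F)) :=
  C.posUnipotent_le fun _ t hr => pos_normalizes_tailSet C hr k t

theorem comm_tail {p k m : ℕ} (hp : D.IsPosRoot p)
    (h : ∀ r, D.IsPosRoot r → k < r → r ≠ p → ∀ q, C.R.IsCombo p r q → m < q) (t : F) :
    ∀ g ∈ C.Ucl (tailSet (D := D) (k + 1)),
      g⁻¹ * (C.xGL p t)⁻¹ * g * C.xGL p t ∈ C.Ucl (tailSet (D := D) (m + 1)) := by
  intro g hg
  have hnorm : ∀ z ∈ C.Ucl (tailSet (D := D) (k + 1)),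
      z ∈ Subgroup.normalizer (C.Ucl (tailSet (D := D) (m + 1)) : Set (GL D.Idx F)) :=
    fun z hz => C.Ucl_le (fun r hr u => pos_normalizes_tailSet C hr.1 (m + 1) u) hz
  refine (Subgroup.closure_induction (p := fun g _ => g ∈ C.Ucl (tailSet (D := D) (k + 1)) ∧
    g⁻¹ * (C.xGL p t)⁻¹ * g * C.xGL p t ∈ C.Ucl (tailSet (D := D) (m + 1))) ?_ ?_ ?_ ?_ hg).2
  · rintro _ ⟨r, hr, u, rfl⟩
    refine ⟨C.xGL_mem_Ucl hr u, ?_⟩
    by_cases hrp : r = p
    · subst hrp
      rw [show (C.xGL r u)⁻¹ * (C.xGL r t)⁻¹ * C.xGL r u * C.xGL r t =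
        (C.xGL r u)⁻¹ * ((C.xGL r t)⁻¹ * (C.xGL r u * C.xGL r t)) by group, ← C.xGL_add,
        add_comm u t, C.xGL_add, inv_mul_cancel_left, inv_mul_cancel]
      exact one_mem _
    · rw [mul_assoc, C.xGL_comm hp.1 hr.1.1 hrp
        (fun e => C.R.not_pos_and_neg hr.1 (by rw [e, C.R.isNeg_neg_iff hp.1]; exact hp)),
        show (C.xGL r u)⁻¹ * (C.xGL p t)⁻¹ * (C.xGL p t * C.xGL r u *
          C.wordGL (D.commWord F p r t u)) = C.wordGL (D.commWord F p r t u) by group]
      exact C.commWord_mem (S := tailSet (D := D) (m + 1)) (fun q hq =>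
        ⟨C.R.combo_pos hp hr.1 hq, h r hr.1 hr.2 hrp q hq⟩) t u
  · exact ⟨one_mem _, by simp⟩
  · rintro x y _ _ ⟨hx, hxc⟩ ⟨hy, hyc⟩
    refine ⟨mul_mem hx hy, ?_⟩
    rw [show (x * y)⁻¹ * (C.xGL p t)⁻¹ * (x * y) * C.xGL p t =
      (y⁻¹ * (x⁻¹ * (C.xGL p t)⁻¹ * x * C.xGL p t) * y⁻¹⁻¹) *
        (y⁻¹ * (C.xGL p t)⁻¹ * y * C.xGL p t) by group]
    exact mul_mem ((Subgroup.mem_normalizer_iff.1 (hnorm _ (inv_mem hy)) _).1 hxc) hyc
  · rintro x _ ⟨hx, hxc⟩
    refine ⟨inv_mem hx, ?_⟩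
    rw [show x⁻¹⁻¹ * (C.xGL p t)⁻¹ * x⁻¹ * C.xGL p t =
      x * (x⁻¹ * (C.xGL p t)⁻¹ * x * C.xGL p t)⁻¹ * x⁻¹ by group]
    exact (Subgroup.mem_normalizer_iff.1 (hnorm _ hx) _).1 (inv_mem hxc)

theorem xGL_not_mem_tail {m : ℕ} (hm : D.IsPosRoot m) {u : F} (hu : u ≠ 0) :
    C.xGL m u ∉ C.Ucl (tailSet (D := D) (m + 1)) := by
  classical
  intro h
  have hset := C.setOf_mem_rootList (S := tailSet (D := D) (m + 1)) fun r hr => hr.1.1
  set L := C.rootList (tailSet (D := D) (m + 1)) with hL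
  obtain ⟨t, ht⟩ := C.exists_word (L := L) (ChevCore.sorted_filter _)
    (by rw [hset]; exact isClosed_tailSet C _) _ (by rw [hset]; exact h)
  have hp : (m :: L).Pairwise (· < ·) := List.pairwise_cons.2 ⟨fun r hr => by
    have : r ∈ tailSet (D := D) (m + 1) := hset ▸ hr
    exact this.2, ChevCore.sorted_filter _⟩
  have hpos : ∀ r ∈ m :: L, D.IsPosRoot r := by
    intro r hr
    rcases List.mem_cons.1 hr with rfl | hr
    · exact hm
    · exact (show r ∈ tailSet (D := D) (m + 1) from hset ▸ hr).1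
  have hmL : ∀ r ∈ L, r ≠ m := fun r hr =>
    ((show r ∈ tailSet (D := D) (m + 1) from hset ▸ hr).2.trans_lt' (Nat.lt_succ_self m)).ne'
  have h0 : C.word L (fun _ => (0 : F)) = 1 := by
    clear hp hpos hmL ht
    induction L with
    | nil => rfl
    | cons b L ih => rw [C.word_cons, ih, C.xGL_zero, one_mul]
  have h1 := C.word_injective hp hpos (Function.update (fun _ => (0 : F)) m u)
    (Function.update t m 0) (by
      rw [C.word_cons, C.word_cons, Function.update_self, Function.update_self,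
        C.word_congr (t := Function.update (fun _ => (0 : F)) m u) (u := fun _ => (0 : F)) (fun r hr => Function.update_of_ne (hmL r hr) _ _),
        C.word_congr (t := Function.update t m 0) (u := t) (fun r hr => Function.update_of_ne (hmL r hr) _ _), h0, mul_one,
        C.xGL_zero, one_mul]
      exact ht) m (List.mem_cons_self ..)
  simp only [Function.update_self] at h1
  exact hu h1

/-! ### Data and consequences -/

/-- The checked properties of the datum. -/
structure Params (θ : ℕ) (L : List (Fin D.rank)) : Prop where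
  hF : ∀ u : Fˣ, u = 1
  simple : IsSimpleGroup ↥(D.group F)
  last : θ + 1 = D.nroots
  pos : D.IsPosRoot θ
  top : 6 ≤ lev C a θ
  drop : ∀ r < D.nroots, 2 ≤ lev C a r → lev C a r - 1 ≤ lev C a (D.reflectRoot a.val r)
  step : ∀ k, D.IsPosRoot k → k ≠ θ → ∃ i : Fin D.rank, stepCheck D 1 i.val k = true
  wit : ∀ i : Fin D.rank, ∃ r, r < D.nroots ∧ 1 ≤ lev C a r ∧ witCheck D 1 i.val r = true
  path : L.foldl (fun r i => D.reflectRoot i.val r) θ = D.neg (D.simple a.val)
  count : L.count a = 6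

variable {C a} {θ : ℕ} {L : List (Fin D.rank)} (P : Params C a θ L)

include P

theorem tail_normal {K : Subgroup (GL D.Idx F)}
    (hKn : ∀ m ∈ par C a, ∀ k ∈ K, m * k * m⁻¹ ∈ K) :
    ∀ (d k : ℕ), D.nroots ≤ k + d → ∀ z ∈ K, z ∈ C.Ucl (tailSet (D := D) k) → z ≠ 1 →
      C.xGL θ 1 ∈ K := by
  classical
  intro d
  induction d with
  | zero =>
    intro k hk z _ hz hz1
    have : C.Ucl (tailSet (D := D) k) ≤ ⊥ := C.Ucl_le fun r hr => by
      have := hr.1.1
      have := hr.2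
      omega
    exact absurd (Subgroup.mem_bot.1 (this hz)) hz1
  | succ d ih =>
    intro k hk z hzK hz hz1
    by_cases hkpos : D.IsPosRoot k
    swap
    · refine ih (k + 1) (by omega) z hzK (C.Ucl_mono ?_ hz) hz1
      exact fun r hr => ⟨hr.1, Nat.lt_of_le_of_ne hr.2 (fun e => hkpos (e ▸ hr.1))⟩
    have hset := C.setOf_mem_rootList (S := tailSet (D := D) (k + 1)) fun r hr => hr.1.1
    have hcons : {r | r ∈ k :: C.rootList (tailSet (D := D) (k + 1))} = tailSet (D := D) k := by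
      ext r
      have hr : r ∈ C.rootList (tailSet (D := D) (k + 1)) ↔ r ∈ tailSet (D := D) (k + 1) :=
        Set.ext_iff.1 hset r
      show r ∈ k :: C.rootList (tailSet (D := D) (k + 1)) ↔ _
      rw [List.mem_cons, hr]
      show (r = k ∨ (D.IsPosRoot r ∧ k + 1 ≤ r)) ↔ (D.IsPosRoot r ∧ k ≤ r)
      constructor
      · rintro (rfl | ⟨h1, h2⟩)
        · exact ⟨hkpos, le_rfl⟩
        · exact ⟨h1, by omega⟩
      · rintro ⟨h1, h2⟩
        rcases eq_or_lt_of_le h2 with h | h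
        · exact Or.inl h.symm
        · exact Or.inr ⟨h1, h⟩
    obtain ⟨t, ht⟩ := C.exists_word (L := k :: C.rootList (tailSet (D := D) (k + 1)))
      (List.pairwise_cons.2 ⟨fun r hr => (show r ∈ tailSet (D := D) (k + 1) from hset ▸ hr).2,
        ChevCore.sorted_filter _⟩) (by rw [hcons]; exact isClosed_tailSet C k) z (by rw [hcons]; exact hz)
    rw [C.word_cons] at ht
    set z' := C.word (C.rootList (tailSet (D := D) (k + 1))) t with hz'def
    have hz' : z' ∈ C.Ucl (tailSet (D := D) (k + 1)) := hset ▸ C.word_mem _ t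
    rcases eq_zero_or_one P.hF (t k) with h0 | h1
    · rw [h0, C.xGL_zero, one_mul] at ht
      exact ih (k + 1) (by omega) z hzK (ht ▸ hz') hz1
    rw [h1] at ht
    by_cases hkθ : k = θ
    · have : C.Ucl (tailSet (D := D) (k + 1)) ≤ ⊥ := C.Ucl_le fun r hr => by
        have := hr.1.1
        have := hr.2
        have := P.last
        omega
      rw [Subgroup.mem_bot.1 (this hz'), mul_one] at ht
      rw [← hkθ, ← ht]
      exact hzK
    obtain ⟨i, hi⟩ := P.step k hkpos hkθ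
    obtain ⟨hne, hnn, m, w, hw, hterms⟩ := step_of_check (F := F) (z := 1) (by simp) hi
    have hp : D.IsPosRoot (D.simple i.val) := C.R.simple_pos i
    obtain ⟨hmN, -, -, hab⟩ := C.R.commTerms_spec (show (m, w, 1, 1) ∈ D.commTerms (D.simple i.val) k
      by rw [hterms]; exact List.mem_cons_self ..)
    have hab' : C.R.α m = C.R.α (D.simple i.val) + C.R.α k := by simpa using hab
    have hcombo : C.R.IsCombo (D.simple i.val) k m :=
      ⟨hmN, 1, 1, one_pos, one_pos, by simpa using hab⟩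
    have hmpos := C.R.combo_pos hp hkpos hcombo
    obtain ⟨-, hkm⟩ := C.R.combo_lt hp hkpos hcombo
    -- combinations above
    have hup : ∀ r, D.IsPosRoot r → k < r → r ≠ D.simple i.val →
        ∀ q, C.R.IsCombo (D.simple i.val) r q → m < q := by
      intro r hr hkr _ q ⟨hq, e, f, he, hf, hef⟩
      refine (C.R.key_lt_iff hmN hq).1 ?_
      have k1 := congrArg (keyHom D.rank) hab'
      have k2 := congrArg (keyHom D.rank) hef
      have k3 := (C.R.key_lt_iff hkpos.1 hr.1).2 hkr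
      have k4 := C.R.one_le_key_of_pos hp
      have k5 := C.R.one_le_key_of_pos hr
      rw [map_add] at k1
      rw [map_add, map_zsmul, map_zsmul, smul_eq_mul, smul_eq_mul] at k2
      simp only [keyHom_apply] at k1 k2 k4 k5
      have he' : (1 : ℤ) ≤ e := by omega
      have hf' : (1 : ℤ) ≤ f := by omega
      nlinarith [mul_le_mul_of_nonneg_right he' (show (0 : ℤ) ≤ vecKey (C.R.α (D.simple i.val)) by omega),
        mul_le_mul_of_nonneg_right hf' (show (0 : ℤ) ≤ vecKey (C.R.α r) by omega)]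
    set X := C.xGL (D.simple i.val) (1 : F) with hX
    set c := z⁻¹ * X⁻¹ * z * X with hc
    have hXP : X ∈ par C a := pos_mem_par C a hp 1
    have hcK : c ∈ K := by
      rw [hc, show z⁻¹ * X⁻¹ * z * X = z⁻¹ * (X⁻¹ * z * X⁻¹⁻¹) by group]
      exact mul_mem (inv_mem hzK) (hKn _ (inv_mem hXP) z hzK)
    have hcomm := C.xGL_comm hp.1 hkpos.1 hne hnn (1 : F) (1 : F)
    have hword : C.wordGL (D.commWord F (D.simple i.val) k 1 1) = C.xGL m (w : F) := by
      simp [ChevalleyDatum.commWord, hterms, C.wordGL_cons, C.wordGL_nil, neg_eq_self P.hF]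
    rw [hword] at hcomm
    have hXm : C.xGL m (w : F) ∈ C.Ucl (tailSet (D := D) m) :=
      C.xGL_mem_Ucl (show m ∈ tailSet (D := D) m from ⟨hmpos, le_rfl⟩) _
    have hU : C.Ucl (tailSet (D := D) (k + 1)) ≤ D.posUnipotent F :=
      C.Ucl_le fun r hr u => C.xGL_mem_posUnipotent hr.1 u
    have hA : z'⁻¹ * C.xGL m (w : F) * z' * (C.xGL m (w : F))⁻¹ ∈
        C.Ucl (tailSet (D := D) (m + 1)) := by
      have h := comm_tail (k := k) (m := m) C hmpos (fun r hr _ _ q hq =>
        (C.R.combo_lt hmpos hr hq).1) (-(w : F)) z' hz'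
      rw [← C.xGL_inv, inv_inv] at h
      exact h
    have hB := comm_tail (k := k) (m := m) C hp hup (1 : F) z' hz'
    have hceq : c = (z'⁻¹ * C.xGL m (w : F) * z' * (C.xGL m (w : F))⁻¹) *
        C.xGL m (w : F) * (z'⁻¹ * X⁻¹ * z' * X) := by
      have e : (C.xGL k (1 : F))⁻¹ * X⁻¹ * C.xGL k (1 : F) * X = C.xGL m (w : F) := by
        rw [mul_assoc, hX, hcomm]; group
      rw [hc, ht, ← e]
      group
    have hsub : C.Ucl (tailSet (D := D) (m + 1)) ≤ C.Ucl (tailSet (D := D) m) :=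
      C.Ucl_mono fun r hr => ⟨hr.1, Nat.le_of_succ_le hr.2⟩
    refine ih m (by omega) c hcK ?_ ?_
    · rw [hceq]
      exact mul_mem (mul_mem (hsub hA) hXm) (hsub hB)
    · intro hc1
      refine xGL_not_mem_tail C hmpos hw ?_
      have : C.xGL m (w : F) = (z'⁻¹ * C.xGL m (w : F) * z' * (C.xGL m (w : F))⁻¹)⁻¹ *
          c * (z'⁻¹ * X⁻¹ * z' * X)⁻¹ := by
        rw [hceq]; group
      rw [this, hc1, mul_one]
      exact mul_mem (inv_mem hA) (inv_mem hB)

/-- Every non-trivial subgroup normalised by the parabolic subgroup contains the highest root element. -/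
theorem top_mem [Finite F] {K : Subgroup (GL D.Idx F)} (hKP : K ≤ par C a)
    (hKn : ∀ m ∈ par C a, ∀ k ∈ K, m * k * m⁻¹ ∈ K) (hK : K ≠ ⊥) : C.xGL θ 1 ∈ K := by
  classical
  haveI : Fintype F := Fintype.ofFinite F
  have hU0 : D.posUnipotent F = C.Ucl (tailSet (D := D) 0) := by
    rw [C.posUnipotent_eq]; congr 1; ext r; simp [tailSet]
  by_cases hex : ∃ z ∈ K, z ∈ D.posUnipotent F ∧ z ≠ 1
  · obtain ⟨z, hzK, hzU, hz1⟩ := hex
    exact tail_normal P hKn D.nroots 0 (by omega) z hzK (hU0 ▸ hzU) hz1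
  push Not at hex
  exfalso
  obtain ⟨k, hk, hk1⟩ := (Subgroup.bot_or_exists_ne_one K).resolve_left hK
  have hnorm : D.posUnipotent F ≤ Subgroup.normalizer (K : Set (GL D.Idx F)) := by
    intro u hu
    refine Subgroup.mem_normalizer_iff.2 fun x => ⟨hKn u (pos_le_par C a hu) x, fun h => ?_⟩
    have := hKn u⁻¹ (inv_mem (pos_le_par C a hu)) _ h
    simpa [mul_assoc] using this
  set M := D.posUnipotent F ⊔ K with hM
  have hMeq : ∀ x ∈ M, ∃ u ∈ D.posUnipotent F, ∃ y ∈ K, x = u * y := by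
    intro x hx
    rw [← SetLike.mem_coe, hM, Subgroup.coe_mul_of_left_le_normalizer_right _ _ hnorm] at hx
    obtain ⟨u, hu, y, hy, rfl⟩ := hx
    exact ⟨u, hu, y, hy, rfl⟩
  have hBM : D.borelSubgroup F ≤ M := (borel_le_posUnipotent C P.hF).trans le_sup_left
  have hMG : M ≤ D.group F :=
    sup_le ((pos_le_par C a).trans (par_le_group C a)) (hKP.trans (par_le_group C a))
  obtain ⟨b, hb, n, hn, hnM, b', hb', hkn⟩ :=
    C.mem_M_cases hBM hMG (le_sup_right (a := D.posUnipotent F) hk : k ∈ M)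
  obtain ⟨w, hw, -⟩ := C.exists_moves hn
  by_cases he : C.hR.invSet w = ∅
  · have hnB : n ∈ D.borelSubgroup F := le_sup_right (a := D.posUnipotent F)
      (C.mem_diagonal_of_moves_one hn (C.hR.eq_one_of_invSet_eq_empty hw.1 he ▸ hw))
    exact hk1 (hex k hk (borel_le_posUnipotent C P.hF (hkn ▸ mul_mem (mul_mem hb hnB) hb')))
  obtain ⟨j, hj⟩ := C.hR.exists_simple_neg_of_ne_one hw.1 he
  have hsM : C.nS j ∈ M := C.nS_mem_of_neg hBM hn hnM hw j hj
  set x := C.xGL (D.simple j.val) (1 : F) with hx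
  set y := C.xGL (D.neg (D.simple j.val)) (1 : F) with hy
  have hxU : x ∈ D.posUnipotent F := C.xGL_mem_posUnipotent (C.R.simple_pos j) 1
  have hconj : C.nS j * x * C.nS j = y := by
    have h := nS_conj C P.hF j (C.pRoot j) 1
    rwa [C.sPerm_pRoot] at h
  have hnword : C.nS j = x * y * x := by
    show C.wordGL (D.nWord (D.simple j.val) 1) = _
    simp [ChevalleyDatum.nWord, C.wordGL_cons, C.wordGL_nil, neg_eq_self P.hF, hx, hy, mul_assoc]
  have hxx : x * x = 1 := by
    have := xGL_inv_self C P.hF (D.simple j.val) (1 : F)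
    rw [← hx] at this
    nth_rewrite 1 [← this]
    rw [inv_mul_cancel]
  have hyM : y ∈ M := hconj ▸ mul_mem (mul_mem hsM (le_sup_left (b := K) hxU)) hsM
  set h := y * x with hh
  have hhM : h ∈ M := mul_mem hyM (le_sup_left (b := K) hxU)
  have h3 : h ^ 3 = 1 := by
    have e : x * y * x * x = y * (x * y * x) := by
      have hns : C.nS j * x = y * C.nS j := by
        rw [← hconj, mul_assoc, nS_mul_self C P.hF, mul_one]
      rwa [hnword] at hns
    rw [mul_assoc (x * y) x x, hxx, mul_one] at e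
    have hyy : y * y = 1 := by
      have := xGL_inv_self C P.hF (D.neg (D.simple j.val)) (1 : F)
      rw [← hy] at this
      nth_rewrite 1 [← this]
      rw [inv_mul_cancel]
    rw [pow_three, hh, show y * x * (y * x * (y * x)) = y * (x * y * x) * (y * x) by group, ← e,
      show x * y * (y * x) = x * (y * y) * x by group, hyy, mul_one, hxx]
  -- modulo `K` the group is a 2-group
  have hpow : ∀ z ∈ M, ∀ e : ℕ, ∃ u ∈ D.posUnipotent F, ∃ v ∈ K, z ^ e = u * v ∧
      ∀ z₀ ∈ D.posUnipotent F, (∃ v₀ ∈ K, z = z₀ * v₀) → u = z₀ ^ e := by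
    intro z hz e
    induction e with
    | zero => exact ⟨1, one_mem _, 1, one_mem _, by simp, fun z₀ _ _ => (pow_zero z₀).symm⟩
    | succ e ih =>
      obtain ⟨u, hu, v, hv, huv, hu0⟩ := ih
      obtain ⟨z₁, hz₁, v₁, hv₁, hzv⟩ := hMeq z hz
      refine ⟨u * z₁, mul_mem hu hz₁, z₁⁻¹ * v * z₁ * v₁,
        mul_mem (by simpa using hKn z₁⁻¹ (inv_mem (pos_le_par C a hz₁)) v hv) hv₁, ?_, ?_⟩
      · rw [pow_succ, huv, hzv]; group
      · rintro z₀ hz₀ ⟨v₀, hv₀, hzv₀⟩
        have h01 : z₀⁻¹ * z₁ ∈ K := by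
          have : z₀⁻¹ * z₁ = v₀ * v₁⁻¹ := by
            rw [show v₀ = z₀⁻¹ * z by rw [hzv₀, inv_mul_cancel_left], hzv]; group
          rw [this]; exact mul_mem hv₀ (inv_mem hv₁)
        have := hex _ h01 (mul_mem (inv_mem hz₀) hz₁)
        rw [inv_mul_eq_one] at this
        rw [hu0 z₀ hz₀ ⟨v₀, hv₀, hzv₀⟩, pow_succ, this]
  obtain ⟨u₀, hu₀, v₀, hv₀, huv⟩ := hMeq h hhM
  obtain ⟨N, hN⟩ : ∃ N, Nat.card (D.posUnipotent F) = 2 ^ N := by
    refine ⟨{r | D.IsPosRoot r}.ncard, ?_⟩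
    rw [C.posUnipotent_eq, C.card_Ucl C.R.isClosed_pos]
    congr 1
    refine (Fintype.card_eq.2 ⟨?_⟩ : Fintype.card F = Fintype.card Bool).trans Fintype.card_bool
    exact
      { toFun := fun t => decide (t = 1)
        invFun := fun b => if b then 1 else 0
        left_inv := fun t => by rcases eq_zero_or_one P.hF t with rfl | rfl <;> simp
        right_inv := fun b => by cases b <;> simp }
  have hu0N : u₀ ^ (2 ^ N) = 1 := by
    have := pow_card_eq_one' (x := (⟨u₀, hu₀⟩ : D.posUnipotent F))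
    rw [hN] at this
    exact congrArg Subtype.val this
  have hhK : h ∈ K := by
    obtain ⟨u, -, v, hv, hpv, hu1⟩ := hpow h hhM (2 ^ N)
    rw [hu1 u₀ hu₀ ⟨v₀, hv₀, huv⟩, hu0N, one_mul] at hpv
    have hcop : Nat.Coprime (2 ^ N) (orderOf h) :=
      (Nat.Coprime.pow_left N (by norm_num : Nat.Coprime 2 3)).coprime_dvd_right
        (orderOf_dvd_of_pow_eq_one h3)
    obtain ⟨e, he⟩ := exists_pow_eq_self_of_coprime hcop
    rw [← he, hpv]
    exact pow_mem hv e
  obtain ⟨r, hrN, hrl, hwit⟩ := P.wit j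
  simp only [witCheck, Bool.and_eq_true, List.isEmpty_iff] at hwit
  obtain ⟨hne, hnn, m, w', hw', hterms⟩ := step_of_check (F := F) (z := 1) (by simp) hwit.1
  have hr1 : r ∈ lSet C a 1 := ⟨hrN, by simpa using hrl⟩
  have hrpos : D.IsPosRoot r := isPos_of_lev C a hrN (by omega)
  set R := C.xGL r (1 : F) with hR
  have hRU : R ∈ D.posUnipotent F := C.xGL_mem_posUnipotent hrpos 1
  have hTU : C.Ucl (lSet C a 1) ≤ D.posUnipotent F := C.Ucl_le fun s hs t =>
    C.xGL_mem_posUnipotent (isPos_of_lev C a hs.1 (by have := hs.2; omega)) t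
  have hhP : h ∈ par C a := hKP hhK
  have hcom : h * R * h⁻¹ * R⁻¹ = 1 := by
    refine hex _ ?_ ?_
    · rw [show h * R * h⁻¹ * R⁻¹ = h * (R * h⁻¹ * R⁻¹) by group]
      exact mul_mem hhK (hKn R (pos_le_par C a hRU) _ (inv_mem hhK))
    · have := (Subgroup.mem_normalizer_iff.1 (par_normalizes C a le_rfl hhP) R).1
        (C.xGL_mem_Ucl hr1 1)
      exact mul_mem (hTU this) (inv_mem hRU)
  have hyR : R * y = y * R := by
    have := C.xGL_comm (C.R.neg_lt _ (C.R.simple_lt j)) hrN hnn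
      (by rw [C.R.neg_neg _ (C.R.simple_lt j)]; exact hne) (1 : F) (1 : F)
    rwa [show D.commWord F (D.neg (D.simple j.val)) r (1 : F) 1 = [] by
      simp [ChevalleyDatum.commWord, hwit.2], C.wordGL_nil, mul_one] at this
  have hxR := C.xGL_comm (C.R.simple_lt j) hrN hne hnn (1 : F) (1 : F)
  rw [show C.wordGL (D.commWord F (D.simple j.val) r (1 : F) 1) = C.xGL m (w' : F) by
    simp [ChevalleyDatum.commWord, hterms, C.wordGL_cons, C.wordGL_nil, neg_eq_self P.hF],
    ← hR, ← hx] at hxR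
  have hhR : h * R = R * h := mul_inv_eq_iff_eq_mul.1 (mul_inv_eq_one.1 hcom)
  have hxR' : x * R = R * x := by
    have e : y * (x * R) = y * (R * x) := by
      calc y * (x * R) = h * R := (mul_assoc _ _ _).symm
        _ = R * (y * x) := hhR
        _ = _ := by rw [← mul_assoc, hyR, mul_assoc]
    exact mul_left_cancel e
  rw [← hxR', left_eq_mul] at hxR
  obtain ⟨hmN, -, -, -⟩ := C.R.commTerms_spec (show (m, w', 1, 1) ∈ D.commTerms (D.simple j.val) r
    by rw [hterms]; exact List.mem_cons_self ..)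
  exact hw' ((C.xGL_eq_one_iff hmN).1 hxR)

theorem exists_example [Finite F] :
    ∃ (G : Type) (_ : Group G) (_ : Finite G) (M₁ M₂ : Subgroup G) (g : G) (A B : ℕ → Subgroup G),
      IsCoatom M₁ ∧ M₂ = M₁.map (MulAut.conj g).toMonoidHom ∧ M₁ ≠ M₂ ∧ M₁.normalCore = ⊥ ∧ A 0 = M₁ ∧ B 0 = M₂ ∧
      (∀ i, A (i + 1) = ((A i ⊓ B i).subgroupOf M₁).normalCore.map M₁.subtype) ∧
      (∀ i, B (i + 1) = ((A i ⊓ B i).subgroupOf M₂).normalCore.map M₂.subtype) ∧ A 6 = ⊥ ∧ A 5 ≠ ⊥ := by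
  classical
  haveI := P.simple
  set G := D.group F
  haveI : Finite (GL D.Idx F) := inferInstance
  haveI : Finite ↥G := inferInstance
  set M : Subgroup ↥G := (par C a).subgroupOf G with hMdef
  set g : ↥G := ⟨C.nS a, C.nGL_mem_group _ _⟩ with hgdef
  have hM := isCoatom_par C a P.hF
  have hmemM : ∀ {x : ↥G}, x ∈ M ↔ (x : GL D.Idx F) ∈ par C a := Subgroup.mem_subgroupOf
  refine ⟨↥G, inferInstance, inferInstance, ?_⟩
  refine CfsgLib.CoreChain.exists_example M g hM ?_ ?_ ?_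
    (fun n => (C.Ucl (lSet C a n)).subgroupOf G) ?_ ?_ ?_ ?_
    ⟨C.xGL θ 1, C.xGL_mem_group _ _⟩ ?_ ?_ ?_ ?_
  · rcases (Subgroup.normalCore_normal M).eq_bot_or_eq_top with h | h
    · exact h
    · exact absurd (top_le_iff.1 (h ▸ Subgroup.normalCore_le M)) hM.1
  · exact fun h => nS_not_mem_par C a P.hF (hmemM.1 h)
  · rw [hmemM]
    show C.nS a * C.nS a ∈ par C a
    rw [nS_mul_self C P.hF]
    exact one_mem _
  · intro x hx
    exact hmemM.2 (lSet_succ_le C a 0 (Subgroup.mem_subgroupOf.1 hx))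
  · intro n hn m hm k hk
    rw [Subgroup.mem_subgroupOf] at hk ⊢
    exact (Subgroup.mem_normalizer_iff.1 (par_normalizes C a hn (hmemM.1 hm)) _).1 hk
  · intro n _ x hx
    rw [Subgroup.mem_subgroupOf] at hx ⊢
    exact lSet_succ_le C a n hx
  · intro n hn x hx
    rw [Subgroup.mem_subgroupOf] at hx
    have hsub : C.Ucl (lSet C a (n + 1)) ≤
        (C.Ucl (lSet C a n)).map (MulAut.conj (C.nS a)).toMonoidHom := by
      refine C.Ucl_le fun r hr t => ⟨C.xGL (C.hR.sPerm a ⟨r, hr.1⟩) t, C.xGL_mem_Ucl ?_ t, ?_⟩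
      · refine ⟨(C.hR.sPerm a ⟨r, hr.1⟩).isLt, ?_⟩
        have hr2 : ((n : ℤ) + 1) ≤ lev C a r := by simpa using hr.2
        have := P.drop r hr.1 (by omega)
        rw [C.hR.sPerm_val]
        show (n : ℤ) ≤ lev C a (D.reflectRoot a.val r)
        omega
      · show C.nS a * C.xGL (C.hR.sPerm a ⟨r, hr.1⟩) t * (C.nS a)⁻¹ = C.xGL r t
        rw [nS_inv_self C P.hF, nS_conj C P.hF, ← Equiv.Perm.mul_apply, C.hR.sPerm_mul_self a]
        rfl
    obtain ⟨z, hz, hzx⟩ := hsub hx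
    refine ⟨⟨z, C.Ucl_le (fun r _ t => C.xGL_mem_group r t) hz⟩, Subgroup.mem_subgroupOf.2 hz,
      Subtype.ext hzx⟩
  · exact fun h => one_ne_zero ((C.xGL_eq_one_iff (t := (1 : F)) P.pos.1).1 (congrArg Subtype.val h))
  · exact Subgroup.mem_subgroupOf.2 (C.xGL_mem_Ucl (show θ ∈ lSet C a 6 from
      ⟨P.pos.1, by simpa using P.top⟩) 1)
  · intro K hKM hKn hK
    have hmap : C.xGL θ 1 ∈ K.map G.subtype := by
      refine top_mem P ?_ ?_ ?_
      · rintro _ ⟨k, hk, rfl⟩
        exact hmemM.1 (hKM hk)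
      · rintro m hm _ ⟨k, hk, rfl⟩
        exact ⟨_, hKn ⟨m, par_le_group C a hm⟩ (hmemM.2 hm) k hk, rfl⟩
      · rwa [Ne, Subgroup.map_eq_bot_iff_of_injective _ G.subtype_injective]
    obtain ⟨k, hk, hke⟩ := hmap
    exact (Subtype.ext hke : k = ⟨C.xGL θ 1, C.xGL_mem_group _ _⟩) ▸ hk
  · intro S hS0 hSn hSd hx
    have key : ∀ (l : List (Fin D.rank)) (r : ℕ) (n : ℕ), r < D.nroots →
        (⟨C.xGL r 1, C.xGL_mem_group _ _⟩ : ↥G) ∈ S (n + l.count a) →
        (⟨C.xGL (l.foldl (fun r i => D.reflectRoot i.val r) r) 1, C.xGL_mem_group _ _⟩ : ↥G) ∈ S n := by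
      intro l
      induction l with
      | nil => intro r n _ h; simpa using h
      | cons i l ih =>
        intro r n hr h
        have hval := C.hR.sPerm_val i ⟨r, hr⟩
        have hlt : D.reflectRoot i.val r < D.nroots := hval ▸ (C.hR.sPerm i ⟨r, hr⟩).isLt
        have he : (⟨C.nS i, C.nGL_mem_group _ _⟩ : ↥G) * ⟨C.xGL r 1, C.xGL_mem_group _ _⟩ *
            ⟨C.nS i, C.nGL_mem_group _ _⟩ =
            ⟨C.xGL (D.reflectRoot i.val r) 1, C.xGL_mem_group _ _⟩ := Subtype.ext (by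
          show C.nS i * C.xGL r 1 * C.nS i = _
          rw [show C.nS i * C.xGL r 1 * C.nS i = C.xGL (C.hR.sPerm i ⟨r, hr⟩) 1 from
            nS_conj C P.hF i ⟨r, hr⟩ 1, hval])
        have hinv : (⟨C.nS i, C.nGL_mem_group _ _⟩ : ↥G)⁻¹ = ⟨C.nS i, C.nGL_mem_group _ _⟩ :=
          Subtype.ext (nS_inv_self C P.hF i)
        rw [List.foldl_cons]
        refine ih _ n hlt ?_
        rw [← he]
        by_cases hia : i = a
        · subst hia
          rw [List.count_cons_self, ← Nat.add_assoc] at h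
          have := (hSd _ _ h).2
          rwa [hgdef, hinv] at this
        · rw [List.count_cons_of_ne hia] at h
          have := hSn _ ⟨C.nS i, C.nGL_mem_group _ _⟩ (hmemM.2 (nS_mem_par C a hia)) _ h
          rwa [hinv] at this
    have h0 := key L θ 0 P.pos.1 (by simpa [P.count] using hx)
    simp only [P.path] at h0
    rw [hS0, hmemM] at h0
    refine nS_not_mem_par C a P.hF ?_
    show C.wordGL (D.nWord (D.simple a.val) 1) ∈ par C a
    simp only [ChevalleyDatum.nWord, C.wordGL_cons, C.wordGL_nil, neg_eq_self P.hF, inv_one,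
      mul_one]
    exact mul_mem (pos_mem_par C a (C.R.simple_pos a) 1)
      (mul_mem h0 (pos_mem_par C a (C.R.simple_pos a) 1))

end CfsgLib.CoreChainChev
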