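import Cfsg.Agent.Lib.Maximal.CoreChainChev
import Cfsg.Agent.Lib.ChevStr.InstanceTables
import Cfsg.Agent.Lib.ChevStr.GoodTables
import Cfsg.Agent.Lib.ChevStr.Perfect

/-!
The chain of cores for a maximal parabolic subgroup of `E₈(2)`.
-/

set_option autoImplicit false

namespace CfsgLib.CoreChainE8

open Cfsg.Lie CfsgLib.ChevStr CfsgLib.CoreChainChev

/-- The node with coefficient six in the highest root. -/
def node : Fin chevE8.rank := ⟨3, by decide⟩

/-- A path of simple reflections from the highest root. -/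
def path : List (Fin chevE8.rank) :=
  ([7, 6, 5, 4, 3, 1, 2, 0, 3, 2, 4, 3, 1, 5, 4, 3, 2, 0, 6, 5, 4, 3, 1, 2, 7, 6, 5, 4, 3] :
    List (Fin 8))

/-- The coefficient at the node. -/
def coefAt (r : ℕ) : ℤ := packedCoef chevE8.rank coefPackE8 r node

theorem lev_eq (r : ℕ) : lev (coreE8 (ZMod 2)) node r = coefAt r := rfl

theorem drop_check : ∀ r < chevE8.nroots,
    2 ≤ coefAt r → coefAt r - 1 ≤ coefAt (chevE8.reflectRoot 3 r) := by
  decide +kernel

theorem step_check : ∀ k < chevE8.nroots, chevE8.IsPosRoot k → k ≠ 239 →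
    ∃ i : Fin chevE8.rank, stepCheck chevE8 1 i.val k = true := by
  decide +kernel

theorem wit_check : ∀ i : Fin chevE8.rank, ∃ r, r < chevE8.nroots ∧
    1 ≤ coefAt r ∧ witCheck chevE8 1 i.val r = true := by
  decide +kernel

theorem path_check : path.foldl (fun r i => chevE8.reflectRoot i.val r) 239 =
    chevE8.neg (chevE8.simple 3) := by
  decide +kernel

theorem params : Params (coreE8 (ZMod 2)) node 239 path where
  hF := by decide
  simple := ((coreE8 (ZMod 2)).group_isSimple (by decide +kernel) diagramConnectedE8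
    (perfect_of_check (coreE8 (ZMod 2)) goodCheckE8)).1
  last := by decide +kernel
  pos := by decide +kernel
  top := by rw [lev_eq]; decide +kernel
  drop := fun r hr h => by
    rw [lev_eq] at h
    rw [lev_eq, lev_eq]
    exact drop_check r hr h
  step := fun k hk h => step_check k hk.1 hk h
  wit := fun i => by
    simp only [lev_eq]
    exact wit_check i
  path := path_check
  count := by decide +kernel

theorem exists_example :
    ∃ (G : Type) (_ : Group G) (_ : Finite G) (M₁ M₂ : Subgroup G) (g : G) (A B : ℕ → Subgroup G),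
      IsCoatom M₁ ∧ M₂ = M₁.map (MulAut.conj g).toMonoidHom ∧ M₁ ≠ M₂ ∧ M₁.normalCore = ⊥ ∧ A 0 = M₁ ∧ B 0 = M₂ ∧
      (∀ i, A (i + 1) = ((A i ⊓ B i).subgroupOf M₁).normalCore.map M₁.subtype) ∧
      (∀ i, B (i + 1) = ((A i ⊓ B i).subgroupOf M₂).normalCore.map M₂.subtype) ∧ A 6 = ⊥ ∧ A 5 ≠ ⊥ :=
  CfsgLib.CoreChainChev.exists_example params

end CfsgLib.CoreChainE8
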