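import Cfsg.Agent.Lib.Maximal.DerangementCount

/-!
A transitive group of degree `n ≥ 7` has at least `2|G|/n` derangements unless it is sharply 2-transitive.
The 2-transitive case is elementary: Cauchy–Schwarz on the fixed point numbers in a two point stabiliser,
the linear space of its fixed points, and a structure lemma when all its orbits have length at most two.
-/

set_option autoImplicit false
set_option linter.unusedSectionVars false
set_option linter.style.haveILetI false

namespace CfsgLib.Maximal.DerangementTwo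

open MulAction

variable {G Ω : Type*} [Group G] [MulAction G Ω]

/-- two point stabiliser -/
def pairStab (a b : Ω) : Subgroup G := stabilizer G a ⊓ stabilizer G b

lemma mem_pairStab {a b : Ω} {g : G} : g ∈ pairStab a b ↔ g • a = a ∧ g • b = b := by
  simp [pairStab, mem_stabilizer_iff]

/-- transitive on ordered pairs of distinct points -/
def TwoTrans (G Ω : Type*) [Group G] [MulAction G Ω] : Prop :=
  ∀ a b c d : Ω, a ≠ b → c ≠ d → ∃ g : G, g • a = c ∧ g • b = d

lemma conj_mem_pairStab {a b : Ω} {g h : G} :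
    g * h * g⁻¹ ∈ pairStab (g • a) (g • b) ↔ h ∈ pairStab a b := by
  simp [mem_pairStab, mul_smul]

section Finite

variable [Finite G]

lemma card_pairStab_eq (h2 : TwoTrans G Ω) {a b c d : Ω} (hab : a ≠ b) (hcd : c ≠ d) :
    Nat.card (pairStab a b : Subgroup G) = Nat.card (pairStab c d : Subgroup G) := by
  obtain ⟨g, rfl, rfl⟩ := h2 a b c d hab hcd
  exact Nat.card_congr ((MulAut.conj g).toEquiv.subtypeEquiv fun h => by
    simpa using (conj_mem_pairStab (a := a) (b := b) (g := g) (h := h)).symm)

lemma pairStab_eq (h2 : TwoTrans G Ω) {a b c d : Ω} (hab : a ≠ b) (hcd : c ≠ d)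
    (h : ∀ g ∈ (pairStab a b : Subgroup G), g • c = c ∧ g • d = d) :
    (pairStab c d : Subgroup G) = pairStab a b :=
  (Subgroup.eq_of_le_of_card_ge (fun g hg => mem_pairStab.2 (h g hg))
    (card_pairStab_eq h2 hcd hab).le).symm

/-- orbits of two point stabilisers of length at most two force order at most two -/
lemma card_pairStab_le_two [FaithfulSMul G Ω] (h2 : TwoTrans G Ω) {α β : Ω} (hab : α ≠ β)
    (horb : ∀ γ : Ω, (pairStab α β ⊓ stabilizer G γ : Subgroup G).relIndex (pairStab α β) ≤ 2) :
    Nat.card (pairStab α β : Subgroup G) ≤ 2 := by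
  by_contra hK
  push Not at hK
  -- the same property for every pair
  have hall : ∀ a b : Ω, a ≠ b → ∀ γ : Ω, ∀ g ∈ (pairStab a b : Subgroup G), ∀ h ∈ (pairStab a b : Subgroup G),
      g • γ ≠ γ → h • γ ≠ γ → (g * h) • γ = γ := by
    intro a b hne γ g hg h hh hgγ hhγ
    obtain ⟨s, rfl, rfl⟩ := h2 α β a b hab hne
    obtain ⟨δ, rfl⟩ : ∃ δ, γ = s • δ := ⟨s⁻¹ • γ, (smul_inv_smul s γ).symm⟩
    set H := (pairStab α β ⊓ stabilizer G δ : Subgroup G).subgroupOf (pairStab α β)
    have hg' : s⁻¹ * g * s ∈ (pairStab α β : Subgroup G) := conj_mem_pairStab (g := s).1 (by simpa [mul_assoc] using hg)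
    have hh' : s⁻¹ * h * s ∈ (pairStab α β : Subgroup G) := conj_mem_pairStab (g := s).1 (by simpa [mul_assoc] using hh)
    have hmem : ∀ x (hx : x ∈ (pairStab α β : Subgroup G)), (⟨x, hx⟩ : pairStab α β) ∈ H ↔ x • δ = δ := by
      intro x hx
      simp [H, Subgroup.mem_subgroupOf, hx]
    have hgn : (⟨_, hg'⟩ : pairStab α β) ∉ H := fun h' => hgγ <| by
      have := congrArg (s • ·) ((hmem _ hg').1 h')
      simpa [mul_smul] using this
    have hhn : (⟨_, hh'⟩ : pairStab α β) ∉ H := fun h' => hhγ <| by
      have := congrArg (s • ·) ((hmem _ hh').1 h')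
      simpa [mul_smul] using this
    have h2' : H.index = 2 := by
      refine le_antisymm (horb δ) ?_
      exact Subgroup.one_lt_index_of_ne_top fun htop => hgn (htop ▸ Subgroup.mem_top _)
    have := ((hmem _ _).1 ((Subgroup.mul_mem_iff_of_index_two h2' (a := ⟨_, hg'⟩) (b := ⟨_, hh'⟩)).2
      (iff_of_false hgn hhn)))
    have := congrArg (s • ·) this
    simpa [mul_smul] using this
  -- exponent two
  have hsq : ∀ a b : Ω, a ≠ b → ∀ g ∈ (pairStab a b : Subgroup G), g * g = 1 := by
    intro a b hne g hg
    refine eq_of_smul_eq_smul fun γ : Ω => ?_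
    rw [one_smul]
    by_cases hgγ : g • γ = γ
    · rw [mul_smul, hgγ, hgγ]
    · exact hall a b hne γ g hg g hg hgγ hgγ
  have habel : ∀ a b : Ω, a ≠ b → ∀ g ∈ (pairStab a b : Subgroup G), ∀ h ∈ (pairStab a b : Subgroup G),
      Commute g h := by
    intro a b hne g hg h hh
    have e1 := hsq a b hne g hg
    have e2 := hsq a b hne h hh
    have e3 := hsq a b hne _ (Subgroup.mul_mem _ hg hh)
    calc g * h = (g * h)⁻¹ := eq_inv_of_mul_eq_one_left e3
      _ = h * g := by rw [mul_inv_rev, inv_eq_of_mul_eq_one_right e1, inv_eq_of_mul_eq_one_right e2]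
  -- two point stabilisers through a common point commute
  have hcomm : ∀ a b c : Ω, a ≠ b → a ≠ c → ∀ g ∈ (pairStab a b : Subgroup G),
      ∀ h ∈ (pairStab a c : Subgroup G), Commute g h := by
    intro a b c hb hc g hg h hh
    by_cases hgc : g • c = c
    · exact habel a c hc g (mem_pairStab.2 ⟨(mem_pairStab.1 hg).1, hgc⟩) h hh
    by_cases hhb : h • b = b
    · exact habel a b hb g hg h (mem_pairStab.2 ⟨(mem_pairStab.1 hh).1, hhb⟩)
    -- a non-trivial element fixing both
    have hcard : 2 < Nat.card (pairStab a b : Subgroup G) := card_pairStab_eq h2 hab hb ▸ hK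
    obtain ⟨g', hg', hne1, hneg⟩ : ∃ g' ∈ (pairStab a b : Subgroup G), g' ≠ 1 ∧ g' ≠ g := by
      classical
      have := Fintype.ofFinite (pairStab a b : Subgroup G)
      rw [Nat.card_eq_fintype_card] at hcard
      obtain ⟨x, -, hx⟩ := Finset.exists_mem_notMem_of_card_lt_card
        (s := ({1, ⟨g, hg⟩} : Finset (pairStab a b : Subgroup G))) (t := Finset.univ)
        (lt_of_le_of_lt Finset.card_le_two (by simpa using hcard))
      exact ⟨x.1, x.2, fun h => hx (by simp [Subtype.ext_iff, h]), fun h => hx (by simp [Subtype.ext_iff, h])⟩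
    obtain ⟨w, hwab, hwc, hw1⟩ : ∃ w ∈ (pairStab a b : Subgroup G), w • c = c ∧ w ≠ 1 := by
      by_cases hg'c : g' • c = c
      · exact ⟨g', hg', hg'c, hne1⟩
      · refine ⟨g' * g, Subgroup.mul_mem _ hg' hg, hall a b hb c g' hg' g hg hg'c hgc, fun h => hneg ?_⟩
        rw [eq_inv_of_mul_eq_one_left h, inv_eq_of_mul_eq_one_right (hsq a b hb g hg)]
    have hwac : w ∈ (pairStab a c : Subgroup G) := mem_pairStab.2 ⟨(mem_pairStab.1 hwab).1, hwc⟩
    obtain ⟨y, hy⟩ : ∃ y : Ω, w • y ≠ y := by
      by_contra hh'
      push Not at hh'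
      exact hw1 (eq_of_smul_eq_smul fun y : Ω => by rw [hh' y, one_smul])
    have hay : a ≠ y := fun e => hy (e ▸ (mem_pairStab.1 hwab).1)
    -- decompose along the stabiliser of y
    have hdec : ∀ d : Ω, a ≠ d → ∀ x ∈ (pairStab a d : Subgroup G), w ∈ (pairStab a d : Subgroup G) →
        ∃ u ∈ (pairStab a d : Subgroup G), u • y = y ∧ (x = u ∨ x = u * w) := by
      intro d hd x hx hwd
      by_cases hxy : x • y = y
      · exact ⟨x, hx, hxy, Or.inl rfl⟩
      · refine ⟨x * w, Subgroup.mul_mem _ hx hwd, hall a d hd y x hx w hwd hxy hy, Or.inr ?_⟩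
        rw [mul_assoc, hsq a d hd w hwd, mul_one]
    obtain ⟨u, hu, huy, hgu⟩ := hdec b hb g hg hwab
    obtain ⟨u', hu', hu'y, hhu⟩ := hdec c hc h hh hwac
    have huu : Commute u u' := habel a y hay u (mem_pairStab.2 ⟨(mem_pairStab.1 hu).1, huy⟩) u'
      (mem_pairStab.2 ⟨(mem_pairStab.1 hu').1, hu'y⟩)
    have huw : Commute u w := habel a b hb u hu w hwab
    have hu'w : Commute u' w := habel a c hc u' hu' w hwac
    rcases hgu with rfl | rfl <;> rcases hhu with rfl | rfl
    · exact huu
    · exact huu.mul_right huw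
    · exact huu.mul_left hu'w.symm
    · exact ((huu.mul_right huw).mul_left (hu'w.symm.mul_right (Commute.refl w)))
  -- a non-trivial element moving a point
  haveI : Nontrivial (pairStab α β : Subgroup G) := Finite.one_lt_card_iff_nontrivial.1 (by omega)
  obtain ⟨⟨k, hk⟩, hk1⟩ := exists_ne (1 : (pairStab α β : Subgroup G))
  obtain ⟨z, hz⟩ : ∃ z : Ω, k • z ≠ z := by
    by_contra hh
    push Not at hh
    exact hk1 (Subtype.ext (eq_of_smul_eq_smul fun y : Ω => by simpa using hh y))
  have hαz : α ≠ z := fun e => hz (e ▸ (mem_pairStab.1 hk).1)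
  have hβz : β ≠ z := fun e => hz (e ▸ (mem_pairStab.1 hk).2)
  have key : ∀ a : Ω, a ≠ z → (∀ g ∈ (pairStab a z : Subgroup G), Commute k g) →
      (pairStab z (k • z) : Subgroup G) = pairStab a z := by
    intro a ha hc
    refine pairStab_eq h2 ha (Ne.symm hz) fun g hg => ⟨(mem_pairStab.1 hg).2, ?_⟩
    rw [← mul_smul, ← (hc g hg).eq, mul_smul, (mem_pairStab.1 hg).2]
  have e1 := key α hαz fun g hg => hcomm α β z hab hαz k hk g hg
  have e2 := key β hβz fun g hg => hcomm β α z hab.symm hβz k
    (mem_pairStab.2 ⟨(mem_pairStab.1 hk).2, (mem_pairStab.1 hk).1⟩) g hg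
  have e3 : (pairStab α β : Subgroup G) = pairStab α z := by
    refine pairStab_eq h2 hαz hab fun g hg => ⟨(mem_pairStab.1 hg).1, ?_⟩
    rw [← e1, e2] at hg
    exact (mem_pairStab.1 hg).1
  exact hz (mem_pairStab.1 (e3 ▸ hk : k ∈ (pairStab α z : Subgroup G))).2

end Finite

section Count

variable [Fintype G] [Fintype Ω] [DecidableEq Ω]

/-- fixed points as a finset -/
def fx (g : G) : Finset Ω := Finset.univ.filter fun x => g • x = x

lemma mem_fx {g : G} {x : Ω} : x ∈ fx g ↔ g • x = x := by simp [fx]

lemma card_fx (g : G) : (fx g : Finset Ω).card = Nat.card (fixedBy Ω g) := by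
  rw [Nat.card_coe_set_eq, ← Set.ncard_coe_finset]
  congr 1
  ext x
  simp [fx, MulAction.mem_fixedBy]

lemma card_fx_conj (s g : G) : (fx (s * g * s⁻¹) : Finset Ω).card = (fx g : Finset Ω).card :=
  Finset.card_bij' (fun x _ => s⁻¹ • x) (fun x _ => s • x)
    (fun x hx => by
      rw [mem_fx] at hx ⊢
      rw [mul_smul, mul_smul] at hx
      conv_rhs => rw [← hx]
      rw [inv_smul_smul])
    (fun x hx => by rw [mem_fx] at hx ⊢; rw [mul_smul, mul_smul, inv_smul_smul, hx])
    (fun x _ => smul_inv_smul s x) (fun x _ => inv_smul_smul s x)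

open scoped Classical in
/-- double counting of fixed ordered pairs -/
lemma sum_pairs (h2 : TwoTrans G Ω) (φ : G → ℚ) (hφ : ∀ s g : G, φ (s * g * s⁻¹) = φ g) {α β : Ω} (hab : α ≠ β) :
    ∑ g : G, φ g * ((fx g : Finset Ω).offDiag.card : ℚ) =
      ((Finset.univ : Finset Ω).offDiag.card : ℚ) *
        ∑ g ∈ Finset.univ.filter (fun g => g ∈ (pairStab α β : Subgroup G)), φ g := by
  have h1 : ∀ g : G, φ g * ((fx g : Finset Ω).offDiag.card : ℚ) =
      ∑ p ∈ (Finset.univ : Finset Ω).offDiag, if g ∈ (pairStab p.1 p.2 : Subgroup G) then φ g else 0 := by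
    intro g
    have : (fx g : Finset Ω).offDiag =
        (Finset.univ : Finset Ω).offDiag.filter fun p => g ∈ (pairStab p.1 p.2 : Subgroup G) := by
      ext p; simp [Finset.mem_offDiag, mem_fx, mem_pairStab]; tauto
    rw [this, ← Finset.sum_filter, Finset.sum_const, nsmul_eq_mul, mul_comm]
  rw [Finset.sum_congr rfl fun g _ => h1 g, Finset.sum_comm, ← nsmul_eq_mul, ← Finset.sum_const]
  refine Finset.sum_congr rfl fun p hp => ?_
  rw [← Finset.sum_filter]
  obtain ⟨a, b⟩ := p
  obtain ⟨s, rfl, rfl⟩ := h2 α β a b hab (Finset.mem_offDiag.1 hp).2.2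
  refine (Finset.sum_bij (fun h _ => s * h * s⁻¹) (fun h hh => ?_) (fun x _ y _ h => by simpa using h)
    (fun g hg => ?_) fun h _ => (hφ s h).symm).symm
  · rw [Finset.mem_filter] at hh ⊢
    exact ⟨Finset.mem_univ _, conj_mem_pairStab.2 hh.2⟩
  · rw [Finset.mem_filter] at hg
    refine ⟨s⁻¹ * g * s, ?_, by group⟩
    rw [Finset.mem_filter]
    exact ⟨Finset.mem_univ _, (conj_mem_pairStab (g := s)).1 (by simpa [mul_assoc] using hg.2)⟩

/-- the points fixed by a two point stabiliser -/
noncomputable def line (G : Type*) [Group G] [MulAction G Ω] (a b : Ω) : Finset Ω := by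
  classical exact Finset.univ.filter fun x => ∀ g ∈ (pairStab a b : Subgroup G), g • x = x

lemma mem_line {a b x : Ω} : x ∈ line G a b ↔ ∀ g ∈ (pairStab a b : Subgroup G), g • x = x := by
  simp [line]

lemma card_line_eq (h2 : TwoTrans G Ω) {a b c d : Ω} (hab : a ≠ b) (hcd : c ≠ d) :
    (line G a b).card = (line G c d).card := by
  obtain ⟨s, rfl, rfl⟩ := h2 a b c d hab hcd
  refine Finset.card_bij' (fun x _ => s • x) (fun x _ => s⁻¹ • x) (fun x hx => ?_) (fun x hx => ?_)
    (fun x _ => inv_smul_smul s x) (fun x _ => smul_inv_smul s x)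
  · rw [mem_line] at hx ⊢
    intro g hg
    have := hx (s⁻¹ * g * s) ((conj_mem_pairStab (g := s)).1 (by simpa [mul_assoc] using hg))
    rw [mul_smul, mul_smul, inv_smul_eq_iff] at this
    exact this
  · rw [mem_line] at hx ⊢
    intro g hg
    have := hx (s * g * s⁻¹) (conj_mem_pairStab.2 hg)
    rw [mul_smul, mul_smul] at this
    conv_rhs => rw [← this]
    rw [inv_smul_smul]

/-- Fixed point sets are flats, so an external point sees many lines. -/
lemma fx_mul_le (h2 : TwoTrans G Ω) {α β z : Ω} (hab : α ≠ β) {k : G} (hz : k • z ≠ z) :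
    (fx k : Finset Ω).card * ((line G α β).card - 1) ≤ Fintype.card Ω - 1 := by
  have hne : ∀ γ ∈ (fx k : Finset Ω), z ≠ γ := fun γ hγ e => hz (e ▸ mem_fx.1 hγ)
  have hcard : ∀ γ ∈ (fx k : Finset Ω), ((line G z γ).erase z).card = (line G α β).card - 1 := fun γ hγ => by
    rw [Finset.card_erase_of_mem (mem_line.2 fun g hg => (mem_pairStab.1 hg).1), card_line_eq h2 (hne γ hγ) hab]
  have hdisj : ((fx k : Finset Ω) : Set Ω).PairwiseDisjoint fun γ => (line G z γ).erase z := by
    intro γ hγ γ' hγ' hne'
    rw [Function.onFun, Finset.disjoint_left]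
    intro p hp hp'
    rw [Finset.mem_erase, mem_line] at hp hp'
    refine hz ?_
    have e1 : (pairStab z p : Subgroup G) = pairStab z γ :=
      pairStab_eq h2 (hne γ hγ) (Ne.symm hp.1) fun g hg => ⟨(mem_pairStab.1 hg).1, hp.2 g hg⟩
    have e2 : (pairStab z p : Subgroup G) = pairStab z γ' :=
      pairStab_eq h2 (hne γ' hγ') (Ne.symm hp'.1) fun g hg => ⟨(mem_pairStab.1 hg).1, hp'.2 g hg⟩
    have e3 : (pairStab γ γ' : Subgroup G) = pairStab z γ :=
      pairStab_eq h2 (hne γ hγ) hne' fun g hg => ⟨(mem_pairStab.1 hg).2, by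
        rw [← e1, e2] at hg; exact (mem_pairStab.1 hg).2⟩
    have hk : k ∈ (pairStab γ γ' : Subgroup G) := mem_pairStab.2 ⟨mem_fx.1 hγ, mem_fx.1 hγ'⟩
    rw [e3] at hk
    exact (mem_pairStab.1 hk).1
  calc (fx k : Finset Ω).card * ((line G α β).card - 1)
      = ((fx k : Finset Ω).biUnion fun γ => (line G z γ).erase z).card := by
        rw [Finset.card_biUnion hdisj, Finset.sum_congr rfl hcard, Finset.sum_const, smul_eq_mul]
    _ ≤ (Finset.univ.erase z).card := Finset.card_le_card fun x hx => by
        simp only [Finset.mem_biUnion, Finset.mem_erase] at hx ⊢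
        obtain ⟨_, _, h, -⟩ := hx
        exact ⟨h, Finset.mem_univ _⟩
    _ = Fintype.card Ω - 1 := by rw [Finset.card_erase_of_mem (Finset.mem_univ z), Finset.card_univ]

/-- the main estimate in a two point stabiliser -/
lemma sum_ratio_ge [FaithfulSMul G Ω] (h2 : TwoTrans G Ω) (hn : 7 ≤ Fintype.card Ω) {α β : Ω} (hab : α ≠ β)
    (hK : (pairStab α β : Subgroup G) ≠ ⊥) :
    (Nat.card (pairStab α β : Subgroup G) : ℚ) ≤
      ∑ k ∈ (by classical exact Finset.univ.filter fun g => g ∈ (pairStab α β : Subgroup G)),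
        ((Fintype.card Ω : ℚ) - (fx k : Finset Ω).card) / (fx k : Finset Ω).card := by
  classical
  set K : Subgroup G := pairStab α β
  set n := Fintype.card Ω
  set Kset : Finset G := Finset.univ.filter fun g => g ∈ K
  set f : G → ℕ := fun g => (fx g : Finset Ω).card
  show (Nat.card K : ℚ) ≤ ∑ k ∈ Kset, ((n : ℚ) - f k) / f k
  have hKcard : Nat.card K = Kset.card := by rw [Nat.card_eq_fintype_card, Fintype.card_subtype]
  have hf1 : f 1 = n := by simp [f, fx, n]
  have h1mem : (1 : G) ∈ Kset := by simp [Kset, K.one_mem]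
  set K' := Kset.erase 1
  have hsum : ∑ k ∈ Kset, ((n : ℚ) - f k) / f k = ∑ k ∈ K', ((n : ℚ) - f k) / f k := by
    rw [← Finset.add_sum_erase _ _ h1mem, hf1, sub_self, zero_div, zero_add]
  rw [hsum, hKcard, ← Finset.card_erase_add_one h1mem, Nat.cast_add, Nat.cast_one]
  change ((K'.card : ℚ) + 1 ≤ _)
  have hM1 : 1 ≤ K'.card := by
    rw [Finset.card_erase_of_mem h1mem, ← hKcard]
    have := (Subgroup.one_lt_card_iff_ne_bot K).2 hK
    omega
  have hfK : ∀ k ∈ K', 2 ≤ f k ∧ (∃ z : Ω, k • z ≠ z) := by
    intro k hk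
    rw [Finset.mem_erase, Finset.mem_filter] at hk
    refine ⟨?_, ?_⟩
    · have : ({α, β} : Finset Ω) ⊆ fx k := by
        intro x hx
        simp only [Finset.mem_insert, Finset.mem_singleton] at hx
        rcases hx with rfl | rfl
        · exact mem_fx.2 (mem_pairStab.1 hk.2.2).1
        · exact mem_fx.2 (mem_pairStab.1 hk.2.2).2
      calc 2 = ({α, β} : Finset Ω).card := (Finset.card_pair hab).symm
        _ ≤ _ := Finset.card_le_card this
    · by_contra hh
      push Not at hh
      exact hk.1 (eq_of_smul_eq_smul fun y : Ω => by rw [hh y, one_smul])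
  set l := (line G α β).card
  have hl2 : 2 ≤ l := by
    calc 2 = ({α, β} : Finset Ω).card := (Finset.card_pair hab).symm
      _ ≤ _ := Finset.card_le_card fun x hx => by
        simp only [Finset.mem_insert, Finset.mem_singleton] at hx
        rw [mem_line]
        intro g hg
        rcases hx with rfl | rfl
        · exact (mem_pairStab.1 hg).1
        · exact (mem_pairStab.1 hg).2
  have hflat : ∀ k ∈ K', f k * (l - 1) ≤ n - 1 := fun k hk => by
    obtain ⟨z, hz⟩ := (hfK k hk).2
    exact fx_mul_le h2 hab hz
  by_cases hl4 : 4 ≤ l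
  · have : ∀ k ∈ K', (2 : ℚ) ≤ ((n : ℚ) - f k) / f k := fun k hk => by
      have hpos : (0 : ℚ) < f k := by have := (hfK k hk).1; positivity
      rw [le_div_iff₀ hpos]
      have h3 : f k * 3 ≤ n - 1 := le_trans (Nat.mul_le_mul_left _ (by omega)) (hflat k hk)
      have : (f k : ℚ) * 3 ≤ n := by exact_mod_cast (show f k * 3 ≤ n by omega)
      linarith
    have h := Finset.card_nsmul_le_sum K' _ _ this
    rw [nsmul_eq_mul] at h
    have : (1 : ℚ) ≤ K'.card := by exact_mod_cast hM1
    linarith
  -- orbits of the two point stabiliser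
  haveI := Fintype.ofFinite (Quotient (orbitRel K Ω))
  set R := Fintype.card (Quotient (orbitRel K Ω))
  set sz : Quotient (orbitRel K Ω) → ℕ := fun q => Nat.card (MulAction.orbitRel.Quotient.orbit q)
  have hszn : ∑ q, sz q = n := by
    show ∑ q, Nat.card (MulAction.orbitRel.Quotient.orbit q) = Fintype.card Ω
    rw [← Nat.card_sigma, ← Nat.card_eq_fintype_card]
    exact (Nat.card_congr (MulAction.selfEquivSigmaOrbits' K Ω)).symm
  have hsz1 : ∀ q, 1 ≤ sz q := fun q => by
    induction q using Quotient.inductionOn' with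
    | h x => exact Finite.card_pos_iff.2 ⟨⟨x, by simp [MulAction.orbitRel.Quotient.orbit_mk]⟩⟩
  have hszmk : ∀ x : Ω, sz (Quotient.mk'' x) = Nat.card (MulAction.orbit K x) := fun x => by
    show Nat.card (MulAction.orbitRel.Quotient.orbit _) = _
    rw [MulAction.orbitRel.Quotient.orbit_mk]
  have hfixed : (Finset.univ.filter fun q => sz q = 1).card = l := by
    refine (Finset.card_bij (fun x _ => Quotient.mk'' x) (fun x hx => ?_) (fun x hx y hy he => ?_)
      fun q hq => ?_).symm
    · rw [Finset.mem_filter, hszmk]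
      refine ⟨Finset.mem_univ _, Nat.card_eq_one_iff_unique.2 ⟨⟨?_⟩, ⟨⟨x, mem_orbit_self x⟩⟩⟩⟩
      rintro ⟨_, g, rfl⟩ ⟨_, g', rfl⟩
      rw [mem_line] at hx
      exact Subtype.ext ((hx g.1 g.2).trans (hx g'.1 g'.2).symm)
    · obtain ⟨g, hg⟩ := Quotient.exact' he
      rw [mem_line] at hy
      exact hg.symm.trans (hy g.1 g.2)
    · induction q using Quotient.inductionOn' with
      | h x =>
        rw [Finset.mem_filter, hszmk] at hq
        refine ⟨x, mem_line.2 fun g hg => ?_, rfl⟩
        have := (Nat.card_eq_one_iff_unique.1 hq.2).1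
        exact congrArg Subtype.val (Subsingleton.elim
          (⟨(⟨g, hg⟩ : K) • x, mem_orbit x _⟩ : MulAction.orbit K x) ⟨x, mem_orbit_self x⟩)
  set E := ∑ q, (sz q - 2)
  have hE : n + l = 2 * R + E := by
    rw [← hfixed, ← hszn, Finset.card_filter, ← Finset.sum_add_distrib]
    have : 2 * R = ∑ _q : Quotient (orbitRel K Ω), 2 := by simp [R, mul_comm]
    rw [this, ← Finset.sum_add_distrib]
    refine Finset.sum_congr rfl fun q _ => ?_
    have := hsz1 q
    split_ifs with h <;> omega
  -- Burnside
  have hburn : ∑ k ∈ K', f k + n = R * (K'.card + 1) := by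
    rw [← hf1, Finset.sum_erase_add _ _ h1mem, Finset.card_erase_add_one h1mem, ← hKcard]
    have h := CfsgLib.Maximal.sum_natCard_fixedBy (G := K) (Ω := Ω)
    rw [Nat.card_eq_fintype_card (α := Quotient (orbitRel K Ω)), ← Nat.card_eq_fintype_card (α := K)] at h
    rw [← h]
    refine Finset.sum_bij' (fun k hk => ⟨k, (Finset.mem_filter.1 hk).2⟩) (fun k _ => k.1)
      (fun k hk => Finset.mem_univ _) (fun k _ => Finset.mem_filter.2 ⟨Finset.mem_univ _, k.2⟩)
      (fun k hk => rfl) (fun k hk => rfl) fun k hk => ?_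
    exact card_fx k
  -- Cauchy–Schwarz
  have hCS : 2 * (R : ℚ) ≤ n ∨ ((2 * (R : ℚ) - n) * (2 * K'.card + 1) ≤ n) →
      (K'.card : ℚ) + 1 ≤ ∑ k ∈ K', ((n : ℚ) - f k) / f k := by
    intro hcase
    set S : ℚ := ∑ k ∈ K', (f k : ℚ) with hS
    have hSR : S + n = R * (K'.card + 1) := by rw [hS]; exact_mod_cast hburn
    have hS0 : 0 < S := Finset.sum_pos (fun k hk => by have := (hfK k hk).1; positivity)
      (Finset.card_pos.1 hM1)
    have hsplit : ∑ k ∈ K', ((n : ℚ) - f k) / f k = n * ∑ k ∈ K', (1 : ℚ) ^ 2 / f k - K'.card := by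
      rw [Finset.mul_sum, Finset.cast_card, ← Finset.sum_sub_distrib]
      refine Finset.sum_congr rfl fun k hk => ?_
      have : (f k : ℚ) ≠ 0 := by have := (hfK k hk).1; positivity
      field_simp
    have htitu := Finset.sq_sum_div_le_sum_sq_div K' (fun _ => (1 : ℚ)) (g := fun k => (f k : ℚ))
      (fun k hk => by have := (hfK k hk).1; positivity)
    rw [Finset.sum_const, nsmul_eq_mul, mul_one, ← hS] at htitu
    rw [hsplit]
    have hn0 : (0 : ℚ) ≤ n := by positivity
    have h' : (2 * (K'.card : ℚ) + 1) * S ≤ n * K'.card ^ 2 := by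
      have hM : (1 : ℚ) ≤ K'.card := by exact_mod_cast hM1
      rw [show S = R * (K'.card + 1) - n by linarith]
      rcases hcase with h | h
      · nlinarith [mul_le_mul_of_nonneg_left h (show (0 : ℚ) ≤ (2 * K'.card + 1) * (K'.card + 1) by positivity)]
      · nlinarith [mul_le_mul_of_nonneg_right h (show (0 : ℚ) ≤ (K'.card : ℚ) + 1 by positivity)]
    have : (2 * (K'.card : ℚ) + 1) ≤ n * ((K'.card : ℚ) ^ 2 / S) := by
      rw [mul_div_assoc', le_div_iff₀ hS0]; exact h'
    have := mul_le_mul_of_nonneg_left htitu hn0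
    linarith
  by_cases hle : 2 * R ≤ n
  · exact hCS (Or.inl (by exact_mod_cast hle))
  have hszle : ∀ q, sz q - 2 ≤ E := fun q =>
    Finset.single_le_sum (f := fun q => sz q - 2) (fun q _ => Nat.zero_le _) (Finset.mem_univ q)
  obtain h0 | h1 | h2' : E = 0 ∨ E = 1 ∨ E = 2 := by omega
  · -- every orbit has length at most two
    have hK2 : Nat.card K ≤ 2 := by
      refine card_pairStab_le_two h2 hab fun γ => ?_
      have hle2 : sz (Quotient.mk'' γ) ≤ 2 := by have := hszle (Quotient.mk'' γ); omega
      rw [hszmk] at hle2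
      refine le_trans (le_of_eq ?_) hle2
      show ((pairStab α β ⊓ stabilizer G γ : Subgroup G).subgroupOf K).index = _
      rw [Subgroup.inf_subgroupOf_left, show (stabilizer G γ).subgroupOf K = stabilizer K γ from Subgroup.ext fun g => Iff.rfl,
        index_stabilizer, Nat.card_coe_set_eq]
    have hM : K'.card = 1 := by
      rw [Finset.card_erase_of_mem h1mem, ← hKcard]
      have := (Subgroup.one_lt_card_iff_ne_bot K).2 hK
      omega
    obtain ⟨k, hk⟩ := Finset.card_eq_one.1 hM
    have hkK' : k ∈ K' := hk ▸ Finset.mem_singleton_self k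
    have hfl : f k = l := by
      refine congrArg Finset.card (Finset.ext fun x => ?_)
      rw [mem_fx, mem_line]
      refine ⟨fun hx g hg => ?_, fun hx => hx k (Finset.mem_filter.1 (Finset.mem_of_mem_erase hkK')).2⟩
      rcases eq_or_ne g 1 with rfl | hg1
      · exact one_smul _ _
      · have : g ∈ K' := Finset.mem_erase.2 ⟨hg1, Finset.mem_filter.2 ⟨Finset.mem_univ _, hg⟩⟩
        rw [hk, Finset.mem_singleton] at this
        rw [this]; exact hx
    by_cases h3l : 3 * l ≤ n
    · rw [hk, Finset.sum_singleton, Finset.card_singleton, hfl, le_div_iff₀ (by positivity)]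
      have : (3 : ℚ) * l ≤ n := by exact_mod_cast h3l
      push_cast; linarith
    · exfalso
      have hn7 : n = 7 := by omega
      -- |G| = 84 is impossible
      have hKc : Nat.card K = 2 := by have := (Subgroup.one_lt_card_iff_ne_bot K).2 hK; omega
      haveI : Nonempty Ω := ⟨α⟩
      haveI htr : IsPretransitive G Ω := ⟨fun x y => by
        rcases eq_or_ne x y with rfl | hxy
        · exact ⟨1, one_smul _ _⟩
        · obtain ⟨g, hg, -⟩ := h2 x y y x hxy hxy.symm
          exact ⟨g, hg⟩⟩
      have hGa : Nat.card (stabilizer G α) = 12 := by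
        have horb : MulAction.orbit (stabilizer G α) β = {α}ᶜ := by
          ext y
          constructor
          · rintro ⟨g, rfl⟩ hy
            have hy' : (g : G) • β = α := hy
            have hga : (g : G) • α = α := g.2
            exact hab (MulAction.injective (g : G) (hga.trans hy'.symm))
          · intro hy
            obtain ⟨g, hg, hg'⟩ := h2 α β α y hab (Ne.symm hy)
            exact ⟨⟨g, hg⟩, hg'⟩
        have hidx := index_stabilizer (stabilizer G α) β
        rw [horb, Set.ncard_compl, Set.ncard_singleton, Nat.card_eq_fintype_card, show Fintype.card Ω = 7 from hn7] at hidx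
        have hmul := (stabilizer (stabilizer G α) β).card_mul_index
        rw [hidx] at hmul
        have e : Nat.card (stabilizer (stabilizer G α) β) = Nat.card K :=
          Nat.card_congr
            { toFun := fun g => ⟨g.1.1, mem_pairStab.2 ⟨g.1.2, g.2⟩⟩
              invFun := fun g => ⟨⟨g.1, (mem_pairStab.1 g.2).1⟩, (mem_pairStab.1 g.2).2⟩
              left_inv := fun g => rfl
              right_inv := fun g => rfl }
        rw [e, hKc] at hmul
        omega
      have hG : Nat.card G = 84 := by
        have h := (stabilizer G α).card_mul_index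
        rw [index_stabilizer_of_transitive G α, hGa, Nat.card_eq_fintype_card (α := Ω), show Fintype.card Ω = 7 from hn7] at h
        omega
      haveI : Fact (Nat.Prime 7) := ⟨by norm_num⟩
      obtain ⟨P⟩ := (inferInstance : Nonempty (Sylow 7 G))
      have hP : Nat.card P = 7 := by
        rw [P.card_eq_multiplicity, hG]
        have : (84 : ℕ).factorization 7 = 1 := by
          rw [show (84 : ℕ) = 7 ^ 1 * 12 by norm_num, Nat.factorization_mul (by norm_num) (by norm_num),
            Finsupp.add_apply, Nat.factorization_eq_zero_of_not_dvd (show ¬ 7 ∣ 12 by norm_num),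
            Nat.Prime.factorization_pow (by norm_num), Finsupp.single_eq_same]
        rw [this]; norm_num
      have hPn : (P : Subgroup G).Normal := by
        have h1 := card_sylow_modEq_one 7 G
        have h2 := P.card_dvd_index
        have hidx : (P : Subgroup G).index = 12 := by
          have h := (P : Subgroup G).card_mul_index
          rw [hP, hG] at h; omega
        rw [hidx] at h2
        have hle := Nat.le_of_dvd (by norm_num) h2
        have : Nat.card (Sylow 7 G) = 1 := by
          rw [Nat.ModEq] at h1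
          interval_cases (Nat.card (Sylow 7 G)) <;> simp_all
        haveI : Subsingleton (Sylow 7 G) := (Nat.card_eq_one_iff_unique.1 this).1
        exact Sylow.normal_of_subsingleton P
      haveI : IsCyclic P := isCyclic_of_prime_card hP
      -- P is transitive, so the point stabiliser embeds in its automorphism group
      have hPtr : ∀ y : Ω, ∃ x ∈ (P : Subgroup G), x • α = y := by
        have hbot : stabilizer (P : Subgroup G) α = ⊥ := by
          rw [Subgroup.eq_bot_iff_forall]
          intro x hx
          by_contra hx1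
          have hord : orderOf (x : G) = 7 := by
            rw [Subgroup.orderOf_coe]
            have := orderOf_dvd_natCard x
            rw [hP] at this
            rcases (Nat.dvd_prime (by norm_num)).1 this with h | h
            · exact absurd (orderOf_eq_one_iff.1 h) hx1
            · exact h
          have h12 := Subgroup.orderOf_dvd_natCard (stabilizer G α) (show (x : G) ∈ stabilizer G α from hx)
          rw [hord, hGa] at h12
          norm_num at h12
        have h := index_stabilizer (P : Subgroup G) α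
        rw [hbot, Subgroup.index_bot, hP] at h
        have : MulAction.orbit (P : Subgroup G) α = Set.univ :=
          Set.eq_of_subset_of_ncard_le (Set.subset_univ _) (by
            rw [Set.ncard_univ, Nat.card_eq_fintype_card, show Fintype.card Ω = 7 from hn7, ← h]) (Set.toFinite _)
        intro y
        obtain ⟨x, hx⟩ := (this ▸ Set.mem_univ y : y ∈ MulAction.orbit (P : Subgroup G) α)
        exact ⟨x, x.2, hx⟩
      let φ : stabilizer G α →* MulAut (P : Subgroup G) := (MulAut.conjNormal).comp (stabilizer G α).subtype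
      have hφ : Function.Injective φ := by
        intro g h hgh
        refine Subtype.ext (eq_of_smul_eq_smul fun y : Ω => ?_)
        obtain ⟨x, hx, rfl⟩ := hPtr y
        have e := congrArg (fun ψ : MulAut (P : Subgroup G) => ((ψ ⟨x, hx⟩ : (P : Subgroup G)) : G)) hgh
        simp only [φ, MonoidHom.comp_apply, Subgroup.coe_subtype, MulAut.conjNormal_apply] at e
        have e1 : ∀ a : G, a • α = α → a • x • α = (a * x * a⁻¹) • α := fun a ha => by
          rw [mul_smul, mul_smul, inv_smul_eq_iff.2 ha.symm]
        rw [e1 _ g.2, e1 _ h.2, e]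
      have := Subgroup.card_dvd_of_injective φ hφ
      rw [IsCyclic.card_mulAut, hP, hGa, Nat.totient_prime (by norm_num)] at this
      norm_num at this
  · -- an orbit of length three gives a three-cycle
    exfalso
    obtain ⟨q, hq⟩ : ∃ q, 3 ≤ sz q := by
      by_contra h
      push Not at h
      have : E = 0 := Finset.sum_eq_zero fun q _ => by have := h q; omega
      omega
    induction q using Quotient.inductionOn' with
    | h x =>
      have hq3 : sz (Quotient.mk'' x) = 3 := by have := hszle (Quotient.mk'' x); omega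
      have hother : ∀ y, y ∉ MulAction.orbit K x → Nat.card (MulAction.orbit K y) ≤ 2 := by
        intro y hy
        have hne : (Quotient.mk'' y : Quotient (orbitRel K Ω)) ≠ Quotient.mk'' x := fun e => hy (Quotient.exact' e)
        have hle : ∑ q ∈ ({Quotient.mk'' y, Quotient.mk'' x} : Finset (Quotient (orbitRel K Ω))), (sz q - 2) ≤ E :=
          Finset.sum_le_sum_of_subset (Finset.subset_univ _)
        rw [Finset.sum_pair hne, hq3] at hle
        rw [← hszmk]; omega
      rw [hszmk] at hq3
      have hdvd : 3 ∣ Nat.card K := by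
        have h := (stabilizer K x).index_dvd_card
        rwa [index_stabilizer, ← Nat.card_coe_set_eq, hq3] at h
      haveI : Fact (Nat.Prime 3) := ⟨Nat.prime_three⟩
      obtain ⟨k, hk⟩ := exists_prime_orderOf_dvd_card' (G := K) 3 hdvd
      set σ : Equiv.Perm Ω := MulAction.toPermHom G Ω k.1
      have hσord : orderOf σ = 3 := by
        rw [orderOf_injective (MulAction.toPermHom G Ω) MulAction.toPerm_injective, Subgroup.orderOf_coe, hk]
      have hsupp : σ.support.card ≤ 3 := by
        calc σ.support.card ≤ (MulAction.orbit K x).toFinset.card := Finset.card_le_card fun y hy => by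
              rw [Set.mem_toFinset]
              by_contra hyo
              rw [Equiv.Perm.mem_support] at hy
              apply hy
              have hidx : (stabilizer K y).index ≤ 2 := by
                rw [index_stabilizer, ← Nat.card_coe_set_eq]; exact hother y hyo
              have hksq : k * k ∈ stabilizer K y := by
                rcases Nat.lt_or_ge (stabilizer K y).index 2 with h | h
                · have : (stabilizer K y).index = 1 := by
                    have := (stabilizer K y).index_ne_zero_of_finite; omega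
                  rw [Subgroup.index_eq_one.1 this]; trivial
                · exact Subgroup.mul_self_mem_of_index_two (le_antisymm hidx h) k
              have hk3 : k * k * k = 1 := by
                rw [← pow_two, ← pow_succ, show (2 + 1 : ℕ) = orderOf k from hk.symm]; exact pow_orderOf_eq_one k
              have hk4 : k = k * k * (k * k) := by rw [← mul_assoc (k * k), hk3, one_mul]
              have hmem : k ∈ stabilizer K y := hk4 ▸ Subgroup.mul_mem _ hksq hksq
              exact hmem
          _ = 3 := by rw [Set.toFinset_card, ← Nat.card_eq_fintype_card, hq3]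
      have hcyc : σ.IsThreeCycle := by
        obtain ⟨m, hm⟩ := Equiv.Perm.cycleType_prime_order (σ := σ) (by rw [hσord]; exact Nat.prime_three)
        have hs := Equiv.Perm.sum_cycleType σ
        rw [hm, hσord, Multiset.sum_replicate, smul_eq_mul] at hs
        have hm0 : m = 0 := by omega
        show σ.cycleType = {3}
        rw [hm, hm0, hσord]
        rfl
      have hprim : IsPreprimitive (MulAction.toPermHom G Ω).range Ω := by
        set H := (MulAction.toPermHom G Ω).range
        haveI : IsMultiplyPretransitive H Ω 2 := by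
          rw [MulAction.is_two_pretransitive_iff]
          intro a b c d hab' hcd'
          obtain ⟨g, hg, hg'⟩ := h2 a b c d hab' hcd'
          exact ⟨⟨MulAction.toPermHom G Ω g, g, rfl⟩, hg, hg'⟩
        exact MulAction.isPreprimitive_of_is_two_pretransitive inferInstance
      have hAlt := Equiv.Perm.alternatingGroup_le_of_isPreprimitive_of_isThreeCycle_mem hprim hcyc ⟨k.1, rfl⟩
      -- the two point stabiliser is then transitive on the other points
      have hsub : (Finset.univ \ {α, β} : Finset Ω) ⊆ (MulAction.orbit K x).toFinset := by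
        have hxab : x ≠ α ∧ x ≠ β := by
          constructor <;> rintro rfl <;>
          · have hsub : Subsingleton (MulAction.orbit K x) := ⟨fun p q => by
              obtain ⟨_, g, rfl⟩ := p
              obtain ⟨_, g', rfl⟩ := q
              refine Subtype.ext ?_
              first
                | exact ((mem_pairStab.1 g.2).1).trans ((mem_pairStab.1 g'.2).1).symm
                | exact ((mem_pairStab.1 g.2).2).trans ((mem_pairStab.1 g'.2).2).symm⟩
            rw [Nat.card_eq_one_iff_unique.2 ⟨hsub, ⟨⟨x, mem_orbit_self x⟩⟩⟩] at hq3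
            omega
        intro δ hδ
        simp only [Finset.mem_sdiff, Finset.mem_insert, Finset.mem_singleton, not_or] at hδ
        rw [Set.mem_toFinset]
        rcases eq_or_ne δ x with rfl | hδx
        · exact mem_orbit_self _
        obtain ⟨ε, hε⟩ : ∃ ε, ε ∉ ({α, β, x, δ} : Finset Ω) := by
          by_contra h
          push Not at h
          have : Fintype.card Ω ≤ 4 := by
            rw [← Finset.card_univ]
            exact (Finset.card_le_card fun y _ => h y).trans Finset.card_le_four
          omega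
        simp only [Finset.mem_insert, Finset.mem_singleton, not_or] at hε
        set τ := Equiv.swap x δ * Equiv.swap δ ε
        have hτ : τ ∈ alternatingGroup Ω := by
          rw [Equiv.Perm.mem_alternatingGroup, Equiv.Perm.sign_mul, Equiv.Perm.sign_swap (Ne.symm hδx),
            Equiv.Perm.sign_swap (Ne.symm hε.2.2.2)]
          norm_num
        obtain ⟨g, hg⟩ := hAlt hτ
        have hgv : ∀ y, g • y = τ y := fun y => congrArg (fun p : Equiv.Perm Ω => p y) hg
        have hgK : g ∈ K := mem_pairStab.2 ⟨by
            rw [hgv]; simp [τ, Equiv.swap_apply_of_ne_of_ne (Ne.symm hδ.2.1) (Ne.symm hε.1), Equiv.swap_apply_of_ne_of_ne hxab.1.symm (Ne.symm hδ.2.1)], by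
            rw [hgv]; simp [τ, Equiv.swap_apply_of_ne_of_ne (Ne.symm hδ.2.2) (Ne.symm hε.2.1), Equiv.swap_apply_of_ne_of_ne hxab.2.symm (Ne.symm hδ.2.2)]⟩
        refine ⟨⟨g, hgK⟩, ?_⟩
        show g • x = δ
        rw [hgv]
        simp [τ, Equiv.swap_apply_of_ne_of_ne (Ne.symm hδx) (Ne.symm hε.2.2.1)]
      have := Finset.card_le_card hsub
      rw [Set.toFinset_card, ← Nat.card_eq_fintype_card, hq3, Finset.card_sdiff_of_subset (Finset.subset_univ _),
        Finset.card_univ, Finset.card_pair hab] at this
      omega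
  · have hl3 : l = 3 := by omega
    have hdiff : 2 * (R : ℚ) - n = 1 := by
      have : 2 * R = n + 1 := by omega
      have : (2 : ℚ) * R = n + 1 := by exact_mod_cast this
      linarith
    by_cases hM2 : 2 * K'.card + 1 ≤ n
    · refine hCS (Or.inr ?_)
      rw [hdiff, one_mul]
      exact_mod_cast hM2
    · have hterm : ∀ k ∈ K', 1 + 1 / (K'.card : ℚ) ≤ ((n : ℚ) - f k) / f k := fun k hk => by
        have h2f := hflat k hk
        rw [hl3] at h2f
        have hfle : f k ≤ K'.card := by omega
        have hpos : (0 : ℚ) < f k := by have := (hfK k hk).1; positivity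
        have h3 : (f k : ℚ) * 2 + 1 ≤ n := by exact_mod_cast (show f k * 2 + 1 ≤ n by omega)
        calc 1 + 1 / (K'.card : ℚ) ≤ 1 + 1 / (f k : ℚ) := by
              gcongr
          _ ≤ _ := by
              rw [le_div_iff₀ hpos, add_mul, one_mul, div_mul_cancel₀ _ hpos.ne']
              linarith
      have h := Finset.card_nsmul_le_sum K' _ _ hterm
      rw [nsmul_eq_mul, mul_add, mul_one, mul_one_div, div_self (by positivity)] at h
      exact h

theorem derangement_two [FaithfulSMul G Ω] (htr : IsPretransitive G Ω) (hn : 7 ≤ Fintype.card Ω) :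
    ((∃ g : G, g ≠ 1 ∧ ∃ ω : Ω, g • ω = ω) ∧ (∀ g : G, g ≠ 1 → Nat.card (fixedBy Ω g) ≤ 1) ∧
      Nat.card G = Fintype.card Ω * (Fintype.card Ω - 1) ∧
      Fintype.card Ω * Nat.card {g : G // ∀ ω : Ω, g • ω ≠ ω} = Nat.card G) ∨
    2 * Nat.card G ≤ Fintype.card Ω * Nat.card {g : G // ∀ ω : Ω, g • ω ≠ ω} := by
  haveI : Nontrivial Ω := Fintype.one_lt_card_iff_nontrivial.1 (by omega)
  have hid := CfsgLib.Maximal.derangement_identity (G := G) (Ω := Ω) htr
  have hrank := CfsgLib.Maximal.two_le_rank (G := G) (Ω := Ω)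
  set r := Nat.card (Quotient (orbitRel G (Ω × Ω)))
  set D := Nat.card {g : G // ∀ ω : Ω, g • ω ≠ ω}
  set n := Fintype.card Ω
  rw [Nat.card_eq_fintype_card (α := Ω)] at hid
  set T : G → ℤ := fun g => if Nat.card (fixedBy Ω g) = 0 then (0 : ℤ)
      else ((Nat.card (fixedBy Ω g) : ℤ) - 1) * ((n : ℤ) - Nat.card (fixedBy Ω g))
  have hle : ∀ g : G, Nat.card (fixedBy Ω g) ≤ n := fun g => by
    rw [← card_fx]; exact Finset.card_le_univ _
  have hnn : ∀ g : G, 0 ≤ T g := by
    intro g; simp only [T]
    split_ifs with h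
    · exact le_rfl
    · apply mul_nonneg <;> [skip; skip] <;> (have := hle g; omega)
  by_cases hr3 : 3 ≤ r
  · refine Or.inr ?_
    have hs : 0 ≤ ∑ g, T g := Finset.sum_nonneg fun g _ => hnn g
    have h1 : (3 : ℤ) ≤ r := by exact_mod_cast hr3
    have h2 : (0 : ℤ) ≤ Nat.card G := by positivity
    have : (2 : ℤ) * Nat.card G ≤ (n : ℤ) * D := by rw [hid]; nlinarith
    exact_mod_cast this
  have hr2 : r = 2 := by omega
  have h2 : TwoTrans G Ω := by
    intro a b c d hab hcd
    by_contra hcon
    have key : 2 < r := by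
      classical
      haveI := Fintype.ofFinite (Quotient (orbitRel G (Ω × Ω)))
      show 2 < Nat.card _
      rw [Nat.card_eq_fintype_card, ← Finset.card_univ]
      have h1 : (Quotient.mk'' (a, a) : Quotient (orbitRel G (Ω × Ω))) ≠ Quotient.mk'' (a, b) := fun h => by
        obtain ⟨g, hg⟩ := Quotient.exact' h
        exact hab (MulAction.injective g ((congrArg Prod.fst hg).trans (congrArg Prod.snd hg).symm))
      have h2 : (Quotient.mk'' (a, a) : Quotient (orbitRel G (Ω × Ω))) ≠ Quotient.mk'' (c, d) := fun h => by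
        obtain ⟨g, hg⟩ := Quotient.exact' h
        exact hcd (MulAction.injective g ((congrArg Prod.fst hg).trans (congrArg Prod.snd hg).symm))
      have h3 : (Quotient.mk'' (a, b) : Quotient (orbitRel G (Ω × Ω))) ≠ Quotient.mk'' (c, d) := fun h => by
        obtain ⟨g, hg⟩ := Quotient.exact' h
        refine hcon ⟨g⁻¹, ?_, ?_⟩
        · rw [inv_smul_eq_iff]; exact (congrArg Prod.fst hg).symm
        · rw [inv_smul_eq_iff]; exact (congrArg Prod.snd hg).symm
      refine lt_of_lt_of_le ?_ (Finset.card_le_card (Finset.subset_univ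
        ({Quotient.mk'' (a, a), Quotient.mk'' (a, b), Quotient.mk'' (c, d)} : Finset (Quotient (orbitRel G (Ω × Ω))))))
      simp [h1, h2, h3]
    omega
  obtain ⟨α, β, hab⟩ := exists_pair_ne Ω
  classical
  set f : G → ℕ := fun g => (fx g : Finset Ω).card
  have hoff : ∀ g : G, ((fx g : Finset Ω).offDiag.card : ℚ) = (f g : ℚ) * f g - f g := fun g => by
    rw [Finset.offDiag_card, Nat.cast_sub (Nat.le_mul_self _), Nat.cast_mul]
  set P : ℚ := (((Finset.univ : Finset Ω).offDiag.card : ℕ) : ℚ)
  have hord : (Nat.card G : ℚ) = P * Nat.card (pairStab α β : Subgroup G) := by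
    have h := sum_pairs h2 (fun _ => (1 : ℚ)) (fun _ _ => rfl) hab
    simp only [one_mul] at h
    rw [Finset.sum_const, nsmul_eq_mul, mul_one] at h
    rw [Nat.card_eq_fintype_card (α := (pairStab α β : Subgroup G)), Fintype.card_subtype, ← h,
      Finset.sum_congr rfl fun g _ => hoff g, Finset.sum_sub_distrib]
    have e1 : ∑ g : G, (f g : ℚ) = Nat.card G := by
      rw [Nat.card_eq_fintype_card]
      exact_mod_cast (Finset.sum_congr rfl fun g _ => card_fx g).trans
        (CfsgLib.Maximal.sum_natCard_fixedBy_of_transitive (Ω := Ω) htr)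
    have e2 : ∑ g : G, (f g : ℚ) * f g = 2 * Nat.card G := by
      rw [Nat.card_eq_fintype_card]
      have h' := CfsgLib.Maximal.sum_sq_natCard_fixedBy (G := G) (Ω := Ω)
      rw [show Nat.card (Quotient (orbitRel G (Ω × Ω))) = 2 from hr2] at h'
      have : ∑ g : G, f g * f g = 2 * Fintype.card G := by
        rw [← h']; exact Finset.sum_congr rfl fun g _ => by simp only [f, card_fx, pow_two]
      exact_mod_cast this
    rw [e1, e2]; ring
  have hT : ((∑ g, T g : ℤ) : ℚ) = P * ∑ k ∈ Finset.univ.filter (fun g => g ∈ (pairStab α β : Subgroup G)),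
      ((n : ℚ) - f k) / f k := by
    rw [← sum_pairs h2 (fun g => ((n : ℚ) - f g) / f g) (fun s g => by simp only [f, card_fx_conj]) hab,
      Int.cast_sum]
    refine Finset.sum_congr rfl fun g _ => ?_
    rw [hoff]
    have hc : (fx g : Finset Ω).card = Nat.card (fixedBy Ω g) := card_fx g
    simp only [T, f]
    rw [hc]
    split_ifs with h
    · rw [h]; simp
    · have : (Nat.card (fixedBy Ω g) : ℚ) ≠ 0 := by exact_mod_cast h
      push_cast
      field_simp
  by_cases hK : (pairStab α β : Subgroup G) = ⊥
  · refine Or.inl ?_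
    have hfix : ∀ g : G, g ≠ 1 → Nat.card (fixedBy Ω g) ≤ 1 := by
      intro g hg
      rw [← card_fx, Finset.card_le_one]
      intro a ha b hb
      by_contra hne
      obtain ⟨s, hs, hs'⟩ := h2 α β a b hab hne
      have : s⁻¹ * g * s ∈ (pairStab α β : Subgroup G) := (conj_mem_pairStab (g := s)).1 (by
        rw [hs, hs', show s * (s⁻¹ * g * s) * s⁻¹ = g by group]
        exact mem_pairStab.2 ⟨mem_fx.1 ha, mem_fx.1 hb⟩)
      rw [hK, Subgroup.mem_bot, mul_assoc, inv_mul_eq_one, eq_comm, mul_eq_right] at this
      exact hg this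
    have hP : P = (n * (n - 1) : ℕ) := by
      simp only [P, Finset.offDiag_card, Finset.card_univ, n, Nat.mul_sub_one]
    have hGc : Nat.card G = n * (n - 1) := by
      rw [hK, Subgroup.card_bot, Nat.cast_one, mul_one, hP] at hord
      exact_mod_cast hord
    refine ⟨?_, hfix, hGc, ?_⟩
    · haveI := htr
      have hidx := (stabilizer G α).card_mul_index
      rw [index_stabilizer_of_transitive G α, Nat.card_eq_fintype_card (α := Ω), hGc, mul_comm n] at hidx
      have h1 : Nat.card (stabilizer G α) = n - 1 := Nat.eq_of_mul_eq_mul_right (by omega) hidx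
      haveI : Nontrivial (stabilizer G α) := Finite.one_lt_card_iff_nontrivial.1 (by omega)
      obtain ⟨g, hg⟩ := exists_ne (1 : stabilizer G α)
      exact ⟨g.1, fun h => hg (Subtype.ext h), α, g.2⟩
    · have hz : ∑ g, T g = 0 := Finset.sum_eq_zero fun g _ => by
        simp only [T]
        rcases eq_or_ne g 1 with rfl | hg
        · split_ifs
          · rfl
          · rw [← card_fx, show (fx (1 : G) : Finset Ω) = Finset.univ by simp [fx], Finset.card_univ, sub_self, mul_zero]
        · have := hfix g hg
          split_ifs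
          · rfl
          · rw [show Nat.card (fixedBy Ω g) = 1 by omega]; simp
      have : (n : ℤ) * D = Nat.card G := by rw [hid, hr2]; change _ + ∑ g, T g = _; rw [hz]; push_cast; ring
      exact_mod_cast this
  · refine Or.inr ?_
    have hmain := sum_ratio_ge h2 hn hab hK
    have hP0 : 0 ≤ P := by positivity
    have h : ((2 * Nat.card G : ℕ) : ℚ) ≤ ((n * D : ℕ) : ℚ) := by
      have hid' : ((n : ℤ) : ℚ) * ((D : ℤ) : ℚ) =
          ((2 : ℚ) - 1) * (Nat.card G : ℚ) + ((∑ g, T g : ℤ) : ℚ) := by
        have h' : (n : ℤ) * D = ((2 : ℤ) - 1) * Nat.card G + ∑ g, T g := by rw [hid, hr2]; rfl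
        have := congrArg (fun z : ℤ => (z : ℚ)) h'
        push_cast at this ⊢
        linarith
      push_cast at hid' ⊢
      have := mul_le_mul_of_nonneg_left hmain hP0
      rw [← hord, ← hT] at this
      push_cast at this
      linarith
    exact_mod_cast h

end Count

end CfsgLib.Maximal.DerangementTwo
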