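import Mathlib

set_option autoImplicit false

open Pointwise

namespace CfsgLib.Maximal

variable {G : Type*} [Group G]

/-- Lattice complement from a complemented interval below a unique maximal overgroup. -/
theorem exists_compl_of_interval [Finite G] (T X M : Subgroup G) (hTX : T ≤ X)
    (hint : ∀ Y : Subgroup G, T ≤ Y → Y ≤ X → ∃ C : Subgroup G, T ≤ C ∧ C ≤ X ∧ Y ⊔ C = X ∧ Y ⊓ C = T)
    (huniq : ∀ M' : Subgroup G, IsCoatom M' → X ≤ M' → M' = M)
    (H : Subgroup G) (hH : ¬ H ≤ M) (hHT : H ⊓ T = ⊥) :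
    ∃ C : Subgroup G, H ⊔ C = ⊤ ∧ H ⊓ C = ⊥ := by
  obtain ⟨C, hTC, hCX, hsup, hinf⟩ := hint ((H ⊓ X) ⊔ T) le_sup_right (sup_le inf_le_right hTX)
  refine ⟨C, ?_, ?_⟩
  · rcases eq_top_or_exists_le_coatom (H ⊔ C) with h | ⟨M', hM', hle⟩
    · exact h
    · have hX : X ≤ H ⊔ C := by
        rw [← hsup]
        exact sup_le (sup_le (inf_le_left.trans le_sup_left) (hTC.trans le_sup_right)) le_sup_right
      exact absurd (le_sup_left.trans (hle.trans (huniq M' hM' (hX.trans hle)).le)) hH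
  · refine le_bot_iff.1 (hHT ▸ le_inf inf_le_left ?_)
    rw [← hinf]
    exact le_inf ((le_inf inf_le_left (inf_le_right.trans hCX)).trans le_sup_left) inf_le_right

/-- Having a lattice complement is invariant under conjugation. -/
theorem exists_compl_of_map (e : G ≃* G) (H : Subgroup G)
    (h : ∃ C : Subgroup G, H.map e.toMonoidHom ⊔ C = ⊤ ∧ H.map e.toMonoidHom ⊓ C = ⊥) :
    ∃ C : Subgroup G, H ⊔ C = ⊤ ∧ H ⊓ C = ⊥ := by
  obtain ⟨C, h1, h2⟩ := h
  have hmap : (H.map e.toMonoidHom).map e.symm.toMonoidHom = H := by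
    rw [Subgroup.map_map]; ext x; simp
  refine ⟨C.map e.symm.toMonoidHom, ?_, ?_⟩
  · have := congrArg (Subgroup.map e.symm.toMonoidHom) h1
    rw [Subgroup.map_sup, hmap] at this
    rw [this, ← MonoidHom.range_eq_map, MonoidHom.range_eq_top]
    exact e.symm.surjective
  · have := congrArg (Subgroup.map e.symm.toMonoidHom) h2
    rw [Subgroup.map_inf _ _ _ e.symm.injective, hmap, Subgroup.map_bot] at this
    exact this

/-- The interval above the kernel of a surjection is complemented if the image lattice is. -/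
theorem interval_of_quotient (N X : Subgroup G) (hNX : N ≤ X) [(N.subgroupOf X).Normal]
    (hK : ComplementedLattice (Subgroup (X ⧸ N.subgroupOf X))) :
    ∀ Y : Subgroup G, N ≤ Y → Y ≤ X → ∃ C : Subgroup G, N ≤ C ∧ C ≤ X ∧ Y ⊔ C = X ∧ Y ⊓ C = N := by
  intro Y hNY hYX
  set π := QuotientGroup.mk' (N.subgroupOf X) with hπ
  have hker : π.ker = N.subgroupOf X := QuotientGroup.ker_mk' _
  have hsurj : Function.Surjective π := QuotientGroup.mk'_surjective _
  obtain ⟨C', hC'⟩ := hK.exists_isCompl ((Y.subgroupOf X).map π)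
  have hYle : N.subgroupOf X ≤ Y.subgroupOf X := fun x hx => hNY hx
  have hYc : ((Y.subgroupOf X).map π).comap π = Y.subgroupOf X := by
    rw [Subgroup.comap_map_eq, hker, sup_eq_left.2 hYle]
  have hCle : N.subgroupOf X ≤ C'.comap π := fun x hx => π.ker_le_comap _ (hker.ge hx)
  have hs : Y.subgroupOf X ⊔ C'.comap π = ⊤ := by
    rw [← hYc, Subgroup.comap_sup_eq π _ _ hsurj, hC'.sup_eq_top, Subgroup.comap_top]
  have hi : Y.subgroupOf X ⊓ C'.comap π = N.subgroupOf X := by
    rw [← hYc, ← Subgroup.comap_inf, hC'.inf_eq_bot, MonoidHom.comap_bot, hker]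
  have hYm : (Y.subgroupOf X).map X.subtype = Y := Subgroup.map_subgroupOf_eq_of_le hYX
  have hNm : (N.subgroupOf X).map X.subtype = N := Subgroup.map_subgroupOf_eq_of_le hNX
  refine ⟨(C'.comap π).map X.subtype, ?_, Subgroup.map_subtype_le _, ?_, ?_⟩
  · conv_lhs => rw [← hNm]
    exact Subgroup.map_mono hCle
  · conv_lhs => rw [← hYm]
    rw [← Subgroup.map_sup, hs, ← MonoidHom.range_eq_map, Subgroup.range_subtype]
  · conv_lhs => rw [← hYm]
    rw [← Subgroup.map_inf _ _ _ X.subtype_injective, hi, hNm]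

end CfsgLib.Maximal
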