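import Mathlib

/-!
# Babai's bound on the minimal degree of a primitive group

A nontrivial element of a primitive group not containing the alternating group moves at least
`(√n - 1)/2` points (distinguishing sets, classification free).
-/

set_option autoImplicit false

namespace CfsgLib.Maximal.MinDeg

open MulAction Finset Classical
open scoped Pointwise

variable {G Ω : Type*} [Group G] [MulAction G Ω] [Fintype Ω]

/-- `z` sees `x` and `y` in the same colour. -/
def Same (G : Type*) [Group G] [MulAction G Ω] (x y z : Ω) : Prop := ∃ h : G, h • x = y ∧ h • z = z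

/-- The distinguishing set of two points. -/
noncomputable def D (G : Type*) [Group G] [MulAction G Ω] (x y : Ω) : Finset Ω :=
  univ.filter fun z => ¬ Same G x y z

/-- The number of points moved. -/
noncomputable def moved (Ω : Type*) [Fintype Ω] [MulAction G Ω] (g : G) : ℕ :=
  #(univ.filter fun z : Ω => g • z ≠ z)

/-- The orbital of `(a, b)`. -/
def InO (G : Type*) [Group G] [MulAction G Ω] (a b x y : Ω) : Prop := ∃ h : G, h • a = x ∧ h • b = y

/-- The suborbit. -/
noncomputable def Sub (G : Type*) [Group G] [MulAction G Ω] (a b x : Ω) : Finset Ω :=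
  univ.filter fun y => InO G a b x y

omit [Fintype Ω] in
lemma inO_smul {a b x y : Ω} (k : G) (h : InO G a b x y) : InO G a b (k • x) (k • y) := by
  obtain ⟨u, h1, h2⟩ := h
  exact ⟨k * u, by rw [mul_smul, h1], by rw [mul_smul, h2]⟩

omit [Fintype Ω] in
lemma inO_smul_iff {a b x y : Ω} (k : G) : InO G a b (k • x) (k • y) ↔ InO G a b x y :=
  ⟨fun h => by simpa using inO_smul k⁻¹ h, inO_smul k⟩

omit [Fintype Ω] in
lemma same_smul {x y z : Ω} (k : G) (h : Same G x y z) : Same G (k • x) (k • y) (k • z) := by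
  obtain ⟨u, h1, h2⟩ := h
  refine ⟨k * u * k⁻¹, ?_, ?_⟩ <;> simp [mul_smul, h1, h2]

omit [Fintype Ω] in
lemma same_symm {x y z : Ω} (h : Same G x y z) : Same G y x z := by
  obtain ⟨u, h1, h2⟩ := h
  exact ⟨u⁻¹, by rw [← h1, inv_smul_smul], by rw [inv_smul_eq_iff, h2]⟩

omit [Fintype Ω] in
lemma same_trans {x y w z : Ω} (h : Same G x y z) (h' : Same G y w z) : Same G x w z := by
  obtain ⟨u, h1, h2⟩ := h
  obtain ⟨v, h3, h4⟩ := h'
  exact ⟨v * u, by rw [mul_smul, h1, h3], by rw [mul_smul, h2, h4]⟩

lemma card_D_smul_le (x y : Ω) (k : G) : #(D G (k • x) (k • y)) ≤ #(D G x y) := by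
  refine card_le_card_of_injOn (fun z => k⁻¹ • z) ?_ (fun a _ b _ h => smul_left_cancel k⁻¹ h)
  intro z hz
  simp only [D, coe_filter, mem_univ, true_and, Set.mem_setOf_eq] at hz ⊢
  exact fun h => hz (by simpa using same_smul k h)

lemma D_comm (x y : Ω) : D G x y = D G y x :=
  filter_congr fun _ _ => not_congr ⟨same_symm, same_symm⟩

lemma D_subset_union (x y w : Ω) : D G x w ⊆ D G x y ∪ D G y w := by
  intro z hz
  simp only [D, mem_filter, mem_univ, true_and, mem_union] at hz ⊢
  by_contra h
  push Not at h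
  exact hz (same_trans h.1 h.2)

/-- The undirected orbital graph of `(p, q)`. -/
def gr (G : Type*) [Group G] [MulAction G Ω] (p q : Ω) : SimpleGraph Ω :=
  SimpleGraph.fromRel (InO G p q)

omit [Fintype Ω] in
lemma gr_adj_smul {p q x y : Ω} (k : G) (h : (gr G p q).Adj x y) : (gr G p q).Adj (k • x) (k • y) := by
  rw [gr, SimpleGraph.fromRel_adj] at h ⊢
  exact ⟨fun e => h.1 (smul_left_cancel k e), h.2.imp (inO_smul k) (inO_smul k)⟩

omit [Fintype Ω] in
lemma gr_reachable_smul {p q x y : Ω} (k : G) (h : (gr G p q).Reachable x y) :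
    (gr G p q).Reachable (k • x) (k • y) :=
  h.map (⟨(k • ·), fun h => gr_adj_smul k h⟩ : gr G p q →g gr G p q)

omit [Fintype Ω] in
lemma gr_connected [IsPreprimitive G Ω] {p q : Ω} (hpq : p ≠ q) : (gr G p q).Connected := by
  set B : Set Ω := {y | (gr G p q).Reachable p y} with hB
  have hpq' : (gr G p q).Adj p q := by
    rw [gr, SimpleGraph.fromRel_adj]
    exact ⟨hpq, Or.inl ⟨1, one_smul _ _, one_smul _ _⟩⟩
  have hblock : IsBlock G B := by
    have himg : ∀ k : G, ∀ y, y ∈ k • B ↔ (gr G p q).Reachable (k • p) y := by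
      intro k y
      rw [Set.mem_smul_set_iff_inv_smul_mem]
      exact ⟨fun h => by simpa using gr_reachable_smul k h, fun h => by simpa [hB] using gr_reachable_smul k⁻¹ h⟩
    intro g₁ g₂ hne
    rw [Set.disjoint_left]
    intro y h1 h2
    refine hne (Set.ext fun z => ?_)
    rw [himg] at h1 h2
    rw [himg, himg]
    exact ⟨fun h => (h2.trans h1.symm).trans h, fun h => (h1.trans h2.symm).trans h⟩
  rcases IsPreprimitive.isTrivialBlock_of_isBlock hblock with h | h
  · exact absurd (h (SimpleGraph.Reachable.refl p) hpq'.reachable) hpq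
  · have hr : ∀ y, (gr G p q).Reachable p y := fun y => (h ▸ Set.mem_univ y : y ∈ B)
    exact { preconnected := fun x y => (hr x).symm.trans (hr y), nonempty := ⟨p⟩ }

omit [Fintype Ω] in
lemma gr_dist_smul {p q : Ω} (hc : (gr G p q).Connected) (k : G) (x y : Ω) :
    (gr G p q).dist (k • x) (k • y) = (gr G p q).dist x y := by
  have key : ∀ (k : G) (x y : Ω), (gr G p q).dist (k • x) (k • y) ≤ (gr G p q).dist x y := by
    intro k x y
    obtain ⟨w, hw⟩ := hc.exists_walk_length_eq_dist x y
    have := SimpleGraph.dist_le (w.map (⟨(k • ·), fun h => gr_adj_smul k h⟩ : gr G p q →g gr G p q))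
    simpa [hw] using this
  exact le_antisymm (key k x y) (by simpa using key k⁻¹ (k • x) (k • y))

omit [Fintype Ω] in
lemma geodesic_dist {Γ : SimpleGraph Ω} (hc : Γ.Connected) {x y : Ω} (w : Γ.Walk x y)
    (hw : w.length = Γ.dist x y) {i : ℕ} (hi : i ≤ w.length) :
    Γ.dist x (w.getVert i) = i ∧ Γ.dist (w.getVert i) y = w.length - i := by
  have h1 : Γ.dist x (w.getVert i) ≤ i := le_trans (SimpleGraph.dist_le (w.take i)) (by simp)
  have h2 : Γ.dist (w.getVert i) y ≤ w.length - i := le_trans (SimpleGraph.dist_le (w.drop i)) (by simp)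
  have h3 : Γ.dist x y ≤ Γ.dist x (w.getVert i) + Γ.dist (w.getVert i) y := hc.dist_triangle
  omega

section
variable {g : G} {x₀ : Ω}

lemma card_D_le_moved (x₀ : Ω) (g : G) : #(D G x₀ (g • x₀)) ≤ moved Ω g := by
  refine card_le_card fun z hz => ?_
  simp only [D, mem_filter, mem_univ, true_and] at hz ⊢
  exact fun h => hz ⟨g, rfl, h⟩

lemma card_D_adj {x y : Ω} (h : (gr G x₀ (g • x₀)).Adj x y) : #(D G x y) ≤ moved Ω g := by
  rw [gr, SimpleGraph.fromRel_adj] at h
  rcases h.2 with ⟨k, h1, h2⟩ | ⟨k, h1, h2⟩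
  · rw [← h1, ← h2]
    exact (card_D_smul_le _ _ k).trans (card_D_le_moved _ _)
  · rw [← h1, ← h2, D_comm]
    exact (card_D_smul_le _ _ k).trans (card_D_le_moved _ _)

lemma card_D_walk {x y : Ω} (w : (gr G x₀ (g • x₀)).Walk x y) :
    #(D G x y) ≤ w.length * moved Ω g := by
  induction w with
  | nil =>
    rw [SimpleGraph.Walk.length_nil, zero_mul, Nat.le_zero, card_eq_zero, D, filter_eq_empty_iff]
    exact fun z _ => not_not.mpr ⟨1, one_smul _ _, one_smul _ _⟩
  | @cons u v t h w ih =>
    calc #(D G u t) ≤ #(D G u v ∪ D G v t) := card_le_card (D_subset_union u v t)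
      _ ≤ #(D G u v) + #(D G v t) := card_union_le _ _
      _ ≤ moved Ω g + w.length * moved Ω g := Nat.add_le_add (card_D_adj h) ih
      _ = _ := by rw [SimpleGraph.Walk.length_cons]; ring

lemma dist_lt_moved [IsPreprimitive G Ω] (hx : g • x₀ ≠ x₀) (x y : Ω) :
    (gr G x₀ (g • x₀)).dist x y < max (moved Ω g) 1 := by
  set Γ := gr G x₀ (g • x₀) with hΓ
  have hc : Γ.Connected := gr_connected (Ne.symm hx)
  obtain ⟨w, hw⟩ := hc.exists_walk_length_eq_dist x y
  rcases Nat.eq_zero_or_pos w.length with h0 | hpos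
  · omega
  have hadj : Γ.Adj x (w.getVert 1) := by simpa using w.adj_getVert_succ hpos
  have hsub : (range (w.length + 1)).image w.getVert ⊆ D G x (w.getVert 1) := by
    intro z hz
    obtain ⟨i, hi, rfl⟩ := mem_image.mp hz
    rw [mem_range] at hi
    have hi' : i ≤ w.length := by omega
    simp only [D, mem_filter, mem_univ, true_and]
    rintro ⟨k, h1, h2⟩
    have hd : Γ.dist (k • x) (k • w.getVert i) = Γ.dist x (w.getVert i) := gr_dist_smul hc k x (w.getVert i)
    rw [h1, h2, (geodesic_dist hc w hw hi').1] at hd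
    rcases Nat.eq_zero_or_pos i with rfl | hipos
    · rw [SimpleGraph.Walk.getVert_zero, hc.dist_eq_zero_iff] at hd
      exact hadj.ne hd.symm
    · have h3 : Γ.dist (w.getVert 1) y ≤ w.length - 1 :=
        le_trans (SimpleGraph.dist_le (w.drop 1)) (by simp)
      have h4 := (geodesic_dist hc w hw hi').2
      have h5 := (geodesic_dist hc w hw hi').1
      have h6 : Γ.dist x y ≤ Γ.dist x (w.getVert i) + Γ.dist (w.getVert i) y := hc.dist_triangle
      -- the part of the geodesic after the first step
      have h7 : Γ.dist (w.getVert 1) (w.getVert i) ≤ i - 1 := by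
        have e : (w.drop 1).getVert (i - 1) = w.getVert i := by
          rw [SimpleGraph.Walk.drop_getVert]; congr 1; omega
        rw [← e]
        exact le_trans (SimpleGraph.dist_le ((w.drop 1).take (i - 1))) (by simp)
      omega
  have hinj : Set.InjOn w.getVert (range (w.length + 1) : Finset ℕ) := by
    intro i hi j hj he
    rw [coe_range, Set.mem_Iio] at hi hj
    have h1 := (geodesic_dist hc w hw (i := i) (by omega)).1
    have h2 := (geodesic_dist hc w hw (i := j) (by omega)).1
    rw [he] at h1
    omega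
  have hcard := card_le_card hsub
  rw [card_image_of_injOn hinj, card_range] at hcard
  have := card_D_adj hadj
  omega

end

section
variable [IsPretransitive G Ω] (a b : Ω)

lemma card_Sub (x : Ω) : #(Sub G a b x) = #(Sub G a b a) := by
  obtain ⟨k, rfl⟩ := exists_smul_eq G a x
  refine card_bij (fun z _ => k⁻¹ • z) ?_ (fun u _ v _ h => smul_left_cancel k⁻¹ h) ?_
  · intro z hz
    simp only [Sub, mem_filter, mem_univ, true_and] at hz ⊢
    simpa using inO_smul k⁻¹ hz
  · intro z hz
    refine ⟨k • z, ?_, inv_smul_smul k z⟩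
    simp only [Sub, mem_filter, mem_univ, true_and] at hz ⊢
    exact inO_smul k hz

/-- In-degree equals out-degree. -/
lemma card_inDeg (z : Ω) : #(univ.filter fun w => InO G a b w z) = #(Sub G a b a) := by
  have hconst : ∀ u : Ω, #(univ.filter fun w => InO G a b w u) = #(univ.filter fun w => InO G a b w z) := by
    intro u
    obtain ⟨k, rfl⟩ := exists_smul_eq G z u
    refine card_bij (fun w _ => k⁻¹ • w) ?_ (fun p _ q _ h => smul_left_cancel k⁻¹ h) ?_
    · intro w hw
      simp only [mem_filter, mem_univ, true_and] at hw ⊢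
      simpa using inO_smul k⁻¹ hw
    · intro w hw
      refine ⟨k • w, ?_, inv_smul_smul k w⟩
      simp only [mem_filter, mem_univ, true_and] at hw ⊢
      exact inO_smul k hw
  have h := sum_card_bipartiteAbove_eq_sum_card_bipartiteBelow (InO G a b) (s := (univ : Finset Ω)) (t := univ)
  have hl : ∀ x : Ω, #(univ.bipartiteAbove (InO G a b) x) = #(Sub G a b a) := fun x => card_Sub a b x
  have hr : ∀ x : Ω, #(univ.bipartiteBelow (InO G a b) x) = #(univ.filter fun w => InO G a b w z) := hconst
  simp only [hl, hr, sum_const, card_univ, smul_eq_mul] at h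
  exact (Nat.eq_of_mul_eq_mul_left (Fintype.card_pos_iff.mpr ⟨z⟩) h).symm

lemma inO_symm (hbig : Fintype.card Ω < 2 * #(Sub G a b a)) {x y : Ω} (h : InO G a b x y) :
    InO G a b y x := by
  have hne : (Sub G a b a ∩ univ.filter fun w => InO G a b w a).Nonempty := by
    rw [← card_pos]
    have := card_union_add_card_inter (Sub G a b a) (univ.filter fun w => InO G a b w a)
    rw [card_inDeg] at this
    have := card_le_univ (Sub G a b a ∪ univ.filter fun w => InO G a b w a)
    omega
  obtain ⟨w, hw⟩ := hne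
  simp only [mem_inter, Sub, mem_filter, mem_univ, true_and] at hw
  obtain ⟨k, hka, hkw⟩ := hw.1
  -- so `(b, a)` lies in the orbital
  have hba : InO G a b b a := by
    rw [← inO_smul_iff k, hkw, hka]
    exact hw.2
  obtain ⟨u, rfl, rfl⟩ := h
  exact inO_smul u hba

variable {a b}

lemma card_two_step [IsPreprimitive G Ω] {p q : Ω} (hpq : p ≠ q) {i j : ℕ}
    (hij : i + j = (gr G p q).dist a b) :
    #(Sub G a b a) ≤ #(univ.filter fun u => (gr G p q).dist a u = i) *
      #(univ.filter fun u => (gr G p q).dist a u = j) := by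
  have hc := gr_connected (G := G) hpq
  set S : ℕ → Ω → Finset Ω := fun i v => univ.filter fun u => (gr G p q).dist v u = i with hS
  have hconst : ∀ v, #(S j v) = #(S j a) := by
    intro v
    obtain ⟨k, rfl⟩ := exists_smul_eq G a v
    refine card_bij (fun z _ => k⁻¹ • z) ?_ (fun u _ v _ h => smul_left_cancel k⁻¹ h) ?_
    · intro z hz
      simp only [hS, mem_filter, mem_univ, true_and] at hz ⊢
      rw [← gr_dist_smul hc k, smul_inv_smul]; exact hz
    · intro z hz
      refine ⟨k • z, ?_, inv_smul_smul k z⟩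
      simp only [hS, mem_filter, mem_univ, true_and] at hz ⊢
      rw [gr_dist_smul hc k]; exact hz
  refine le_trans (card_le_card ?_) (card_biUnion_le_card_mul (S i a) (S j) _ fun v _ => (hconst v).le)
  intro w hw
  simp only [Sub, mem_filter, mem_univ, true_and] at hw
  obtain ⟨k, hk1, hk2⟩ := hw
  obtain ⟨pw, hpw⟩ := hc.exists_walk_length_eq_dist a w
  have hlen : pw.length = i + j := by
    rw [hpw, hij, ← gr_dist_smul hc k a b, hk1, hk2]
  have h := geodesic_dist hc pw hpw (i := i) (by omega)
  refine mem_biUnion.mpr ⟨pw.getVert i, ?_, ?_⟩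
  · simpa [hS] using h.1
  · simp only [hS, mem_filter, mem_univ, true_and]
    omega

/-- A distance `t` reached by most points forces many points at smaller distances. -/
lemma sphere_bound [IsPreprimitive G Ω] {p q : Ω} (hpq : p ≠ q) :
    ((gr G p q).dist a b - 1) ^ 2 * #(Sub G a b a) ≤ (Fintype.card Ω - #(Sub G a b a)) ^ 2 := by
  have hc := gr_connected (G := G) hpq
  set t := (gr G p q).dist a b with ht
  rcases le_or_gt t 1 with h1 | h1
  · rw [show t - 1 = 0 by omega]; simp
  set s : ℕ → ℕ := fun i => #(univ.filter fun u => (gr G p q).dist a u = i) with hs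
  set k₁ := Fintype.card Ω - #(Sub G a b a) with hk
  have hsum : ∑ i ∈ Ico 1 t, s i ≤ k₁ := by
    rw [hk, ← card_compl, hs, ← card_biUnion]
    · refine card_le_card fun u hu => ?_
      simp only [mem_biUnion, mem_filter, mem_univ, true_and] at hu
      obtain ⟨i, hi, hu⟩ := hu
      simp only [mem_compl, Sub, mem_filter, mem_univ, true_and]
      rintro ⟨k, hk1, hk2⟩
      have := gr_dist_smul hc k a b
      rw [hk1, hk2, hu, ← ht] at this
      simp only [mem_Ico] at hi
      omega
    · intro i _ j _ hij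
      rw [Function.onFun, disjoint_left]
      intro u h1 h2
      simp only [mem_filter, mem_univ, true_and] at h1 h2
      omega
  have hsum' : ∑ i ∈ Ico 1 t, s (t - i) = ∑ i ∈ Ico 1 t, s i := by
    refine sum_nbij' (fun i => t - i) (fun i => t - i) ?_ ?_ ?_ ?_ ?_ <;>
      intro i hi <;> simp at hi ⊢ <;> omega
  obtain ⟨i, hi, hmin⟩ := exists_min_image (Ico 1 t) (fun i => s i + s (t - i)) (nonempty_Ico.mpr h1)
  have h2 : (t - 1) * (s i + s (t - i)) ≤ 2 * k₁ := by
    have := card_nsmul_le_sum (Ico 1 t) (fun i => s i + s (t - i)) _ (fun x hx => hmin x hx)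
    rw [Nat.card_Ico, smul_eq_mul, sum_add_distrib, hsum'] at this
    omega
  have h3 : #(Sub G a b a) ≤ s i * s (t - i) := by
    rw [mem_Ico] at hi
    exact card_two_step hpq (by omega)
  have h4 : 4 * (s i * s (t - i)) ≤ (s i + s (t - i)) ^ 2 := by
    have := four_mul_le_sq_add (s i) (s (t - i))
    linarith
  have h5 := Nat.pow_le_pow_left h2 2
  have h6 : 4 * ((t - 1) ^ 2 * #(Sub G a b a)) ≤ 4 * k₁ ^ 2 :=
    calc 4 * ((t - 1) ^ 2 * #(Sub G a b a)) ≤ (t - 1) ^ 2 * (4 * (s i * s (t - i))) := by
          rw [mul_left_comm]; exact Nat.mul_le_mul_left _ (Nat.mul_le_mul_left _ h3)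
      _ ≤ (t - 1) ^ 2 * (s i + s (t - i)) ^ 2 := Nat.mul_le_mul_left _ h4
      _ = ((t - 1) * (s i + s (t - i))) ^ 2 := (mul_pow _ _ 2).symm
      _ ≤ (2 * k₁) ^ 2 := h5
      _ = 4 * k₁ ^ 2 := by ring
  omega

/-- When one suborbit is large, some pair of that colour is well distinguished. -/
lemma exists_distinguished (hbig : 3 * Fintype.card Ω < 4 * #(Sub G a b a)) :
    ∃ w ∈ Sub G a b a, 4 * (Fintype.card Ω - #(Sub G a b a)) ≤ 3 * #(D G a w) := by
  set U : Ω → Finset Ω := fun x => (Sub G a b x)ᶜ with hU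
  set k₁ := Fintype.card Ω - #(Sub G a b a) with hk
  have hUc : ∀ x, #(U x) = k₁ := fun x => by rw [hU, card_compl, card_Sub]
  have htot : ∑ w ∈ Sub G a b a, #(U a ∩ U w) ≤ k₁ * k₁ := by
    calc ∑ w ∈ Sub G a b a, #(U a ∩ U w)
        ≤ ∑ w, #(U a ∩ U w) := sum_le_sum_of_subset (subset_univ _)
      _ = ∑ w, #((U a).filter fun z => ¬ InO G a b w z) := by
          refine sum_congr rfl fun w _ => congrArg card ?_
          ext z
          simp [hU, Sub]
      _ = ∑ z ∈ U a, #(univ.filter fun w => ¬ InO G a b w z) :=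
          sum_card_bipartiteAbove_eq_sum_card_bipartiteBelow (fun w z => ¬ InO G a b w z)
      _ = k₁ * k₁ := by
          have : ∀ z, #(univ.filter fun w => ¬ InO G a b w z) = k₁ := fun z => by
            rw [hk, ← card_inDeg a b z, ← card_compl, compl_filter]
          simp only [this, sum_const, smul_eq_mul, hUc]
  have hpos : 0 < #(Sub G a b a) := by omega
  obtain ⟨w, hw, hmin⟩ := exists_min_image (Sub G a b a) (fun w => #(U a ∩ U w)) (card_pos.mp hpos)
  refine ⟨w, hw, ?_⟩
  have h1 : #(Sub G a b a) * #(U a ∩ U w) ≤ k₁ * k₁ := by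
    have := card_nsmul_le_sum (Sub G a b a) (fun w => #(U a ∩ U w)) _ (fun x hx => hmin x hx)
    rw [smul_eq_mul] at this
    omega
  have h2 : 3 * k₁ ≤ #(Sub G a b a) := by omega
  have h3 : 3 * #(U a ∩ U w) ≤ k₁ := by
    rcases Nat.eq_zero_or_pos k₁ with h | h
    · have hinter : #(U a ∩ U w) ≤ #(U a) := card_le_card inter_subset_left
      rw [hUc] at hinter
      omega
    · exact le_of_mul_le_mul_left (a := k₁) (by
        calc k₁ * (3 * #(U a ∩ U w)) = 3 * k₁ * #(U a ∩ U w) := by ring
          _ ≤ #(Sub G a b a) * #(U a ∩ U w) := Nat.mul_le_mul_right _ h2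
          _ ≤ k₁ * k₁ := h1) h
  have h4 : U a \ U w ∪ U w \ U a ⊆ D G a w := by
    intro z hz
    simp only [D, mem_filter, mem_univ, true_and]
    rintro ⟨k, hk1, hk2⟩
    have : z ∈ U a ↔ z ∈ U w := by
      simp only [hU, mem_compl, Sub, mem_filter, mem_univ, true_and]
      rw [← inO_smul_iff (a := a) (b := b) (x := a) (y := z) k, hk1, hk2]
    simp only [mem_union, mem_sdiff] at hz
    tauto
  have h5 := card_le_card h4
  rw [card_union_of_disjoint disjoint_sdiff_sdiff, card_sdiff, card_sdiff, hUc, hUc,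
    inter_comm (U w) (U a)] at h5
  omega

end

/-- The case of a point stabiliser transitive on the other points. -/
lemma twoTransitive_bound [DecidableEq Ω] [IsPreprimitive G Ω]
    (hA : ¬ alternatingGroup Ω ≤ (MulAction.toPermHom G Ω).range) (g : G) {a b : Ω} (hga : g • a ≠ a)
    (hfull : ∀ z, z ≠ a → InO G a b a z) [Finite G] :
    Fintype.card Ω ≤ (2 * moved Ω g + 1) ^ 2 := by
  have := Fintype.ofFinite G
  set S : Finset Ω := univ.filter fun z => g • z ≠ z with hSdef
  set T := S.erase a with hTdef
  set H : Finset G := univ.filter fun h => h • a = a with hHdef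
  have haS : a ∈ S := by simp [hSdef, hga]
  by_cases hex : ∀ h ∈ H, ∃ s ∈ T, h • s ∈ T
  · -- count incidences
    have hmem : ∀ s ∈ T, ∀ t ∈ T, #(H.filter fun h => h • s = t) * (Fintype.card Ω - 1) = #H := by
      intro s hs t _
      have hsa : s ≠ a := ne_of_mem_erase hs
      have hfib : ∀ u ∈ univ.erase a, #(H.filter fun h => h • s = u) = #(H.filter fun h => h • s = t) := by
        intro u hu
        have htrans : ∀ x y : Ω, x ≠ a → y ≠ a → ∃ k ∈ H, k • x = y := by
          intro x y hx hy
          obtain ⟨k1, h11, h12⟩ := hfull x hx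
          obtain ⟨k2, h21, h22⟩ := hfull y hy
          refine ⟨k2 * k1⁻¹, by simp [hHdef, mul_smul, inv_smul_eq_iff.mpr h11.symm, h21], ?_⟩
          rw [mul_smul, ← h12, inv_smul_smul, h22]
        have hta : t ≠ a := ne_of_mem_erase ‹t ∈ T›
        obtain ⟨k, hk, hku⟩ := htrans u t (ne_of_mem_erase hu) hta
        simp only [hHdef, mem_filter, mem_univ, true_and] at hk
        refine card_bij (fun h _ => k * h) ?_ (fun _ _ _ _ e => mul_left_cancel e) ?_
        · intro h hh
          simp only [hHdef, mem_filter, mem_univ, true_and] at hh ⊢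
          exact ⟨by rw [mul_smul, hh.1, hk], by rw [mul_smul, hh.2, hku]⟩
        · intro h hh
          simp only [hHdef, mem_filter, mem_univ, true_and] at hh
          refine ⟨k⁻¹ * h, ?_, by simp⟩
          simp only [hHdef, mem_filter, mem_univ, true_and]
          exact ⟨by rw [mul_smul, hh.1, inv_smul_eq_iff, hk], by rw [mul_smul, hh.2, inv_smul_eq_iff, hku]⟩
      have hpart := card_eq_sum_card_fiberwise (f := fun h : G => h • s) (s := H) (t := univ.erase a) (by
        intro h hh
        simp only [hHdef, coe_filter, mem_univ, true_and, Set.mem_setOf_eq] at hh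
        simp only [coe_erase, coe_univ, Set.mem_diff, Set.mem_univ, Set.mem_singleton_iff, true_and]
        exact fun e => hsa (smul_left_cancel h (e.trans hh.symm)))
      rw [hpart, sum_congr rfl hfib, sum_const, card_erase_of_mem (mem_univ a), card_univ, smul_eq_mul, mul_comm]
    have hlow : #H ≤ ∑ h ∈ H, #(T.filter fun s => h • s ∈ T) := by
      rw [card_eq_sum_ones]
      exact sum_le_sum fun h hh => card_pos.mpr (by
        obtain ⟨s, hs, hst⟩ := hex h hh
        exact ⟨s, mem_filter.mpr ⟨hs, hst⟩⟩)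
    have hswap : ∑ h ∈ H, #(T.filter fun s => h • s ∈ T) = ∑ s ∈ T, ∑ t ∈ T, #(H.filter fun h => h • s = t) := by
      refine (sum_card_bipartiteAbove_eq_sum_card_bipartiteBelow (fun (h : G) (s : Ω) => h • s ∈ T)).trans ?_
      refine sum_congr rfl fun s _ => ?_
      rw [bipartiteBelow, card_eq_sum_card_fiberwise (f := fun h : G => h • s)
        (s := H.filter fun h => h • s ∈ T) (t := T) (fun h hh => (mem_filter.mp hh).2)]
      refine sum_congr rfl fun t ht => congrArg card ?_
      ext h
      simp only [mem_filter]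
      exact ⟨fun h' => ⟨h'.1.1, h'.2⟩, fun h' => ⟨⟨h'.1, h'.2 ▸ ht⟩, h'.2⟩⟩
    have h3 := Nat.mul_le_mul_right (Fintype.card Ω - 1) (hswap ▸ hlow)
    rw [sum_mul, sum_congr rfl (fun s hs => by rw [sum_mul, sum_congr rfl (hmem s hs)])] at h3
    simp only [sum_const, smul_eq_mul] at h3
    have hH : 0 < #H := card_pos.mpr ⟨1, by simp [hHdef]⟩
    have h4 : Fintype.card Ω - 1 ≤ #T * #T := le_of_mul_le_mul_left (a := #H) (by
      calc #H * (Fintype.card Ω - 1) ≤ #T * (#T * #H) := h3
        _ = #H * (#T * #T) := by ring) hH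
    have h5 : #T ≤ moved Ω g := card_erase_le.trans (le_of_eq (by rw [hSdef, moved]; congr))
    have h6 := Nat.mul_le_mul h5 h5
    rw [pow_two]
    have h7 : moved Ω g * moved Ω g + 1 ≤ (2 * moved Ω g + 1) * (2 * moved Ω g + 1) := by nlinarith
    omega
  · push Not at hex
    obtain ⟨h, hh, hdis⟩ := hex
    simp only [hHdef, mem_filter, mem_univ, true_and] at hh
    exfalso
    refine hA ?_
    let φ := MulAction.toPermHom G Ω
    set p : Equiv.Perm Ω := φ g with hp
    set q : Equiv.Perm Ω := φ (h * g * h⁻¹) with hq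
    have hpx : ∀ x, p x = g • x := fun _ => rfl
    have hqx : ∀ x, q x = h • g • h⁻¹ • x := fun x => by
      show (h * g * h⁻¹) • x = _
      rw [mul_smul, mul_smul]
    have hmeet : ∀ x, p x ≠ x → q x ≠ x → x = a := by
      intro x h1 h2
      by_contra hxa
      rw [hqx] at h2
      refine hdis (h⁻¹ • x) ?_ ?_
      · refine mem_erase.mpr ⟨fun e => hxa ?_, ?_⟩
        · rw [inv_smul_eq_iff, hh] at e; exact e
        · simp only [hSdef, mem_filter, mem_univ, true_and]
          exact fun e => h2 (by rw [e, smul_inv_smul])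
      · rw [smul_inv_smul]
        exact mem_erase.mpr ⟨hxa, by simpa [hSdef, hpx] using h1⟩
    have hpa : p a ≠ a := hga
    have hqa : q a ≠ a := by
      rw [hqx, inv_smul_eq_iff.mpr hh.symm]
      exact fun e => hga (smul_left_cancel h (e.trans hh.symm))
    have hpa' : q (p a) = p a := by
      by_contra e
      exact hpa (hmeet (p a) (fun e' => hpa (p.injective e')) e)
    have hqa' : p (q a) = q a := by
      by_contra e
      exact hqa (hmeet (q a) e (fun e' => hqa (q.injective e')))
    have hne : p a ≠ q a := fun e => hpa (p.injective (by rw [e, hqa', ← e]))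
    set c := p * q * p⁻¹ * q⁻¹ with hc
    have hcx : ∀ x, c (q (p x)) = p (q x) := fun x => by simp [hc]
    have hsupp : c.support ⊆ {a, p a, q a} := by
      intro x hx
      rw [Equiv.Perm.mem_support] at hx
      simp only [mem_insert, mem_singleton]
      by_contra hne'
      push Not at hne'
      obtain ⟨hxa, hxp, hxq⟩ := hne'
      obtain ⟨u, rfl⟩ : ∃ u, q (p u) = x := ⟨p.symm (q.symm x), by simp⟩
      refine hx ((hcx u).trans ?_)
      by_cases hu : u = a
      · subst hu
        exact absurd hpa' hxp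
      by_cases hpu : p u = u
      · rw [hpu]
        by_cases hqu : q u = u
        · rw [hqu, hpu]
        · by_contra e
          have := hmeet (q u) e (fun e' => hqu (q.injective e'))
          rw [hpu] at hxa
          exact hxa this
      · have hqu : q u = u := by
          by_contra e
          exact hu (hmeet u hpu e)
        rw [hqu]
        by_contra e
        have hmv : q (p u) ≠ p u := fun e' => e e'.symm
        have := hmeet (p u) (fun e' => hpu (p.injective e')) hmv
        rw [this] at hxq
        exact hxq rfl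
    have hc3 : c.support = {a, p a, q a} := by
      refine subset_antisymm hsupp fun x hx => ?_
      rw [Equiv.Perm.mem_support]
      simp only [mem_insert, mem_singleton] at hx
      have e1 : c (p a) = p (q a) := by rw [← hpa', hcx, hqa']
      rw [hqa'] at e1
      rcases hx with rfl | rfl | rfl
      · obtain ⟨u, hu⟩ : ∃ u, q (p u) = x := ⟨p.symm (q.symm x), by simp⟩
        intro e
        have h1 : p (q u) = x := by rw [← hcx, hu, e]
        have hpu : p u = q.symm x := by rw [← hu]; simp
        have hne1 : q.symm x ≠ x := fun e' => hqa (by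
          conv_lhs => rw [← e']
          simp)
        have hfix : p (q.symm x) = q.symm x := by
          by_contra e'
          refine hne1 (hmeet _ e' ?_)
          rw [Equiv.apply_symm_apply]; exact hne1.symm
        have hu' : u = q.symm x := p.injective (hpu.trans hfix.symm)
        rw [hu', Equiv.apply_symm_apply] at h1
        exact hpa h1
      · rw [e1]; exact hne.symm
      · intro e
        obtain ⟨u, hu⟩ : ∃ u, q (p u) = q a := ⟨p.symm a, by simp⟩
        have hu' : p u = a := q.injective hu
        have h1 : p (q u) = q a := by rw [← hcx, hu, e]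
        have hua : u ≠ a := fun e' => hpa (e' ▸ hu')
        have hmu : p u ≠ u := by rw [hu']; exact Ne.symm hua
        have hqu : q u = u := by
          by_contra e'
          exact hua (hmeet u hmu e')
        rw [hqu, hu'] at h1
        exact hqa h1.symm
    have h3 : c.IsThreeCycle := by
      rw [← card_support_eq_three_iff, hc3]
      rw [card_insert_of_notMem, card_pair hne]
      simp [Ne.symm hpa, Ne.symm hqa]
    have hprim : IsPreprimitive φ.range Ω := by
      let f : Ω →ₑ[φ.rangeRestrict] Ω := { toFun := id, map_smul' := fun _ _ => rfl }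
      exact IsPreprimitive.of_surjective (f := f) Function.surjective_id
    refine Equiv.Perm.alternatingGroup_le_of_isPreprimitive_of_isThreeCycle_mem hprim h3 ?_
    exact mul_mem (mul_mem (mul_mem ⟨_, rfl⟩ ⟨_, rfl⟩) (inv_mem ⟨_, rfl⟩)) (inv_mem ⟨_, rfl⟩)

/-- Babai's bound. -/
theorem minimal_degree [Finite G] [FaithfulSMul G Ω] [DecidableEq Ω] (hprim : IsPreprimitive G Ω)
    (hA : ¬ alternatingGroup Ω ≤ (MulAction.toPermHom G Ω).range) (g : G) (hg : g ≠ 1) :
    Fintype.card Ω ≤ (2 * moved Ω g + 1) ^ 2 := by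
  obtain ⟨x₀, hx₀⟩ : ∃ x : Ω, g • x ≠ x := by
    by_contra h
    push Not at h
    exact hg (FaithfulSMul.eq_of_smul_eq_smul (α := Ω) fun x => by rw [h, one_smul])
  have hm : 1 ≤ moved Ω g := card_pos.mpr ⟨x₀, by simp [hx₀]⟩
  set m := moved Ω g with hmdef
  set n := Fintype.card Ω with hn
  have hc := gr_connected (G := G) (Ne.symm hx₀)
  have hD : ∀ x y, #(D G x y) ≤ (gr G x₀ (g • x₀)).dist x y * m := by
    intro x y
    obtain ⟨w, hw⟩ := hc.exists_walk_length_eq_dist x y
    exact hw ▸ card_D_walk w
  have hdist : ∀ x y, (gr G x₀ (g • x₀)).dist x y < m := fun x y => by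
    have := dist_lt_moved (g := g) hx₀ x y
    rw [← hmdef, max_eq_left hm] at this
    exact this
  by_cases hbig : ∃ a b : Ω, 3 * n < 4 * #(Sub G a b a)
  · obtain ⟨a', b', hab'⟩ := hbig
    obtain ⟨k, rfl⟩ := exists_smul_eq G x₀ a'
    -- move the base point to one moved by g
    set a := x₀
    set b := k⁻¹ • b'
    have hab : 3 * n < 4 * #(Sub G a b a) := by
      refine lt_of_lt_of_le hab' (Nat.mul_le_mul_left 4 (card_le_card_of_injOn (fun z => k⁻¹ • z) ?_
        (fun _ _ _ _ e => smul_left_cancel k⁻¹ e)))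
      intro z hz
      simp only [Sub, coe_filter, mem_univ, true_and, Set.mem_setOf_eq] at hz ⊢
      obtain ⟨u, h1, h2⟩ := hz
      refine ⟨k⁻¹ * u * k, ?_, ?_⟩
      · simp [a, mul_smul, h1]
      · simp [b, mul_smul, h2]
    set R := #(Sub G a b a) with hR
    have hne : b ≠ a := by
      intro e
      have h1 : R ≤ 1 := by
        rw [hR, e]
        refine card_le_one.mpr fun x hx y hy => ?_
        simp only [Sub, mem_filter, mem_univ, true_and] at hx hy
        obtain ⟨u, h1, h2⟩ := hx
        obtain ⟨v, h3, h4⟩ := hy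
        rw [← h2, ← h4, h1, h3]
      have h2 : 2 ≤ n := Fintype.one_lt_card_iff.mpr ⟨g • x₀, x₀, hx₀⟩
      omega
    by_cases hfull : ∀ z, z ≠ a → InO G a b a z
    · exact twoTransitive_bound hA g hx₀ hfull
    push Not at hfull
    obtain ⟨c, hca, hcO⟩ := hfull
    obtain ⟨w, hw, hDw⟩ := exists_distinguished hab
    set t := (gr G x₀ (g • x₀)).dist a b with ht
    have htw : (gr G x₀ (g • x₀)).dist a w = t := by
      simp only [Sub, mem_filter, mem_univ, true_and] at hw
      obtain ⟨u, h1, h2⟩ := hw
      rw [← h2]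
      conv_lhs => rw [← h1]
      exact gr_dist_smul hc u a b
    have h1 : 4 * (n - R) ≤ 3 * (t * m) := le_trans hDw (Nat.mul_le_mul_left 3 (htw ▸ hD a w))
    have ht0 : t ≠ 0 := fun h => hne (hc.dist_eq_zero_iff.mp h).symm
    rcases Nat.lt_or_ge t 2 with ht2 | ht2
    · -- a second graph in which the large colour is not adjacency
      have hc2 := gr_connected (G := G) (Ne.symm hca)
      have h2 : 2 ≤ (gr G a c).dist a b := by
        have h0 : (gr G a c).dist a b ≠ 0 := fun h => hne (hc2.dist_eq_zero_iff.mp h).symm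
        by_contra hlt
        have hadj : (gr G a c).Adj a b := SimpleGraph.dist_eq_one_iff_adj.mp (by omega)
        rw [gr, SimpleGraph.fromRel_adj] at hadj
        have hab1 : InO G a b a b := ⟨1, one_smul _ _, one_smul _ _⟩
        rcases hadj.2 with ⟨u, e1, e2⟩ | ⟨u, e1, e2⟩
        · exact hcO ((inO_smul_iff u).mp (by rw [e1, e2]; exact hab1))
        · exact hcO ((inO_smul_iff u).mp (by rw [e1, e2]; exact inO_symm a b (by omega) hab1))
      have h3 := sphere_bound (a := a) (b := b) (G := G) (Ne.symm hca)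
      rw [← hn, ← hR] at h3
      have h4 : R ≤ (n - R) ^ 2 := le_trans (Nat.le_mul_of_pos_left R (pow_pos (by omega) 2)) h3
      have ht1 : t = 1 := by omega
      rw [ht1, one_mul] at h1
      have h5 := Nat.pow_le_pow_left h1 2
      nlinarith
    · have h3 := sphere_bound (a := a) (b := b) (G := G) (Ne.symm hx₀)
      rw [← hn, ← hR, ← ht] at h3
      obtain ⟨s, hs⟩ : ∃ s, t = s + 2 := ⟨t - 2, by omega⟩
      rw [hs] at h1 h3
      have h5 := Nat.pow_le_pow_left h1 2
      have hsimp : s + 2 - 1 = s + 1 := by omega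
      rw [hsimp] at h3
      have h6 : 4 * R * (s + 2) ^ 2 ≤ 9 * m ^ 2 * (s + 2) ^ 2 := by
        calc 4 * R * (s + 2) ^ 2 ≤ 4 * R * (4 * (s + 1) ^ 2) :=
              Nat.mul_le_mul_left _ (by nlinarith)
          _ = 16 * ((s + 1) ^ 2 * R) := by ring
          _ ≤ 16 * (n - R) ^ 2 := Nat.mul_le_mul_left _ h3
          _ = (4 * (n - R)) ^ 2 := by ring
          _ ≤ (3 * ((s + 2) * m)) ^ 2 := h5
          _ = _ := by ring
      have h7 := le_of_mul_le_mul_right h6 (by positivity)
      nlinarith
  · push Not at hbig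
    have hsame : ∀ z y : Ω, #(univ.filter fun x : Ω => Same G y x z) * 4 ≤ 3 * n := by
      intro z y
      refine le_trans (Nat.mul_le_mul_right 4 (card_le_card ?_)) (by rw [mul_comm]; exact hbig z y)
      intro x hx
      simp only [Sub, mem_filter, mem_univ, true_and] at hx ⊢
      obtain ⟨u, h1, h2⟩ := hx
      exact ⟨u, h2, h1⟩
    have hsum : n * n ≤ 4 * ∑ y, #(D G x₀ y) := by
      have htot : ∑ y, #(D G x₀ y) + ∑ z, #(univ.filter fun y => Same G x₀ y z) = n * n := by
        have hsw : ∑ z, #(univ.filter fun y : Ω => Same G x₀ y z) = ∑ y, #(univ.filter fun z : Ω => Same G x₀ y z) :=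
          (sum_card_bipartiteAbove_eq_sum_card_bipartiteBelow (s := (univ : Finset Ω)) (t := (univ : Finset Ω))
            (fun y z => Same G x₀ y z)).symm
        rw [hsw, ← sum_add_distrib]
        have : ∀ y, #(D G x₀ y) + #(univ.filter fun z : Ω => Same G x₀ y z) = n := fun y => by
          rw [D, add_comm, card_filter_add_card_filter_not, card_univ]
        simp only [this, sum_const, card_univ, smul_eq_mul]
        exact congrArg (· * n) hn.symm
      have h1 := sum_le_sum (s := (univ : Finset Ω)) (fun (z : Ω) _ => hsame z x₀)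
      rw [← sum_mul, sum_const, card_univ, smul_eq_mul, ← hn] at h1
      linarith
    obtain ⟨y, -, hy⟩ := exists_le_of_sum_le (s := (univ : Finset Ω)) (f := fun _ => n)
      (g := fun y => 4 * #(D G x₀ y)) ⟨x₀, mem_univ _⟩ (by
        rw [sum_const, card_univ, smul_eq_mul, ← mul_sum, ← hn]; exact hsum)
    have := hD x₀ y
    have := Nat.mul_le_mul_right m (hdist x₀ y).le
    nlinarith

end CfsgLib.Maximal.MinDeg
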