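import Mathlib

/-! Sylow 2-subgroups of the symmetric group of degree eight meet pairwise nontrivially. -/
set_option autoImplicit false

namespace CfsgLib.Maximal.S8

open Equiv

/-- Generators of a 2-subgroup of order 128. -/
def gen : List (Perm (Fin 8)) :=
  [swap 0 1, swap 2 3, swap 4 5, swap 6 7, swap 0 2 * swap 1 3, swap 4 6 * swap 5 7,
    swap 0 4 * swap 1 5 * (swap 2 6 * swap 3 7)]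

/-- The 2-subgroup generated by the first k generators. -/
def K : ℕ → Subgroup (Perm (Fin 8))
  | 0 => ⊥
  | k + 1 => Subgroup.zpowers (gen.getD k 1) ⊔ K k

/-- The element given by the bits of c. -/
def word (c : ℕ) : Perm (Fin 8) :=
  ((List.range 7).map fun i => if c.testBit i then gen.getD i 1 else 1).prod

/-- A product of transpositions. -/
def perm (l : List (Fin 8 × Fin 8)) : Perm (Fin 8) :=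
  (l.map fun p => swap p.1 p.2).prod

/-- A coset representative with the data for the two checks. -/
structure Row where
  rep : List (Fin 8 × Fin 8)
  j₁ : ℕ
  e₁ : ℕ
  j₂ : ℕ
  e₂ : ℕ
  c : ℕ
  d : ℕ
  mv : Fin 8

/-- The certificate. -/
def rows : List Row := [
  ⟨[], 0, 1, 1, 0, 1, 1, 0⟩,
  ⟨[(0, 1), (1, 2), (2, 3), (3, 4), (4, 5), (5, 6), (6, 7)], 2, 0, 3, 0, 64, 64, 0⟩,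
  ⟨[(1, 2), (2, 3), (3, 4), (4, 5), (5, 6), (6, 7)], 1, 0, 4, 0, 69, 64, 0⟩,
  ⟨[(0, 2), (1, 3), (2, 4), (3, 5), (4, 6), (5, 7)], 3, 8, 5, 0, 1, 8, 0⟩,
  ⟨[(0, 1), (1, 3), (2, 4), (3, 5), (4, 6), (5, 7), (6, 7)], 6, 0, 7, 0, 4, 2, 4⟩,
  ⟨[(0, 3), (1, 4), (2, 5), (3, 6), (4, 7), (5, 6), (6, 7)], 8, 0, 0, 64, 64, 64, 0⟩,
  ⟨[(1, 3), (2, 4), (3, 5), (4, 6), (5, 7), (6, 7)], 4, 0, 9, 0, 4, 2, 4⟩,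
  ⟨[(0, 2), (1, 4), (2, 5), (3, 6), (4, 7), (6, 7)], 10, 0, 11, 0, 74, 64, 0⟩,
  ⟨[(0, 3), (1, 4), (2, 5), (3, 6), (4, 7), (5, 7)], 5, 0, 12, 0, 69, 64, 0⟩,
  ⟨[(0, 1), (1, 4), (2, 5), (3, 6), (4, 7), (5, 7), (6, 7)], 13, 0, 14, 0, 2, 8, 2⟩,
  ⟨[(0, 2), (1, 4), (2, 5), (3, 6), (4, 7), (5, 7), (6, 7)], 7, 0, 15, 0, 79, 64, 0⟩,
  ⟨[(0, 3), (1, 5), (2, 6), (3, 7), (4, 7)], 11, 4, 16, 0, 1, 4, 0⟩,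
  ⟨[(0, 4), (1, 5), (2, 6), (3, 7), (5, 6)], 17, 0, 18, 0, 3, 32, 0⟩,
  ⟨[(1, 4), (2, 5), (3, 6), (4, 7), (5, 7), (6, 7)], 9, 0, 19, 0, 2, 8, 2⟩,
  ⟨[(0, 2), (1, 5), (2, 6), (3, 7), (4, 6), (6, 7)], 14, 4, 20, 0, 1, 4, 0⟩,
  ⟨[(0, 3), (1, 5), (2, 6), (3, 7), (4, 7), (5, 6)], 21, 0, 22, 0, 8, 2, 6⟩,
  ⟨[(0, 4), (1, 6), (2, 7), (3, 4), (4, 6), (5, 7)], 23, 0, 24, 0, 69, 64, 0⟩,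
  ⟨[(0, 4), (1, 5), (2, 6), (3, 7), (4, 5), (5, 6)], 12, 0, 25, 0, 3, 32, 0⟩,
  ⟨[(0, 5), (1, 6), (2, 7), (3, 5), (4, 6), (6, 7)], 26, 0, 27, 0, 74, 64, 0⟩,
  ⟨[(0, 1), (1, 5), (2, 6), (3, 7), (4, 5), (5, 6), (6, 7)], 28, 0, 29, 0, 8, 2, 6⟩,
  ⟨[(0, 3), (1, 6), (2, 7), (4, 6), (5, 7)], 30, 0, 31, 0, 4, 8, 4⟩,
  ⟨[(0, 3), (1, 5), (2, 6), (3, 7), (4, 5), (5, 6), (6, 7)], 15, 0, 32, 0, 8, 2, 6⟩,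
  ⟨[(0, 4), (1, 6), (2, 7), (3, 4), (4, 6), (5, 6), (6, 7)], 33, 0, 34, 0, 79, 64, 0⟩,
  ⟨[(0, 4), (1, 6), (2, 7), (3, 6), (5, 7)], 16, 0, 35, 0, 64, 64, 0⟩,
  ⟨[(0, 5), (1, 7), (2, 5), (3, 7), (4, 5), (5, 7), (6, 7)], 24, 2, 36, 0, 1, 2, 0⟩,
  ⟨[(0, 5), (1, 6), (2, 7), (3, 5), (4, 7)], 37, 0, 38, 0, 2, 4, 2⟩,
  ⟨[(0, 5), (1, 6), (2, 7), (3, 6), (4, 5), (5, 6), (6, 7)], 18, 0, 39, 0, 79, 64, 0⟩,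
  ⟨[(0, 6), (1, 7), (2, 6), (3, 7), (4, 6), (5, 6), (6, 7)], 27, 2, 40, 0, 1, 2, 0⟩,
  ⟨[(1, 5), (2, 6), (3, 7), (4, 5), (5, 6), (6, 7)], 19, 0, 41, 0, 8, 2, 6⟩,
  ⟨[(0, 2), (1, 6), (2, 7), (3, 7), (4, 6), (5, 7)], 42, 0, 43, 0, 4, 8, 4⟩,
  ⟨[(0, 3), (1, 6), (2, 7), (3, 6), (4, 6), (5, 7)], 20, 0, 44, 0, 4, 8, 4⟩,
  ⟨[(0, 4), (1, 7), (2, 4), (3, 7), (5, 7), (6, 7)], 31, 2, 45, 0, 1, 2, 0⟩,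
  ⟨[(0, 4), (1, 6), (2, 7), (3, 4), (4, 7), (5, 7)], 46, 0, 47, 0, 2, 4, 2⟩,
  ⟨[(0, 4), (1, 6), (2, 7), (3, 6), (5, 6), (6, 7)], 22, 0, 48, 0, 74, 64, 0⟩,
  ⟨[(0, 5), (1, 7), (2, 5), (3, 7), (4, 5), (6, 7)], 34, 2, 49, 0, 1, 2, 0⟩,
  ⟨[(0, 5), (1, 7), (2, 5), (3, 5), (4, 7), (6, 7)], 50, 0, 51, 0, 15, 112, 0⟩,
  ⟨[(0, 6), (1, 6), (2, 6), (3, 6), (4, 6), (5, 6)], 52, 0, 53, 0, 74, 64, 0⟩,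
  ⟨[(0, 5), (1, 6), (2, 7), (3, 6), (4, 7), (5, 6)], 25, 0, 54, 0, 2, 4, 2⟩,
  ⟨[(0, 6), (1, 7), (2, 6), (3, 7), (4, 7), (5, 7)], 38, 2, 55, 0, 1, 2, 0⟩,
  ⟨[(0, 6), (1, 7), (2, 6), (3, 6), (4, 7), (5, 7)], 56, 0, 57, 0, 8, 1, 6⟩,
  ⟨[(0, 7), (1, 7), (2, 7), (3, 7), (4, 7), (6, 7)], 58, 0, 59, 0, 69, 64, 0⟩,
  ⟨[(0, 1), (1, 6), (2, 7), (3, 6), (4, 7), (5, 6), (6, 7)], 60, 0, 61, 0, 2, 4, 2⟩,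
  ⟨[(0, 2), (1, 6), (2, 7), (3, 6), (4, 7), (5, 6), (6, 7)], 29, 0, 62, 0, 4, 8, 4⟩,
  ⟨[(0, 3), (1, 7), (2, 3), (3, 7), (4, 7), (5, 7), (6, 7)], 43, 2, 21, 104, 1, 2, 0⟩,
  ⟨[(0, 4), (1, 7), (2, 4), (3, 4), (4, 7), (5, 7), (6, 7)], 63, 0, 64, 0, 15, 112, 0⟩,
  ⟨[(0, 5), (1, 5), (2, 5), (3, 5), (4, 5)], 65, 0, 66, 0, 8, 8, 6⟩,
  ⟨[(0, 4), (1, 6), (2, 7), (3, 6), (4, 7), (5, 6), (6, 7)], 32, 0, 67, 0, 2, 4, 2⟩,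
  ⟨[(0, 5), (1, 7), (2, 5), (3, 7), (4, 7), (5, 7), (6, 7)], 47, 2, 68, 0, 1, 2, 0⟩,
  ⟨[(0, 5), (1, 7), (2, 5), (3, 5), (4, 7), (5, 7), (6, 7)], 69, 0, 70, 0, 48, 35, 0⟩,
  ⟨[(0, 6), (1, 6), (2, 6), (3, 6), (4, 6)], 71, 0, 72, 0, 79, 64, 0⟩,
  ⟨[(0, 5), (1, 7), (2, 7), (3, 7), (4, 5), (5, 7), (6, 7)], 35, 0, 73, 0, 15, 112, 0⟩,
  ⟨[(0, 6), (1, 6), (2, 6), (4, 6), (5, 6)], 74, 0, 75, 0, 64, 64, 0⟩,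
  ⟨[(0, 6), (2, 6), (3, 6), (4, 6), (5, 6)], 36, 0, 76, 0, 79, 64, 0⟩,
  ⟨[(0, 7)], 77, 0, 2, 0, 2, 2, 2⟩,
  ⟨[(0, 6), (1, 7), (2, 6), (3, 6), (4, 6), (5, 6), (6, 7)], 78, 0, 79, 0, 8, 1, 6⟩,
  ⟨[(0, 7), (1, 7), (2, 7), (3, 7), (6, 7)], 80, 0, 81, 0, 4, 4, 4⟩,
  ⟨[(0, 6), (1, 7), (2, 7), (3, 7), (4, 6), (5, 6), (6, 7)], 39, 0, 82, 0, 8, 1, 6⟩,
  ⟨[(0, 7), (1, 7), (2, 7), (4, 7), (6, 7)], 83, 0, 84, 0, 79, 64, 0⟩,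
  ⟨[(0, 7), (2, 7), (3, 7), (4, 7), (6, 7)], 40, 0, 85, 0, 64, 64, 0⟩,
  ⟨[(5, 6)], 59, 1, 86, 0, 1, 1, 0⟩,
  ⟨[(1, 6), (2, 7), (3, 6), (4, 7), (5, 6), (6, 7)], 41, 0, 8, 68, 2, 4, 2⟩,
  ⟨[(0, 2), (1, 7), (3, 7), (4, 7), (5, 7), (6, 7)], 61, 2, 17, 104, 1, 2, 0⟩,
  ⟨[(0, 3), (1, 7), (2, 3), (4, 7), (5, 7), (6, 7)], 87, 0, 88, 0, 118, 79, 0⟩,
  ⟨[(0, 4), (1, 7), (2, 7), (3, 7), (5, 7), (6, 7)], 44, 0, 89, 0, 15, 112, 0⟩,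
  ⟨[(0, 5), (1, 5), (2, 5), (4, 5)], 90, 0, 91, 0, 8, 8, 6⟩,
  ⟨[(0, 5), (2, 5), (3, 5), (4, 5)], 45, 0, 92, 0, 8, 8, 6⟩,
  ⟨[(0, 6), (6, 7)], 93, 0, 94, 0, 2, 2, 2⟩,
  ⟨[(0, 5), (1, 7), (2, 5), (3, 5), (4, 5), (6, 7)], 95, 0, 96, 0, 48, 35, 0⟩,
  ⟨[(0, 6), (1, 6), (2, 6), (3, 6)], 97, 0, 13, 81, 4, 4, 4⟩,
  ⟨[(0, 5), (1, 7), (2, 7), (3, 7), (4, 5), (6, 7)], 48, 0, 98, 0, 51, 35, 0⟩,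
  ⟨[(0, 6), (1, 6), (2, 6), (4, 6)], 99, 0, 100, 0, 69, 64, 0⟩,
  ⟨[(0, 6), (2, 6), (3, 6), (4, 6)], 49, 0, 101, 0, 74, 64, 0⟩,
  ⟨[(0, 7), (5, 6)], 82, 36, 102, 0, 2, 2, 2⟩,
  ⟨[(0, 6), (1, 6), (4, 6), (5, 6)], 103, 0, 104, 0, 2, 2, 2⟩,
  ⟨[(0, 6), (2, 6), (4, 6), (5, 6)], 51, 0, 105, 0, 69, 64, 0⟩,
  ⟨[(0, 7), (3, 4)], 106, 0, 23, 64, 15, 112, 0⟩,
  ⟨[(0, 7), (1, 2)], 107, 0, 26, 64, 4, 4, 4⟩,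
  ⟨[(0, 7), (1, 7)], 53, 0, 108, 0, 2, 2, 2⟩,
  ⟨[(0, 6), (1, 7), (2, 7), (3, 7), (4, 7), (5, 7)], 54, 0, 77, 8, 8, 1, 6⟩,
  ⟨[(0, 7), (1, 7), (2, 7), (6, 7)], 109, 0, 110, 0, 4, 4, 4⟩,
  ⟨[(0, 7), (2, 7), (3, 7), (6, 7)], 55, 0, 111, 0, 4, 4, 4⟩,
  ⟨[(4, 5), (5, 6)], 81, 1, 28, 81, 1, 1, 0⟩,
  ⟨[(0, 7), (1, 7), (4, 7), (6, 7)], 72, 40, 112, 0, 2, 2, 2⟩,
  ⟨[(0, 7), (2, 7), (4, 7), (6, 7)], 57, 0, 113, 0, 74, 64, 0⟩,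
  ⟨[(3, 4), (5, 6)], 84, 1, 114, 0, 1, 1, 0⟩,
  ⟨[(1, 2), (5, 6)], 115, 0, 116, 0, 3, 16, 0⟩,
  ⟨[(0, 1), (1, 2), (2, 3), (3, 4), (4, 5), (5, 7)], 102, 0, 60, 65, 74, 64, 0⟩,
  ⟨[(0, 3), (1, 7), (2, 7), (3, 7), (4, 7), (5, 7), (6, 7)], 62, 0, 117, 0, 127, 79, 0⟩,
  ⟨[(0, 4), (1, 4), (2, 4)], 118, 0, 119, 0, 8, 8, 6⟩,
  ⟨[(0, 5), (1, 5), (4, 5)], 120, 0, 121, 0, 2, 2, 2⟩,
  ⟨[(0, 5), (2, 5), (4, 5)], 64, 0, 122, 0, 8, 8, 6⟩,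
  ⟨[(0, 6), (3, 4), (6, 7)], 123, 0, 124, 0, 15, 112, 0⟩,
  ⟨[(0, 6), (1, 2), (6, 7)], 125, 0, 126, 0, 4, 4, 4⟩,
  ⟨[(0, 6), (1, 6), (6, 7)], 66, 0, 127, 0, 2, 2, 2⟩,
  ⟨[(0, 7), (1, 2), (2, 3), (3, 4), (4, 5), (5, 6), (6, 7)], 94, 8, 6, 0, 1, 8, 0⟩,
  ⟨[(0, 5), (1, 7), (2, 7), (3, 7), (4, 7), (5, 7), (6, 7)], 67, 0, 93, 8, 51, 35, 0⟩,
  ⟨[(0, 6), (1, 6), (2, 6)], 128, 0, 129, 0, 4, 4, 4⟩,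
  ⟨[(0, 6), (2, 6), (3, 6)], 68, 0, 130, 0, 4, 4, 4⟩,
  ⟨[(0, 6), (1, 6), (4, 6)], 131, 0, 132, 0, 2, 2, 2⟩,
  ⟨[(0, 6), (2, 6), (4, 6)], 70, 0, 133, 0, 64, 64, 0⟩,
  ⟨[(0, 7), (3, 4), (5, 6)], 134, 0, 135, 0, 28, 79, 0⟩,
  ⟨[(0, 7), (1, 2), (5, 6)], 136, 0, 137, 0, 127, 127, 0⟩,
  ⟨[(1, 2), (2, 3), (3, 4), (4, 5), (5, 7)], 86, 0, 138, 0, 79, 64, 0⟩,
  ⟨[(0, 6), (4, 6), (5, 6)], 73, 0, 139, 0, 2, 2, 2⟩,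
  ⟨[(0, 7), (2, 3), (3, 4)], 140, 0, 30, 64, 15, 112, 0⟩,
  ⟨[(0, 7), (1, 2), (3, 4)], 141, 0, 33, 64, 28, 112, 0⟩,
  ⟨[(0, 7), (1, 7), (3, 4)], 75, 0, 142, 0, 15, 112, 0⟩,
  ⟨[(0, 7), (1, 2), (2, 7)], 76, 0, 143, 0, 4, 4, 4⟩,
  ⟨[(2, 3), (3, 4), (4, 5), (5, 6), (6, 7)], 108, 1, 144, 0, 1, 1, 0⟩,
  ⟨[(0, 7), (2, 7), (6, 7)], 79, 0, 145, 0, 4, 4, 4⟩,
  ⟨[(3, 4), (4, 5), (5, 6)], 110, 1, 146, 0, 1, 1, 0⟩,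
  ⟨[(1, 2), (4, 5), (5, 6)], 147, 0, 148, 0, 3, 16, 0⟩,
  ⟨[(2, 3), (3, 4), (5, 6)], 112, 1, 149, 0, 1, 1, 0⟩,
  ⟨[(1, 2), (3, 4), (5, 6)], 150, 0, 151, 0, 127, 127, 0⟩,
  ⟨[(0, 1), (1, 2), (2, 3), (3, 5), (5, 7)], 135, 0, 152, 0, 79, 64, 0⟩,
  ⟨[(0, 1), (1, 2), (5, 6)], 85, 0, 153, 0, 3, 16, 0⟩,
  ⟨[(0, 1), (1, 3), (3, 4), (4, 5), (5, 7)], 137, 0, 154, 0, 64, 64, 0⟩,
  ⟨[(0, 4), (1, 4)], 155, 0, 156, 0, 2, 2, 2⟩,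
  ⟨[(0, 4), (2, 4)], 88, 0, 157, 0, 8, 8, 6⟩,
  ⟨[(0, 5), (3, 4), (5, 6), (6, 7)], 158, 0, 159, 0, 31, 63, 0⟩,
  ⟨[(0, 5), (4, 5)], 89, 0, 160, 0, 2, 2, 2⟩,
  ⟨[(0, 6), (2, 3), (3, 4), (6, 7)], 161, 0, 162, 0, 15, 112, 0⟩,
  ⟨[(0, 6), (1, 2), (3, 4), (6, 7)], 163, 0, 164, 0, 28, 112, 0⟩,
  ⟨[(0, 6), (1, 6), (3, 4), (6, 7)], 91, 0, 165, 0, 15, 112, 0⟩,
  ⟨[(0, 7), (1, 2), (2, 3), (3, 5), (5, 6), (6, 7)], 124, 8, 50, 64, 1, 8, 0⟩,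
  ⟨[(0, 6), (1, 2), (2, 6), (6, 7)], 92, 0, 166, 0, 4, 4, 4⟩,
  ⟨[(0, 7), (1, 3), (3, 4), (4, 5), (5, 6), (6, 7)], 126, 8, 56, 64, 1, 8, 0⟩,
  ⟨[(0, 7), (2, 3), (3, 4), (4, 5), (5, 6), (6, 7)], 167, 0, 168, 0, 60, 31, 0⟩,
  ⟨[(0, 6), (2, 6)], 96, 0, 169, 0, 4, 4, 4⟩,
  ⟨[(0, 7), (3, 4), (4, 5), (5, 6)], 170, 0, 171, 0, 63, 31, 0⟩,
  ⟨[(0, 7), (1, 2), (4, 5), (5, 6)], 172, 0, 173, 0, 121, 127, 0⟩,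
  ⟨[(0, 6), (4, 6)], 98, 0, 174, 0, 2, 2, 2⟩,
  ⟨[(0, 7), (2, 3), (3, 4), (5, 6)], 175, 0, 176, 0, 31, 79, 0⟩,
  ⟨[(0, 7), (1, 2), (3, 4), (5, 6)], 177, 0, 178, 0, 15, 79, 0⟩,
  ⟨[(0, 7), (1, 7), (3, 4), (5, 6)], 100, 0, 179, 0, 31, 79, 0⟩,
  ⟨[(1, 2), (2, 3), (3, 5), (5, 7)], 114, 0, 180, 0, 74, 64, 0⟩,
  ⟨[(0, 7), (1, 2), (2, 7), (5, 6)], 101, 0, 181, 0, 118, 127, 0⟩,
  ⟨[(1, 3), (3, 4), (4, 5), (5, 7)], 116, 0, 182, 0, 69, 64, 0⟩,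
  ⟨[(0, 1), (1, 3), (2, 4), (3, 5), (4, 6), (6, 7)], 183, 0, 10, 0, 4, 2, 4⟩,
  ⟨[(0, 7), (1, 2), (2, 3), (3, 4)], 174, 44, 42, 64, 28, 112, 0⟩,
  ⟨[(0, 7), (1, 7), (2, 3), (3, 4)], 104, 0, 184, 0, 15, 112, 0⟩,
  ⟨[(0, 7), (1, 2), (2, 7), (3, 4)], 105, 0, 185, 0, 31, 112, 0⟩,
  ⟨[(2, 3), (3, 5), (5, 6), (6, 7)], 142, 1, 186, 0, 1, 1, 0⟩,
  ⟨[(1, 3), (2, 3), (3, 4), (4, 5), (5, 6), (6, 7)], 187, 0, 188, 0, 112, 69, 0⟩,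
  ⟨[(0, 1), (1, 2), (2, 4), (3, 5), (4, 6), (5, 7)], 168, 0, 189, 0, 4, 2, 4⟩,
  ⟨[(1, 2), (3, 4), (4, 5), (5, 6)], 190, 0, 191, 0, 118, 79, 0⟩,
  ⟨[(0, 1), (1, 2), (2, 3), (3, 5), (4, 6), (5, 7)], 171, 0, 192, 0, 8, 4, 6⟩,
  ⟨[(0, 1), (1, 2), (4, 5), (5, 6)], 111, 0, 155, 53, 3, 16, 0⟩,
  ⟨[(0, 1), (1, 3), (3, 4), (4, 6), (5, 7), (6, 7)], 173, 0, 193, 0, 8, 4, 6⟩,
  ⟨[(0, 1), (1, 2), (2, 4), (3, 5), (4, 5), (5, 7)], 176, 0, 194, 0, 4, 2, 4⟩,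
  ⟨[(0, 1), (1, 2), (3, 4), (5, 6)], 113, 0, 195, 0, 118, 127, 0⟩,
  ⟨[(0, 1), (1, 3), (3, 5), (5, 7)], 178, 0, 196, 0, 69, 64, 0⟩,
  ⟨[(0, 2), (1, 3), (2, 4), (3, 6), (4, 5), (6, 7)], 192, 32, 52, 64, 2, 1, 2⟩,
  ⟨[(0, 2), (1, 3), (2, 3), (3, 4), (4, 5), (5, 7)], 197, 0, 198, 0, 2, 1, 2⟩,
  ⟨[(0, 2), (1, 4), (2, 3), (3, 5), (4, 6), (6, 7)], 193, 32, 58, 64, 6, 16, 2⟩,
  ⟨[(0, 4)], 117, 0, 199, 0, 2, 2, 2⟩,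
  ⟨[(0, 5), (2, 3), (3, 4), (5, 6), (6, 7)], 200, 0, 201, 0, 28, 63, 0⟩,
  ⟨[(0, 5), (1, 2), (3, 4), (5, 6), (6, 7)], 202, 0, 203, 0, 31, 63, 0⟩,
  ⟨[(0, 5), (1, 5), (3, 4), (5, 6), (6, 7)], 119, 0, 204, 0, 28, 63, 0⟩,
  ⟨[(0, 6), (1, 2), (2, 3), (3, 5), (5, 7)], 159, 8, 205, 0, 1, 8, 0⟩,
  ⟨[(0, 6), (1, 2), (2, 3), (3, 4), (6, 7)], 206, 0, 207, 0, 28, 112, 0⟩,
  ⟨[(0, 6), (1, 6), (2, 3), (3, 4), (6, 7)], 121, 0, 208, 0, 15, 112, 0⟩,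
  ⟨[(0, 7), (1, 2), (2, 4), (3, 5), (4, 5), (5, 6), (6, 7)], 162, 8, 63, 64, 1, 8, 0⟩,
  ⟨[(0, 6), (1, 2), (2, 6), (3, 4), (6, 7)], 122, 0, 209, 0, 31, 112, 0⟩,
  ⟨[(0, 7), (1, 3), (3, 5), (5, 6), (6, 7)], 164, 8, 69, 64, 1, 8, 0⟩,
  ⟨[(0, 7), (2, 3), (3, 5), (5, 6), (6, 7)], 210, 0, 211, 0, 48, 31, 0⟩,
  ⟨[(0, 7), (1, 3), (2, 3), (3, 4), (4, 5), (5, 6), (6, 7)], 212, 0, 213, 0, 60, 31, 0⟩,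
  ⟨[(0, 7), (1, 7), (2, 3), (3, 4), (4, 5), (5, 6), (6, 7)], 127, 0, 214, 0, 63, 31, 0⟩,
  ⟨[(1, 2), (2, 4), (3, 5), (4, 6), (5, 7)], 144, 0, 170, 104, 4, 2, 4⟩,
  ⟨[(0, 7), (1, 2), (3, 4), (4, 5), (5, 6)], 215, 0, 216, 0, 63, 31, 0⟩,
  ⟨[(0, 7), (1, 7), (3, 4), (4, 5), (5, 6)], 129, 0, 217, 0, 60, 31, 0⟩,
  ⟨[(1, 2), (2, 3), (3, 5), (4, 6), (5, 7)], 146, 0, 218, 0, 8, 4, 6⟩,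
  ⟨[(0, 7), (1, 2), (2, 7), (4, 5), (5, 6)], 130, 0, 118, 53, 112, 127, 0⟩,
  ⟨[(1, 3), (3, 4), (4, 6), (5, 7), (6, 7)], 148, 0, 219, 0, 8, 4, 6⟩,
  ⟨[(0, 7), (1, 2), (2, 3), (3, 4), (5, 6)], 139, 44, 183, 40, 31, 79, 0⟩,
  ⟨[(0, 7), (1, 7), (2, 3), (3, 4), (5, 6)], 132, 0, 220, 0, 28, 79, 0⟩,
  ⟨[(1, 2), (2, 4), (3, 5), (4, 5), (5, 7)], 149, 0, 215, 122, 4, 2, 4⟩,
  ⟨[(0, 7), (1, 2), (2, 7), (3, 4), (5, 6)], 133, 0, 221, 0, 15, 79, 0⟩,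
  ⟨[(1, 3), (3, 5), (5, 7)], 151, 0, 222, 0, 64, 64, 0⟩,
  ⟨[(2, 3), (3, 5), (5, 7)], 179, 1, 223, 0, 1, 1, 0⟩,
  ⟨[(0, 1), (1, 3), (2, 4), (3, 6), (4, 5), (5, 6), (6, 7)], 224, 0, 74, 64, 48, 35, 0⟩,
  ⟨[(1, 3), (2, 3), (3, 4), (4, 5), (5, 7)], 225, 0, 226, 0, 121, 69, 0⟩,
  ⟨[(0, 1), (1, 4), (2, 3), (3, 5), (4, 6), (5, 6), (6, 7)], 227, 0, 83, 64, 28, 48, 0⟩,
  ⟨[(1, 3), (2, 4), (3, 5), (4, 6), (6, 7)], 138, 0, 172, 104, 4, 2, 4⟩,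
  ⟨[(2, 4), (3, 5), (4, 5), (5, 6), (6, 7)], 184, 1, 228, 0, 1, 1, 0⟩,
  ⟨[(1, 3), (2, 3), (3, 5), (5, 6), (6, 7)], 229, 0, 230, 0, 118, 69, 0⟩,
  ⟨[(0, 1), (1, 2), (2, 4), (3, 6), (4, 5), (5, 7), (6, 7)], 211, 0, 231, 0, 15, 112, 0⟩,
  ⟨[(0, 1), (1, 3), (2, 3), (3, 4), (4, 5), (5, 6), (6, 7)], 143, 0, 232, 0, 121, 69, 0⟩,
  ⟨[(0, 1), (1, 4), (3, 5), (4, 6), (5, 7)], 213, 0, 233, 0, 8, 4, 6⟩,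
  ⟨[(0, 2), (1, 3), (2, 5), (3, 6), (4, 7)], 194, 36, 234, 0, 2, 1, 2⟩,
  ⟨[(0, 1), (1, 2), (3, 4), (4, 5), (5, 6)], 145, 0, 120, 53, 127, 79, 0⟩,
  ⟨[(0, 1), (1, 3), (3, 5), (4, 6), (5, 7)], 216, 0, 235, 0, 8, 4, 6⟩,
  ⟨[(0, 2), (1, 3), (2, 4), (3, 6), (4, 7), (5, 7), (6, 7)], 152, 32, 236, 0, 2, 1, 2⟩,
  ⟨[(0, 2), (1, 4), (2, 3), (3, 5), (4, 7)], 154, 32, 237, 0, 6, 16, 2⟩,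
  ⟨[(0, 2), (1, 3), (2, 5), (3, 6), (6, 7)], 189, 40, 65, 64, 2, 1, 2⟩,
  ⟨[(0, 2), (1, 3), (2, 3), (3, 5), (5, 7)], 238, 0, 206, 21, 2, 1, 2⟩,
  ⟨[(0, 2), (1, 4), (2, 3), (3, 6), (4, 5), (5, 6), (6, 7)], 235, 32, 71, 64, 28, 79, 0⟩,
  ⟨[(0, 2), (1, 3), (3, 4), (4, 5), (5, 7)], 153, 0, 239, 0, 2, 1, 2⟩,
  ⟨[(0, 3), (1, 4), (3, 5), (4, 6), (6, 7)], 199, 21, 80, 64, 6, 16, 2⟩,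
  ⟨[(0, 5), (1, 2), (2, 3), (3, 4), (5, 6), (6, 7)], 198, 22, 240, 0, 6, 19, 2⟩,
  ⟨[(0, 5), (1, 5), (2, 3), (3, 4), (5, 6), (6, 7)], 156, 0, 241, 0, 31, 63, 0⟩,
  ⟨[(0, 6), (1, 2), (2, 4), (3, 5), (4, 5), (5, 7)], 201, 8, 190, 122, 1, 8, 0⟩,
  ⟨[(0, 5), (1, 2), (2, 5), (3, 4), (5, 6), (6, 7)], 157, 0, 242, 0, 28, 63, 0⟩,
  ⟨[(0, 6), (1, 3), (3, 5), (5, 7)], 203, 8, 243, 0, 1, 8, 0⟩,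
  ⟨[(0, 6), (2, 3), (3, 5), (5, 7)], 244, 0, 229, 114, 60, 31, 0⟩,
  ⟨[(0, 7), (1, 3), (2, 4), (3, 6), (4, 5), (5, 7)], 245, 0, 103, 64, 121, 79, 0⟩,
  ⟨[(0, 6), (1, 2), (2, 3), (3, 4), (4, 6), (6, 7)], 160, 0, 97, 105, 31, 112, 0⟩,
  ⟨[(0, 7), (1, 3), (2, 4), (3, 5), (5, 6), (6, 7)], 207, 8, 87, 64, 1, 8, 0⟩,
  ⟨[(0, 7), (2, 4), (3, 5), (4, 5), (5, 6), (6, 7)], 246, 0, 247, 0, 4, 2, 4⟩,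
  ⟨[(0, 7), (1, 3), (2, 3), (3, 5), (5, 6), (6, 7)], 223, 116, 248, 0, 48, 31, 0⟩,
  ⟨[(0, 7), (1, 7), (2, 3), (3, 5), (5, 6), (6, 7)], 165, 0, 249, 0, 51, 31, 0⟩,
  ⟨[(1, 2), (2, 4), (3, 6), (4, 5), (5, 7), (6, 7)], 186, 0, 250, 0, 15, 112, 0⟩,
  ⟨[(0, 7), (1, 3), (2, 7), (3, 4), (4, 5), (5, 6)], 166, 0, 251, 0, 63, 31, 0⟩,
  ⟨[(1, 4), (3, 5), (4, 6), (5, 7)], 188, 0, 134, 104, 8, 4, 6⟩,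
  ⟨[(2, 4), (3, 5), (4, 6), (5, 7)], 214, 1, 167, 96, 1, 1, 0⟩,
  ⟨[(0, 7), (1, 2), (2, 7), (3, 4), (4, 5), (5, 6)], 169, 0, 90, 53, 60, 31, 0⟩,
  ⟨[(1, 3), (3, 5), (4, 6), (5, 7)], 191, 0, 252, 0, 8, 4, 6⟩,
  ⟨[(2, 3), (3, 5), (4, 6), (5, 7)], 217, 1, 210, 98, 1, 1, 0⟩,
  ⟨[(0, 1), (1, 3), (2, 4), (3, 6), (4, 7), (5, 6)], 253, 0, 254, 0, 48, 35, 0⟩,
  ⟨[(0, 1), (1, 4), (2, 3), (3, 5), (4, 7), (5, 7)], 255, 0, 256, 0, 28, 48, 0⟩,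
  ⟨[(2, 4), (3, 5), (4, 5), (5, 7)], 220, 1, 212, 114, 1, 1, 0⟩,
  ⟨[(1, 3), (2, 3), (3, 5), (5, 7)], 257, 0, 258, 0, 127, 69, 0⟩,
  ⟨[(0, 1), (1, 4), (2, 3), (3, 6), (4, 5), (6, 7)], 259, 0, 99, 64, 15, 79, 0⟩,
  ⟨[(0, 1), (1, 2), (2, 4), (3, 6), (4, 5), (6, 7)], 209, 114, 260, 0, 51, 35, 0⟩,
  ⟨[(1, 3), (2, 4), (3, 6), (4, 5), (5, 6), (6, 7)], 180, 0, 261, 0, 51, 35, 0⟩,
  ⟨[(0, 1), (1, 3), (2, 3), (3, 4), (4, 5), (5, 7)], 181, 0, 262, 0, 112, 69, 0⟩,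
  ⟨[(0, 1), (1, 4), (3, 5), (4, 6), (5, 6), (6, 7)], 263, 0, 264, 0, 31, 48, 0⟩,
  ⟨[(1, 4), (2, 3), (3, 5), (4, 6), (5, 6), (6, 7)], 182, 0, 136, 104, 31, 48, 0⟩,
  ⟨[(0, 1), (1, 2), (2, 5), (3, 6), (5, 7), (6, 7)], 247, 0, 265, 0, 15, 112, 0⟩,
  ⟨[(0, 1), (1, 3), (2, 3), (3, 5), (5, 6), (6, 7)], 185, 0, 266, 0, 127, 69, 0⟩,
  ⟨[(0, 1), (1, 4), (3, 6), (4, 5), (5, 7), (6, 7)], 248, 0, 267, 0, 51, 28, 0⟩,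
  ⟨[(0, 2), (1, 3), (2, 5), (3, 7), (4, 6), (6, 7)], 260, 0, 161, 48, 2, 1, 2⟩,
  ⟨[(0, 2), (1, 4), (2, 4), (3, 5), (4, 6), (5, 7)], 268, 0, 269, 0, 8, 4, 6⟩,
  ⟨[(0, 2), (1, 5), (2, 3), (3, 6), (4, 7), (5, 6)], 264, 0, 270, 0, 31, 118, 0⟩,
  ⟨[(0, 3), (1, 4), (2, 6), (3, 7), (4, 7), (5, 7)], 234, 4, 246, 48, 1, 4, 0⟩,
  ⟨[(0, 2), (1, 4), (2, 3), (3, 6), (4, 7), (5, 6)], 196, 32, 271, 0, 31, 127, 0⟩,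
  ⟨[(0, 3), (1, 4), (2, 5), (3, 7), (4, 7), (5, 7)], 236, 4, 272, 0, 1, 4, 0⟩,
  ⟨[(0, 3), (1, 5), (2, 4), (3, 6), (4, 6), (6, 7)], 237, 4, 115, 64, 1, 4, 0⟩,
  ⟨[(0, 2), (1, 3), (3, 5), (5, 7)], 195, 0, 273, 0, 2, 1, 2⟩,
  ⟨[(0, 3), (1, 4), (2, 4), (3, 5), (4, 6), (6, 7)], 274, 0, 109, 64, 28, 48, 0⟩,
  ⟨[(0, 6), (1, 3), (2, 4), (3, 5), (5, 7)], 240, 8, 147, 122, 1, 8, 0⟩,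
  ⟨[(0, 6), (2, 4), (3, 5), (4, 5), (5, 7)], 272, 56, 187, 114, 4, 2, 4⟩,
  ⟨[(0, 6), (1, 3), (2, 3), (3, 5), (5, 7)], 275, 0, 257, 94, 60, 31, 0⟩,
  ⟨[(0, 7), (1, 4), (2, 3), (3, 6), (4, 5), (5, 7), (6, 7)], 276, 0, 131, 64, 112, 112, 0⟩,
  ⟨[(0, 6), (1, 6), (2, 3), (3, 5), (5, 7)], 204, 0, 46, 56, 63, 31, 0⟩,
  ⟨[(0, 7), (1, 3), (2, 4), (3, 6), (4, 5), (5, 6), (6, 7)], 205, 0, 277, 0, 112, 79, 0⟩,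
  ⟨[(0, 7), (1, 7), (2, 4), (3, 5), (4, 5), (5, 6), (6, 7)], 208, 0, 278, 0, 4, 2, 4⟩,
  ⟨[(1, 2), (2, 5), (3, 6), (5, 7), (6, 7)], 228, 0, 268, 114, 15, 112, 0⟩,
  ⟨[(1, 4), (3, 6), (4, 5), (5, 7), (6, 7)], 230, 0, 279, 0, 48, 28, 0⟩,
  ⟨[(2, 4), (3, 6), (4, 5), (5, 7), (6, 7)], 249, 1, 95, 56, 1, 1, 0⟩,
  ⟨[(0, 1), (1, 3), (2, 5), (3, 7), (4, 6), (5, 7), (6, 7)], 266, 114, 123, 48, 48, 47, 0⟩,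
  ⟨[(1, 4), (2, 4), (3, 5), (4, 6), (5, 7)], 265, 116, 175, 104, 2, 8, 2⟩,
  ⟨[(0, 1), (1, 4), (2, 3), (3, 6), (4, 7), (5, 7), (6, 7)], 280, 0, 281, 0, 31, 127, 0⟩,
  ⟨[(1, 3), (2, 4), (3, 6), (4, 7), (5, 6)], 218, 0, 282, 0, 51, 35, 0⟩,
  ⟨[(0, 2), (1, 4), (2, 5), (3, 7), (4, 5)], 254, 4, 244, 52, 1, 4, 0⟩,
  ⟨[(1, 4), (2, 3), (3, 5), (4, 7), (5, 7)], 219, 0, 283, 0, 31, 48, 0⟩,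
  ⟨[(0, 2), (1, 5), (2, 4), (3, 6), (6, 7)], 256, 4, 150, 64, 1, 4, 0⟩,
  ⟨[(0, 1), (1, 3), (2, 3), (3, 5), (5, 7)], 221, 0, 284, 0, 118, 69, 0⟩,
  ⟨[(0, 1), (1, 4), (3, 6), (4, 5), (6, 7)], 285, 0, 286, 0, 15, 79, 0⟩,
  ⟨[(1, 4), (2, 3), (3, 6), (4, 5), (6, 7)], 222, 0, 287, 0, 15, 79, 0⟩,
  ⟨[(0, 2), (1, 3), (2, 5), (3, 7), (4, 6), (5, 7), (6, 7)], 231, 0, 288, 0, 2, 1, 2⟩,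
  ⟨[(0, 1), (1, 4), (2, 5), (3, 7), (4, 6)], 277, 0, 289, 0, 121, 74, 0⟩,
  ⟨[(0, 2), (1, 4), (2, 4), (3, 5), (4, 6), (5, 6), (6, 7)], 290, 0, 291, 0, 31, 48, 0⟩,
  ⟨[(1, 4), (3, 5), (4, 6), (5, 6), (6, 7)], 226, 0, 177, 104, 28, 48, 0⟩,
  ⟨[(0, 2), (1, 5), (2, 3), (3, 6), (4, 7)], 233, 0, 276, 53, 28, 118, 0⟩,
  ⟨[(0, 2), (1, 3), (2, 6), (3, 7), (4, 5), (5, 6), (6, 7)], 251, 114, 140, 48, 2, 1, 2⟩,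
  ⟨[(0, 2), (1, 4), (2, 4), (3, 6), (4, 5), (5, 7), (6, 7)], 250, 116, 292, 0, 51, 28, 0⟩,
  ⟨[(0, 2), (1, 5), (2, 3), (3, 7), (4, 6), (5, 7), (6, 7)], 286, 0, 280, 25, 31, 118, 0⟩,
  ⟨[(0, 2), (1, 4), (3, 5), (4, 6), (5, 7)], 232, 0, 106, 72, 8, 4, 6⟩,
  ⟨[(0, 3), (1, 5), (3, 6), (4, 7), (5, 6)], 291, 0, 293, 0, 28, 118, 0⟩,
  ⟨[(0, 3), (1, 6), (2, 4), (3, 7), (4, 7), (5, 6), (6, 7)], 270, 4, 294, 0, 1, 4, 0⟩,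
  ⟨[(0, 3), (1, 5), (2, 4), (3, 7), (4, 7)], 271, 4, 295, 0, 1, 4, 0⟩,
  ⟨[(0, 4), (1, 5), (2, 6), (3, 4), (4, 5), (5, 6), (6, 7)], 241, 52, 37, 0, 4, 1, 4⟩,
  ⟨[(0, 3), (1, 4), (2, 4), (3, 6), (4, 5), (5, 6), (6, 7)], 288, 42, 128, 64, 31, 79, 0⟩,
  ⟨[(0, 3), (1, 4), (2, 3), (3, 5), (4, 6), (5, 6), (6, 7)], 239, 0, 107, 72, 31, 48, 0⟩,
  ⟨[(0, 6), (1, 3), (2, 6), (3, 5), (5, 7), (6, 7)], 242, 0, 238, 94, 63, 31, 0⟩,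
  ⟨[(0, 7), (1, 4), (2, 3), (3, 6), (4, 5), (6, 7)], 243, 0, 296, 0, 121, 112, 0⟩,
  ⟨[(1, 4), (2, 5), (3, 7), (4, 6)], 261, 0, 297, 0, 112, 74, 0⟩,
  ⟨[(2, 5), (3, 6), (5, 7), (6, 7)], 278, 1, 78, 56, 1, 1, 0⟩,
  ⟨[(0, 1), (1, 5), (2, 3), (3, 7), (4, 6), (6, 7)], 284, 94, 163, 35, 31, 118, 0⟩,
  ⟨[(1, 4), (2, 3), (3, 6), (4, 7), (5, 7), (6, 7)], 252, 0, 298, 0, 28, 127, 0⟩,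
  ⟨[(0, 2), (1, 5), (2, 4), (3, 7)], 281, 4, 275, 39, 1, 4, 0⟩,
  ⟨[(0, 1), (1, 4), (2, 5), (3, 7)], 299, 0, 300, 0, 127, 118, 0⟩,
  ⟨[(0, 1), (1, 5), (2, 4), (3, 6), (4, 5), (6, 7)], 295, 18, 225, 104, 112, 118, 0⟩,
  ⟨[(0, 2), (1, 4), (2, 4), (3, 6), (4, 5), (6, 7)], 279, 103, 301, 0, 28, 79, 0⟩,
  ⟨[(1, 4), (3, 6), (4, 5), (6, 7)], 258, 0, 285, 94, 15, 79, 0⟩,
  ⟨[(0, 2), (1, 5), (2, 3), (3, 7), (4, 6), (6, 7)], 267, 0, 259, 53, 28, 118, 0⟩,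
  ⟨[(0, 1), (1, 5), (2, 4), (3, 7), (4, 6), (5, 6)], 296, 0, 302, 0, 127, 74, 0⟩,
  ⟨[(0, 3), (1, 4), (2, 6), (4, 7), (5, 6), (6, 7)], 273, 38, 125, 81, 28, 112, 0⟩,
  ⟨[(0, 2), (1, 5), (2, 6), (3, 6), (4, 7), (5, 6)], 303, 0, 202, 81, 31, 112, 0⟩,
  ⟨[(0, 2), (1, 4), (3, 5), (4, 6), (5, 6), (6, 7)], 262, 0, 141, 72, 28, 48, 0⟩,
  ⟨[(0, 3), (1, 5), (3, 6), (4, 7)], 269, 0, 245, 53, 31, 118, 0⟩,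
  ⟨[(0, 3), (1, 5), (3, 7), (4, 6), (5, 7), (6, 7)], 301, 0, 253, 25, 28, 118, 0⟩,
  ⟨[(0, 4), (1, 6), (2, 3), (3, 7), (5, 6), (6, 7)], 293, 4, 299, 25, 1, 4, 0⟩,
  ⟨[(0, 4), (1, 7), (2, 5), (3, 4), (4, 7), (6, 7)], 298, 25, 304, 0, 112, 69, 0⟩,
  ⟨[(0, 4), (1, 6), (2, 5), (3, 4), (4, 6), (6, 7)], 283, 17, 197, 64, 121, 79, 0⟩,
  ⟨[(1, 5), (2, 4), (3, 7), (4, 6), (5, 6)], 287, 0, 305, 0, 118, 74, 0⟩,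
  ⟨[(0, 1), (1, 5), (2, 6), (3, 5), (4, 7)], 305, 19, 255, 104, 31, 112, 0⟩,
  ⟨[(0, 1), (1, 5), (2, 4), (3, 7), (4, 5)], 294, 26, 306, 0, 121, 118, 0⟩,
  ⟨[(1, 4), (2, 5), (3, 7)], 282, 0, 307, 0, 118, 118, 0⟩,
  ⟨[(0, 2), (1, 5), (2, 6), (3, 6), (4, 5), (5, 6), (6, 7)], 308, 0, 158, 81, 60, 31, 0⟩,
  ⟨[(0, 3), (1, 5), (3, 7), (4, 6), (6, 7)], 292, 0, 224, 53, 31, 118, 0⟩,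
  ⟨[(0, 2), (1, 6), (2, 5), (3, 5), (4, 7)], 309, 0, 263, 104, 15, 79, 0⟩,
  ⟨[(0, 2), (1, 5), (2, 6), (3, 5), (4, 7)], 289, 0, 310, 0, 28, 112, 0⟩,
  ⟨[(0, 5), (1, 5), (2, 6), (3, 5), (4, 6)], 307, 9, 274, 66, 2, 4, 2⟩,
  ⟨[(0, 1), (1, 6), (2, 5), (3, 6), (4, 7), (5, 6)], 297, 19, 227, 104, 28, 79, 0⟩,
  ⟨[(0, 2), (1, 6), (2, 5), (3, 5), (4, 6), (6, 7)], 311, 0, 290, 104, 60, 31, 0⟩,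
  ⟨[(0, 1), (1, 5), (2, 6), (3, 5), (4, 6), (6, 7)], 304, 9, 200, 81, 2, 4, 2⟩,
  ⟨[(0, 2), (1, 5), (2, 6), (3, 5), (4, 6), (6, 7)], 300, 0, 312, 0, 63, 31, 0⟩,
  ⟨[(0, 2), (1, 6), (2, 5), (3, 6), (4, 7), (5, 6)], 302, 0, 313, 0, 15, 79, 0⟩,
  ⟨[(0, 3), (1, 6), (2, 7), (3, 7), (4, 7), (5, 7)], 312, 0, 311, 122, 5, 32, 0⟩,
  ⟨[(0, 2), (1, 6), (2, 5), (3, 6), (4, 5), (5, 6), (6, 7)], 306, 0, 314, 0, 63, 31, 0⟩,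
  ⟨[(0, 3), (1, 6), (2, 7), (3, 7), (4, 6), (5, 6), (6, 7)], 310, 0, 308, 106, 5, 32, 0⟩,
  ⟨[(0, 3), (1, 7), (2, 6), (3, 6), (4, 6), (5, 6), (6, 7)], 314, 0, 309, 122, 5, 32, 0⟩,
  ⟨[(0, 3), (1, 7), (2, 6), (3, 6), (4, 7), (5, 7)], 313, 0, 303, 106, 5, 32, 0⟩]

/-- The representative number j. -/
def rep (j : ℕ) : Perm (Fin 8) := perm ((rows.map Row.rep).getD j [])

/-- The check on one row. -/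
def check (r : Row) : Bool :=
  let ρ := perm r.rep
  let g₁ : Perm (Fin 8) := swap 0 1
  let g₂ : Perm (Fin 8) := finRotate 8
  (decide (r.j₁ < rows.length)) && (decide (r.j₂ < rows.length)) &&
    (List.finRange 8).all (fun i => g₁ (ρ i) == rep r.j₁ (word r.e₁ i)) &&
    (List.finRange 8).all (fun i => g₂ (ρ i) == rep r.j₂ (word r.e₂ i)) &&
    (List.finRange 8).all (fun i => word r.c (ρ i) == ρ (word r.d i)) &&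
    (word r.c r.mv != r.mv)

lemma all_check : rows.all check = true := by decide +kernel

lemma gen_normalises : ∀ k, k < 7 → ∀ i, i < k →
    ∃ j, j < k ∧ gen.getD k 1 * gen.getD i 1 * (gen.getD k 1)⁻¹ = gen.getD j 1 := by
  decide +kernel

lemma gen_sq : ∀ k, k < 7 → gen.getD k 1 * gen.getD k 1 = 1 := by decide +kernel

lemma gen_mem : ∀ {k i : ℕ}, i < k → gen.getD i 1 ∈ K k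
  | 0, _, h => absurd h (Nat.not_lt_zero _)
  | k + 1, i, h => by
    rcases Nat.lt_succ_iff_lt_or_eq.mp h with h | rfl
    · exact Subgroup.mem_sup_right (gen_mem h)
    · exact Subgroup.mem_sup_left (Subgroup.mem_zpowers _)

lemma K_eq_closure : ∀ k, K k = Subgroup.closure {x | ∃ i, i < k ∧ gen.getD i 1 = x}
  | 0 => by simp [K]
  | k + 1 => by
    refine le_antisymm (sup_le (Subgroup.zpowers_le.mpr (Subgroup.subset_closure ⟨k, by omega, rfl⟩)) ?_) ?_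
    · rw [K_eq_closure k]
      exact Subgroup.closure_mono fun x ⟨i, hi, hx⟩ => ⟨i, by omega, hx⟩
    · exact (Subgroup.closure_le _).mpr fun x ⟨i, hi, hx⟩ => hx ▸ gen_mem hi

lemma isPGroup_K : ∀ k, k ≤ 7 → IsPGroup 2 (K k)
  | 0, _ => IsPGroup.of_bot
  | k + 1, h => by
    refine IsPGroup.to_sup_of_normal_right' (fun x => ⟨1, ?_⟩) (isPGroup_K k (by omega)) ?_
    · obtain ⟨x, ⟨n, rfl⟩⟩ := x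
      refine Subtype.ext ?_
      show ((gen.getD k 1) ^ n) ^ 2 ^ 1 = 1
      rw [pow_one, sq, ← zpow_add, ← two_mul, zpow_mul, zpow_two, gen_sq k (by omega), one_zpow]
    · refine Subgroup.zpowers_le.mpr ?_
      have hmap : (K k).map (MulAut.conj (gen.getD k 1)).toMonoidHom ≤ K k := by
        rw [K_eq_closure, MonoidHom.map_closure, Subgroup.closure_le]
        rintro _ ⟨_, ⟨i, hi, rfl⟩, rfl⟩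
        obtain ⟨j, hj, he⟩ := gen_normalises k (by omega) i hi
        exact Subgroup.subset_closure ⟨j, hj, he.symm⟩
      rw [Subgroup.mem_normalizer_iff]
      intro x
      refine ⟨fun hx => hmap ⟨x, hx, rfl⟩, fun hx => ?_⟩
      have h2 := hmap ⟨_, hx, rfl⟩
      have hsq := gen_sq k (by omega)
      have hinv : (gen.getD k 1)⁻¹ = gen.getD k 1 := inv_eq_of_mul_eq_one_right hsq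
      simp only [MulEquiv.toMonoidHom_eq_coe, MonoidHom.coe_coe, MulAut.conj_apply, hinv] at h2
      rwa [← mul_assoc, ← mul_assoc, hsq, one_mul, mul_assoc, hsq, mul_one] at h2

lemma word_mem (c : ℕ) : word c ∈ K 7 := by
  refine Subgroup.list_prod_mem _ fun x hx => ?_
  obtain ⟨i, hi, rfl⟩ := List.mem_map.mp hx
  rw [List.mem_range] at hi
  show (if c.testBit i then gen.getD i 1 else 1) ∈ K 7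
  split_ifs
  · exact gen_mem hi
  · exact one_mem _

/-- The union of the listed cosets. -/
def cover : Set (Perm (Fin 8)) := {x | ∃ r ∈ rows, (perm r.rep)⁻¹ * x ∈ K 7}

lemma row_spec {r : Row} (hr : r ∈ rows) :
    (∃ s ∈ rows, swap 0 1 * perm r.rep = perm s.rep * word r.e₁) ∧
    (∃ s ∈ rows, finRotate 8 * perm r.rep = perm s.rep * word r.e₂) ∧
    word r.c * perm r.rep = perm r.rep * word r.d ∧ word r.c ≠ 1 := by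
  have h := List.all_eq_true.mp all_check r hr
  simp only [check, Bool.and_eq_true, decide_eq_true_eq, List.all_eq_true, List.mem_finRange,
    forall_const, beq_iff_eq, bne_iff_ne] at h
  obtain ⟨⟨⟨⟨⟨h1, h2⟩, h3⟩, h4⟩, h5⟩, h6⟩ := h
  have hrep : ∀ j (hj : j < rows.length), rep j = perm (rows[j]).rep := fun j hj => by
    rw [rep, List.getD_eq_getElem _ _ (by simpa using hj), List.getElem_map]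
  refine ⟨⟨rows[r.j₁], List.getElem_mem h1, ?_⟩, ⟨rows[r.j₂], List.getElem_mem h2, ?_⟩, Equiv.ext h5, ?_⟩
  · rw [← hrep _ h1]; exact Equiv.ext h3
  · rw [← hrep _ h2]; exact Equiv.ext h4
  · intro hc
    exact h6 (by rw [hc]; rfl)

lemma cover_univ (x : Perm (Fin 8)) : x ∈ cover := by
  have hs : ∀ g, (g = swap 0 1 ∨ g = finRotate 8) → ∀ y ∈ cover, g * y ∈ cover := by
    rintro g hg y ⟨r, hr, hy⟩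
    obtain ⟨⟨s₁, hs₁, e₁⟩, ⟨s₂, hs₂, e₂⟩, -, -⟩ := row_spec hr
    rcases hg with rfl | rfl
    · refine ⟨s₁, hs₁, ?_⟩
      have : (perm s₁.rep)⁻¹ * (swap 0 1 * y) = word r.e₁ * ((perm r.rep)⁻¹ * y) := by
        rw [eq_inv_mul_iff_mul_eq.mpr e₁.symm]; group
      rw [this]
      exact mul_mem (word_mem _) hy
    · refine ⟨s₂, hs₂, ?_⟩
      have : (perm s₂.rep)⁻¹ * (finRotate 8 * y) = word r.e₂ * ((perm r.rep)⁻¹ * y) := by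
        rw [eq_inv_mul_iff_mul_eq.mpr e₂.symm]; group
      rw [this]
      exact mul_mem (word_mem _) hy
  have hgen : Subgroup.closure ({finRotate 8, swap 0 1} : Set (Perm (Fin 8))) = ⊤ := by
    have h := Equiv.Perm.closure_cycle_adjacent_swap (σ := finRotate 8) (isCycle_finRotate) support_finRotate 0
    simpa using h
  have hall : ∀ g : Perm (Fin 8), ∀ y ∈ cover, g * y ∈ cover := by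
    intro g
    have hg : g ∈ Subgroup.closure ({finRotate 8, swap 0 1} : Set (Perm (Fin 8))) := hgen ▸ Subgroup.mem_top g
    rw [← Subgroup.mem_toSubmonoid, Subgroup.closure_toSubmonoid_of_finite] at hg
    induction hg using Submonoid.closure_induction with
    | mem z hz =>
      rcases hz with rfl | rfl
      · exact hs _ (Or.inr rfl)
      · exact hs _ (Or.inl rfl)
    | one => intro y hy; rwa [one_mul]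
    | mul a b _ _ iha ihb => intro y hy; rw [mul_assoc]; exact iha _ (ihb _ hy)
  have h0 : rows[0]'(by decide +kernel) ∈ rows := List.getElem_mem _
  have hbase : (1 : Perm (Fin 8)) ∈ cover := ⟨_, h0, by
    have : perm (rows[0]'(by decide +kernel)).rep = 1 := by decide +kernel
    rw [this, inv_one, one_mul]; exact one_mem _⟩
  simpa using hall x 1 hbase

/-- Any two conjugates of the standard 2-subgroup meet nontrivially. -/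
lemma meet_nontrivial (x : Perm (Fin 8)) :
    ∃ w, w ≠ 1 ∧ w ∈ K 7 ∧ x⁻¹ * w * x ∈ K 7 := by
  obtain ⟨r, hr, hx⟩ := cover_univ x
  obtain ⟨-, -, h1, h2⟩ := row_spec hr
  refine ⟨word r.c, h2, word_mem _, ?_⟩
  have : x⁻¹ * word r.c * x = ((perm r.rep)⁻¹ * x)⁻¹ * word r.d * ((perm r.rep)⁻¹ * x) := by
    rw [eq_inv_mul_iff_mul_eq.mpr h1.symm]; group
  rw [this]
  exact mul_mem (mul_mem (inv_mem hx) (word_mem _)) hx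

theorem sylow_meet (H : Sylow 2 (Perm (Fin 8))) (x : Perm (Fin 8)) :
    (H : Subgroup (Perm (Fin 8))) ⊓ (H : Subgroup (Perm (Fin 8))).map (MulAut.conj x).toMonoidHom ≠ ⊥ := by
  obtain ⟨P, hP⟩ := (isPGroup_K 7 le_rfl).exists_le_sylow
  obtain ⟨g, hg⟩ := MulAction.exists_smul_eq (Perm (Fin 8)) P H
  obtain ⟨w, hw1, hw2, hw3⟩ := meet_nontrivial (g⁻¹ * x * g)
  have hmem : ∀ k ∈ K 7, g * k * g⁻¹ ∈ (H : Subgroup (Perm (Fin 8))) := by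
    intro k hk
    rw [← hg, Sylow.coe_subgroup_smul]
    exact Subgroup.smul_mem_pointwise_smul k (MulAut.conj g) _ (hP hk)
  intro h
  rw [Subgroup.eq_bot_iff_forall] at h
  refine hw1 (conj_eq_one_iff.mp (h (g * w * g⁻¹) ⟨hmem w hw2, ?_⟩))
  refine ⟨g * ((g⁻¹ * x * g)⁻¹ * w * (g⁻¹ * x * g)) * g⁻¹, hmem _ hw3, ?_⟩
  simp only [MulEquiv.toMonoidHom_eq_coe, MonoidHom.coe_coe, MulAut.conj_apply]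
  group

end CfsgLib.Maximal.S8
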