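import Mathlib

/-! Singer groups: normaliser and intersection with conjugates. -/
set_option autoImplicit false

namespace CfsgLib.Maximal.Singer

variable (F K : Type*) [Field F] [Field K] [Algebra F K]

/-- The Singer group of `K` over `F`. -/
def singer : Subgroup (Module.End F K)ˣ :=
  (Units.map ((Algebra.lmul F K : K →ₐ[F] Module.End F K) : K →* Module.End F K)).range

variable {F K}

lemma mem_singer_iff (g : (Module.End F K)ˣ) :
    g ∈ singer F K ↔ ∃ k : K, ∀ x, (g : Module.End F K) x = k * x := by
  constructor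
  · rintro ⟨k, rfl⟩
    exact ⟨k, fun x => rfl⟩
  · rintro ⟨k, hk⟩
    have hk0 : k ≠ 0 := by
      intro h
      have h1 := hk ((↑g⁻¹ : Module.End F K) 1)
      rw [← Module.End.mul_apply, Units.mul_inv, h, zero_mul] at h1
      exact one_ne_zero h1
    exact ⟨Units.mk0 k hk0, Units.ext (LinearMap.ext fun x => (hk x).symm)⟩

theorem card_normalizer [Finite K] [FiniteDimensional F K] :
    Nat.card (Subgroup.normalizer (singer F K : Set (Module.End F K)ˣ)) =
      Module.finrank F K * (Nat.card K - 1) := by
  classical
  have : Finite F := Finite.of_injective _ (algebraMap F K).injective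
  let Φ : (K ≃ₐ[F] K) × Kˣ → (Module.End F K)ˣ := fun p =>
    Units.map ((Algebra.lmul F K : K →ₐ[F] Module.End F K) : K →* Module.End F K) p.2 *
      { val := p.1.toLinearMap, inv := p.1.symm.toLinearMap
        val_inv := LinearMap.ext fun x => p.1.apply_symm_apply x
        inv_val := LinearMap.ext fun x => p.1.symm_apply_apply x }
  have hΦ : ∀ p x, (Φ p : Module.End F K) x = (p.2 : K) * p.1 x := fun p x => rfl
  have hinj : Function.Injective Φ := by
    rintro ⟨φ, a⟩ ⟨ψ, b⟩ h
    have hx : ∀ x, (a : K) * φ x = b * ψ x := fun x => by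
      simpa only [hΦ] using LinearMap.congr_fun (congrArg Units.val h) x
    have hab : a = b := Units.ext (by simpa using hx 1)
    subst hab
    exact Prod.ext (AlgEquiv.ext fun x => mul_left_cancel₀ a.ne_zero (hx x)) rfl
  have hrange : Set.range Φ = (Subgroup.normalizer (singer F K : Set (Module.End F K)ˣ) : Set _) := by
    ext g
    constructor
    · rintro ⟨⟨φ, a⟩, rfl⟩
      refine Subgroup.mem_normalizer_iff.mpr fun m => ?_
      have hsymm : ∀ x, (↑(Φ (φ, a))⁻¹ : Module.End F K) x = φ.symm ((a : K)⁻¹ * x) := fun x => by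
        have h := hΦ (φ, a) (φ.symm ((a : K)⁻¹ * x))
        simp only [AlgEquiv.apply_symm_apply, mul_inv_cancel_left₀ a.ne_zero] at h
        conv_lhs => rw [← h, ← Module.End.mul_apply, Units.inv_mul]
        rfl
      simp only [SetLike.mem_coe, mem_singer_iff, Units.val_mul, Module.End.mul_apply, hsymm]
      constructor
      · rintro ⟨k, hk⟩
        refine ⟨φ k, fun x => ?_⟩
        simp only [hk, hΦ, map_mul, AlgEquiv.apply_symm_apply]
        field_simp
      · rintro ⟨k, hk⟩
        refine ⟨φ.symm k, fun x => ?_⟩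
        have h := hk ((a : K) * φ x)
        simp only [inv_mul_cancel_left₀ a.ne_zero, AlgEquiv.symm_apply_apply, hΦ] at h
        apply φ.injective
        rw [map_mul, AlgEquiv.apply_symm_apply]
        apply mul_left_cancel₀ a.ne_zero
        rw [h]; ring
    · intro hg
      rw [SetLike.mem_coe, Subgroup.mem_normalizer_iff] at hg
      set gl : Module.End F K := (g : Module.End F K) with hgl
      have hg1 : gl 1 ≠ 0 := by
        intro h
        have : (1 : K) = 0 := by
          have := congrArg (↑g⁻¹ : Module.End F K) h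
          rwa [map_zero, hgl, ← Module.End.mul_apply, Units.inv_mul, Module.End.one_apply] at this
        exact one_ne_zero this
      have key : ∀ k x, gl (k * x) = gl k / gl 1 * gl x := by
        intro k x
        rcases eq_or_ne k 0 with rfl | hk
        · simp
        have hmem : Units.map ((Algebra.lmul F K : K →ₐ[F] Module.End F K) : K →* Module.End F K) (Units.mk0 k hk)
            ∈ singer F K := ⟨_, rfl⟩
        obtain ⟨k', hk'⟩ := (mem_singer_iff _).mp ((hg _).mp hmem)
        have hkey : ∀ y, gl (k * y) = k' * gl y := by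
          intro y
          have h := hk' (gl y)
          simp only [Units.val_mul, Module.End.mul_apply] at h
          rw [hgl, ← Module.End.mul_apply (↑g⁻¹ : Module.End F K) (g : Module.End F K), Units.inv_mul,
            Module.End.one_apply] at h
          exact h
        have h1 := hkey 1
        rw [mul_one] at h1
        rw [hkey, h1, mul_div_cancel_right₀ _ hg1]
      let ψ : K →ₐ[F] K := AlgHom.ofLinearMap ((gl 1)⁻¹ • gl) (by simp [hg1]) (fun x y => by
        simp only [LinearMap.smul_apply, smul_eq_mul, key]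
        field_simp)
      let φ : K ≃ₐ[F] K := AlgEquiv.ofBijective ψ
        (Finite.injective_iff_bijective.mp ψ.toRingHom.injective)
      refine ⟨(φ, Units.mk0 _ hg1), Units.ext (LinearMap.ext fun x => ?_)⟩
      rw [hΦ]
      show gl 1 * ((gl 1)⁻¹ * gl x) = gl x
      field_simp
  have h1 : Nat.card (Set.range Φ) = Nat.card ((K ≃ₐ[F] K) × Kˣ) := Nat.card_range_of_injective hinj
  rw [hrange] at h1
  rw [show Nat.card (Subgroup.normalizer (singer F K : Set (Module.End F K)ˣ)) = _ from h1, Nat.card_prod,
    IsGalois.card_aut_eq_finrank, Nat.card_units]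

theorem intersection_dvd [Finite K] [FiniteDimensional F K] (g : (Module.End F K)ˣ)
    (hg : (singer F K).map (MulAut.conj g).toMonoidHom ≠ singer F K) :
    ∃ r : ℕ, 1 ≤ r ∧ r ∣ Module.finrank F K ∧ r < Module.finrank F K ∧
      Nat.card ↥((singer F K).map (MulAut.conj g).toMonoidHom ⊓ singer F K) ∣ Nat.card F ^ r - 1 := by
  classical
  have : Finite F := Finite.of_injective _ (algebraMap F K).injective
  let L : Subalgebra F K :=
    { carrier := {k | ∃ k', ∀ x, (g : Module.End F K) (k' * x) = k * (g : Module.End F K) x}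
      mul_mem' := by
        rintro a b ⟨a', ha⟩ ⟨b', hb⟩
        exact ⟨a' * b', fun x => by rw [mul_assoc, ha, hb, mul_assoc]⟩
      add_mem' := by
        rintro a b ⟨a', ha⟩ ⟨b', hb⟩
        exact ⟨a' + b', fun x => by rw [add_mul, map_add, ha, hb, add_mul]⟩
      algebraMap_mem' := fun c => ⟨algebraMap F K c, fun x => by rw [← Algebra.smul_def, map_smul, Algebra.smul_def]⟩ }
  have hLmem : ∀ k, k ∈ L ↔ ∃ k', ∀ x, (g : Module.End F K) (k' * x) = k * (g : Module.End F K) x := fun k => Iff.rfl
  let μ : Kˣ →* (Module.End F K)ˣ := Units.map ((Algebra.lmul F K : K →ₐ[F] Module.End F K) : K →* Module.End F K)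
  have hμinj : Function.Injective μ := by
    intro a b h
    refine Units.ext ?_
    have := LinearMap.congr_fun (congrArg Units.val h) 1
    simpa [μ] using this
  have hLiff : ∀ k : Kˣ, μ k ∈ (singer F K).map (MulAut.conj g).toMonoidHom ↔ (k : K) ∈ L := by
    intro k
    rw [Subgroup.mem_map, hLmem]
    constructor
    · rintro ⟨m, ⟨k', rfl⟩, hm⟩
      refine ⟨k', fun x => ?_⟩
      have h := LinearMap.congr_fun (congrArg Units.val hm) ((g : Module.End F K) x)
      simp only [MulEquiv.toMonoidHom_eq_coe, MonoidHom.coe_coe, MulAut.conj_apply, Units.val_mul, Module.End.mul_apply] at h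
      rw [← Module.End.mul_apply (↑g⁻¹ : Module.End F K) (g : Module.End F K), Units.inv_mul,
        Module.End.one_apply] at h
      exact h
    · rintro ⟨k', hk'⟩
      have hk0 : k' ≠ 0 := by
        intro h
        have h1 := hk' ((↑g⁻¹ : Module.End F K) 1)
        rw [h, zero_mul, map_zero, ← Module.End.mul_apply, Units.mul_inv, Module.End.one_apply, mul_one] at h1
        exact k.ne_zero h1.symm
      refine ⟨μ (Units.mk0 k' hk0), ⟨_, rfl⟩, Units.ext (LinearMap.ext fun x => ?_)⟩
      show (g : Module.End F K) (k' * (↑g⁻¹ : Module.End F K) x) = k * x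
      rw [hk', ← Module.End.mul_apply, Units.mul_inv, Module.End.one_apply]
  have hcard : Nat.card ↥((singer F K).map (MulAut.conj g).toMonoidHom ⊓ singer F K) = Nat.card {k : Kˣ // (k : K) ∈ L} := by
    refine (Nat.card_congr (Equiv.ofBijective (fun k => ⟨μ k.1, (hLiff k.1).mpr k.2, k.1, rfl⟩) ⟨?_, ?_⟩)).symm
    · intro a b h
      exact Subtype.ext (hμinj (congrArg Subtype.val h))
    · rintro ⟨m, hm, k, rfl⟩
      exact ⟨⟨k, (hLiff k).mp hm⟩, rfl⟩
  have hLfield : IsField L := Subalgebra.isField_of_algebraic L
  let E : IntermediateField F K := L.toIntermediateField' hLfield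
  have hE : ∀ k, k ∈ E ↔ k ∈ L := fun k => Iff.rfl
  have hcard2 : Nat.card {k : Kˣ // (k : K) ∈ L} = Nat.card E - 1 := by
    rw [← Nat.card_units]
    exact Nat.card_congr
      { toFun := fun k => Units.mk0 ⟨(k.1 : K), k.2⟩ (fun h => k.1.ne_zero (congrArg Subtype.val h))
        invFun := fun u => ⟨Units.mk0 ((u : E) : K) (fun h => u.ne_zero (Subtype.ext h)), (u : E).2⟩
        left_inv := fun k => Subtype.ext (Units.ext rfl)
        right_inv := fun u => Units.ext rfl }
  refine ⟨Module.finrank F E, Module.finrank_pos, ⟨Module.finrank E K, (Module.finrank_mul_finrank F E K).symm⟩, ?_, ?_⟩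
  · refine lt_of_le_of_ne E.toSubmodule.finrank_le fun h => hg ?_
    have htop : E.toSubmodule = ⊤ := Submodule.eq_top_of_finrank_eq h
    have hfin : Finite (singer F K) :=
      Finite.of_surjective (fun k : Kˣ => (⟨μ k, k, rfl⟩ : singer F K)) (by rintro ⟨m, k, rfl⟩; exact ⟨k, rfl⟩)
    have hfin' : Finite ↥((singer F K).map (MulAut.conj g).toMonoidHom) :=
      Finite.of_equiv (singer F K) ((singer F K).equivMapOfInjective _ (MulAut.conj g).injective).toEquiv
    refine (Subgroup.eq_of_le_of_card_ge (H := singer F K) ?_ ?_).symm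
    · rintro m ⟨k, rfl⟩
      refine (hLiff k).mpr ?_
      have : (k : K) ∈ E.toSubmodule := htop ▸ Submodule.mem_top
      exact this
    · rw [Subgroup.card_map_of_injective]
      exact (MulAut.conj g).injective
  · rw [hcard, hcard2, Module.natCard_eq_pow_finrank (K := F)]

end CfsgLib.Maximal.Singer
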