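import Cfsg.Agent.Lib.Maximal.SymIndex

/-!
The subgroups of index six in the symmetric group of degree six.
-/

set_option autoImplicit false
set_option linter.unusedSectionVars false

open Equiv MulAction Pointwise

namespace CfsgLib.Maximal

variable {Ω : Type*} [Fintype Ω] [DecidableEq Ω]

/-- There is a transitive subgroup of index six in the symmetric group of degree six. -/
theorem exists_exotic_six (h6 : Fintype.card Ω = 6) :
    ∃ H : Subgroup (Equiv.Perm Ω), H.index = 6 ∧ ∀ x : Ω, H ≠ stabilizer (Equiv.Perm Ω) x := by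
  classical
  have : Fact (Nat.Prime 5) := ⟨by norm_num⟩
  have h5 : Nat.card (Fin 5) = 5 := by simp
  let S := Sylow 5 (Equiv.Perm (Fin 5))
  obtain ⟨P⟩ : Nonempty S := inferInstance
  have hP : Nat.card (P : Subgroup (Equiv.Perm (Fin 5))) = 5 := by
    have h := P.card_eq_multiplicity
    rw [Nat.card_perm, h5] at h
    rw [h, show (Nat.factorial 5).factorization 5 = 1 by
      rw [show Nat.factorial 5 = 5 * 24 from rfl, Nat.factorization_mul (by norm_num) (by norm_num)]
      simp [Nat.Prime.factorization_self (show Nat.Prime 5 by norm_num),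
        Nat.factorization_eq_zero_of_not_dvd (show ¬ 5 ∣ 24 by norm_num)]]
    rfl
  have hidxP : (P : Subgroup (Equiv.Perm (Fin 5))).index = 24 := by
    have h := (P : Subgroup (Equiv.Perm (Fin 5))).index_mul_card
    rw [hP, Nat.card_perm, h5] at h
    simp only [Nat.factorial] at h
    omega
  have halt : Nat.card (alternatingGroup (Fin 5)) = 60 := by
    rw [Nat.card_eq_fintype_card]
    have := two_mul_card_alternatingGroup (α := Fin 5)
    rw [Fintype.card_perm, Fintype.card_fin] at this
    simp only [Nat.factorial] at this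
    omega
  have hnorm : ∀ P : S, ¬ alternatingGroup (Fin 5) ≤ Subgroup.normalizer (P : Set (Equiv.Perm (Fin 5))) := by
    intro Q hle
    have hQ : Nat.card (Q : Subgroup (Equiv.Perm (Fin 5))) = 5 := by
      rw [Q.card_eq_multiplicity, ← P.card_eq_multiplicity, hP]
    have hQA : (Q : Subgroup (Equiv.Perm (Fin 5))) ≤ alternatingGroup (Fin 5) := by
      intro g hg
      rw [Equiv.Perm.mem_alternatingGroup]
      have h2 : (⟨g, hg⟩ : (Q : Subgroup (Equiv.Perm (Fin 5)))) ^ 5 = 1 := by
        have h := pow_card_eq_one' (x := (⟨g, hg⟩ : (Q : Subgroup (Equiv.Perm (Fin 5)))))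
        rwa [hQ] at h
      have h3 : Equiv.Perm.sign g ^ 5 = 1 := by
        rw [← map_pow, show g ^ 5 = 1 from congrArg Subtype.val h2, map_one]
      rcases Int.units_eq_one_or (Equiv.Perm.sign g) with h | h
      · exact h
      · rw [h] at h3; exact absurd h3 (by decide)
    set N := (Q : Subgroup (Equiv.Perm (Fin 5))).subgroupOf (alternatingGroup (Fin 5))
    have hN : N.Normal := Subgroup.normal_subgroupOf_of_le_normalizer hle
    have hNc : Nat.card N = 5 := by
      exact (Nat.card_congr (Subgroup.subgroupOfEquivOfLe hQA).toEquiv).trans hQ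
    rcases hN.eq_bot_or_eq_top with h | h
    · rw [h, Subgroup.card_bot] at hNc; omega
    · rw [h, Subgroup.card_top, halt] at hNc; omega
  have hS : Nat.card S = 6 := by
    have h1 : Nat.card S ∣ 24 := hidxP ▸ P.card_dvd_index
    have h2 := card_sylow_modEq_one 5 (Equiv.Perm (Fin 5))
    have hle := Nat.le_of_dvd (by norm_num) h1
    have hne : Nat.card S ≠ 1 := by
      intro h
      apply hnorm P
      have hi := P.card_eq_index_normalizer
      change Nat.card S = _ at hi
      rw [h] at hi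
      rw [Subgroup.index_eq_one.1 hi.symm]
      exact le_top
    change Nat.card S ≡ 1 [MOD 5] at h2
    rw [Nat.ModEq] at h2
    generalize Nat.card S = s at *
    interval_cases s <;> omega
  have hinj : Function.Injective (MulAction.toPermHom (Equiv.Perm (Fin 5)) S) := by
    rw [← MonoidHom.ker_eq_bot_iff]
    by_contra hne
    have hle : alternatingGroup (Fin 5) ≤ (MulAction.toPermHom (Equiv.Perm (Fin 5)) S).ker :=
      Equiv.Perm.alternatingGroup_le_of_normal (by rw [h5]) ((Subgroup.nontrivial_iff_ne_bot _).2 hne)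
    apply hnorm P
    intro g hg
    rw [← Sylow.stabilizer_eq_normalizer]
    exact congrArg (fun f : Equiv.Perm S => f P) (hle hg)
  have : Finite S := Nat.finite_of_card_ne_zero (by rw [hS]; norm_num)
  obtain ⟨e⟩ : Nonempty (S ≃ Ω) := Finite.card_eq.1 (by rw [hS, Nat.card_eq_fintype_card, h6])
  let hom : Equiv.Perm (Fin 5) →* Equiv.Perm Ω :=
    e.permCongrHom.toMonoidHom.comp (MulAction.toPermHom (Equiv.Perm (Fin 5)) S)
  have hhom : Function.Injective hom := e.permCongrHom.injective.comp hinj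
  refine ⟨hom.range, ?_, fun x hx => ?_⟩
  · have h := hom.range.index_mul_card
    rw [← Nat.card_congr (MonoidHom.ofInjective hhom).toEquiv, Nat.card_perm, Nat.card_perm,
      h5, Nat.card_eq_fintype_card, h6] at h
    simp only [Nat.factorial] at h
    omega
  · obtain ⟨y, hy⟩ : ∃ y, y ≠ x := by
      have : Nontrivial Ω := Fintype.one_lt_card_iff_nontrivial.1 (by omega)
      exact exists_ne x
    obtain ⟨g, hg⟩ := MulAction.exists_smul_eq (Equiv.Perm (Fin 5)) (e.symm x) (e.symm y)
    have hgx : hom g ∈ stabilizer (Equiv.Perm Ω) x := hx ▸ ⟨g, rfl⟩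
    rw [mem_stabilizer_iff] at hgx
    apply hy
    have : hom g x = e (g • e.symm x) := rfl
    rw [← hgx, Equiv.Perm.smul_def, this, hg, e.apply_symm_apply]

theorem exists_pair_six (h6 : Fintype.card Ω = 6) : ∃ a b : Ω, a ≠ b :=
  (Fintype.one_lt_card_iff_nontrivial.1 (by omega : 1 < Fintype.card Ω)).exists_pair_ne

/-- If one transposition goes to a transposition under an automorphism, its inverse preserves them. -/
theorem symm_swap_of_swap (ρ : MulAut (Equiv.Perm Ω)) {g : Equiv.Perm Ω} (hg : g.IsSwap)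
    (hs : (ρ g).IsSwap) {s : Equiv.Perm Ω} (hss : s.IsSwap) : (ρ.symm s).IsSwap := by
  have hconj : IsConj s (ρ g) := Equiv.Perm.isConj_iff_cycleType_eq.2
    ((Equiv.Perm.isSwap_iff_cycleType.1 hss).trans (Equiv.Perm.isSwap_iff_cycleType.1 hs).symm)
  have h := (ρ.symm.toMonoidHom).map_isConj hconj
  simp only [MulEquiv.coe_toMonoidHom, ρ.symm_apply_apply] at h
  rw [Equiv.Perm.isSwap_iff_cycleType, Equiv.Perm.isConj_iff_cycleType_eq.1 h,
    ← Equiv.Perm.isSwap_iff_cycleType]
  exact hg

/-- Exotic subgroups are pulled back from each other's point stabilisers. -/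
theorem exotic_six_family (h6 : Fintype.card Ω = 6) :
    ∃ ρ : MulAut (Equiv.Perm Ω),
      (∀ x z : Ω, (stabilizer (Equiv.Perm Ω) z).comap ρ.toMonoidHom ≠ stabilizer (Equiv.Perm Ω) x) ∧
      ∀ H : Subgroup (Equiv.Perm Ω), H.index = 6 → (∀ x : Ω, H ≠ stabilizer (Equiv.Perm Ω) x) →
        ∃ z : Ω, H = (stabilizer (Equiv.Perm Ω) z).comap ρ.toMonoidHom := by
  have hex : ∀ (ρ : MulAut (Equiv.Perm Ω)) (y : Ω),
      (∀ x : Ω, (stabilizer (Equiv.Perm Ω) y).comap ρ.toMonoidHom ≠ stabilizer (Equiv.Perm Ω) x) →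
      ∀ g : Equiv.Perm Ω, g.IsSwap → ¬ (ρ g).IsSwap := by
    intro ρ y h g hg hs
    obtain ⟨x, hx⟩ := comap_stabilizer_of_swaps (by omega) ρ
      (fun s hss => symm_swap_of_swap ρ hg hs hss) y
    exact h x hx
  obtain ⟨H₀, hH₀, hne₀⟩ := exists_exotic_six h6
  obtain ⟨ρ, y, rfl⟩ := exists_automorphism_of_index (by omega) H₀ (by rw [hH₀, h6])
  refine ⟨ρ, fun x z heq => ?_, fun H hH hne => ?_⟩
  · apply hne₀ (ρ⁻¹ (Equiv.swap y z) x)
    have h2 : ∀ t, ρ t z = z ↔ t x = x := fun t => SetLike.ext_iff.1 heq t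
    ext s
    have h3 := h2 ((ρ⁻¹ (Equiv.swap y z))⁻¹ * s * ρ⁻¹ (Equiv.swap y z))
    have hc : ρ (ρ⁻¹ (Equiv.swap y z)) = Equiv.swap y z := ρ.apply_symm_apply _
    rw [map_mul, map_mul, map_inv, hc] at h3
    show ρ s y = y ↔ s (ρ⁻¹ (Equiv.swap y z) x) = ρ⁻¹ (Equiv.swap y z) x
    simp only [Equiv.Perm.mul_apply, Equiv.swap_apply_right, Equiv.Perm.inv_eq_iff_eq] at h3
    exact h3
  · obtain ⟨ρ', y', rfl⟩ := exists_automorphism_of_index (by omega) H (by rw [hH, h6])
    -- `ψ = ρ' ∘ ρ⁻¹` preserves transpositions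
    let ψ : MulAut (Equiv.Perm Ω) := ρ' * ρ⁻¹
    have hsym : ∀ g : Equiv.Perm Ω, g.IsSwap → (ψ.symm g).IsSwap := by
      intro g hg
      have hd : ¬ (ρ'.symm g).IsSwap := fun h =>
        hex ρ' y' hne _ h (by rwa [ρ'.apply_symm_apply])
      have hd' : (ρ'.symm g).cycleType = Multiset.replicate 3 2 :=
        ((automorphism_swap ρ'.symm hg).resolve_left hd).2
      show (ρ (ρ'.symm g)).IsSwap
      rcases cycleType_of_centralizer (ρ (ρ'.symm g))
        (by rw [MulEquiv.orderOf_eq, MulEquiv.orderOf_eq, hg.orderOf])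
        (by rw [card_centralizer_map, card_centralizer_map, card_centralizer_swap hg]) with h | ⟨-, h⟩
      · exact h
      · exfalso
        obtain ⟨a, b, hab⟩ : ∃ a b : Ω, a ≠ b := exists_pair_six h6
        have hs : (Equiv.swap a b).IsSwap := ⟨a, b, hab, rfl⟩
        have h3 : (ρ (Equiv.swap a b)).cycleType = Multiset.replicate 3 2 :=
          ((automorphism_swap ρ hs).resolve_left (hex ρ y hne₀ _ hs)).2
        have hconj : IsConj (ρ (ρ'.symm g)) (ρ (Equiv.swap a b)) :=
          Equiv.Perm.isConj_iff_cycleType_eq.2 (h.trans h3.symm)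
        have hconj' := (ρ.symm.toMonoidHom).map_isConj hconj
        simp only [MulEquiv.coe_toMonoidHom, ρ.symm_apply_apply] at hconj'
        apply hd
        rw [Equiv.Perm.isSwap_iff_cycleType, Equiv.Perm.isConj_iff_cycleType_eq.1 hconj',
          ← Equiv.Perm.isSwap_iff_cycleType]
        exact hs
    obtain ⟨z, hz⟩ := comap_stabilizer_of_swaps (by omega) ψ hsym y'
    refine ⟨z, ?_⟩
    rw [← hz, Subgroup.comap_comap]
    ext s
    simp [ψ]

end CfsgLib.Maximal
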