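import Cfsg.Agent.Lib.Components.FStar

/-!
# A Thompson–Wielandt theorem on conjugate core-free maximal subgroups

If the second iterated cores of two distinct conjugate core-free maximal subgroups are nontrivial
then they are p-groups for a prime p, and the generalized Fitting subgroups are p-groups.
-/

set_option autoImplicit false

namespace CfsgLib.Maximal.TW

open Subgroup
open scoped commutatorElement

variable {G : Type*} [Group G]

/-- The largest subgroup of `Y` normal in `M`, as a subgroup of `G`. -/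
def coreIn (M Y : Subgroup G) : Subgroup G := (Y.subgroupOf M).normalCore.map M.subtype

lemma coreIn_le_left (M Y : Subgroup G) : coreIn M Y ≤ M := map_subtype_le _

lemma coreIn_le_right (M Y : Subgroup G) : coreIn M Y ≤ Y := by
  rintro _ ⟨x, hx, rfl⟩
  exact normalCore_le (Y.subgroupOf M) hx

lemma le_normalizer_coreIn (M Y : Subgroup G) : M ≤ normalizer (coreIn M Y : Set G) := by
  rw [← normal_subgroupOf_iff_le_normalizer (coreIn_le_left M Y), coreIn, subgroupOf,
    comap_map_eq_self_of_injective (subtype_injective M)]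
  exact normalCore_normal _

lemma le_coreIn {M Y X : Subgroup G} (h1 : X ≤ M) (h2 : X ≤ Y) (h3 : M ≤ normalizer (X : Set G)) :
    X ≤ coreIn M Y := by
  have : (X.subgroupOf M).Normal := (normal_subgroupOf_iff_le_normalizer h1).mpr h3
  intro x hx
  exact ⟨⟨x, h1 hx⟩, (normal_le_normalCore (H := Y.subgroupOf M) (N := X.subgroupOf M)).mpr (comap_mono h2)
    (show (⟨x, h1 hx⟩ : M) ∈ X.subgroupOf M from hx), rfl⟩

lemma normalizer_eq {M X : Subgroup G} (hmax : IsCoatom M) (hcore : M.normalCore = ⊥)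
    (h1 : X ≤ M) (h2 : X ≠ ⊥) (h3 : M ≤ normalizer (X : Set G)) : normalizer (X : Set G) = M := by
  by_contra hne
  have htop : normalizer (X : Set G) = ⊤ := hmax.2 _ (lt_of_le_of_ne h3 (Ne.symm hne))
  have : X.Normal := normalizer_eq_top_iff.mp htop
  exact h2 (le_bot_iff.mp (hcore ▸ normal_le_normalCore.mpr h1))

/-- `K` is a component of `M`. -/
def CompIn (K M : Subgroup G) : Prop := K ≤ M ∧ Cfsg.IsComponent (K.subgroupOf M)

section
variable [Finite G]

lemma compIn_or {K M X : Subgroup G} (hK : CompIn K M) (hX : X ≤ M) (hn : M ≤ normalizer (X : Set G)) :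
    K ≤ X ∨ ⁅K, X⁆ = ⊥ := by
  have : (X.subgroupOf M).Normal := (normal_subgroupOf_iff_le_normalizer hX).mpr hn
  rcases Components.le_or_commutator_eq_bot hK.2 (Normal.isSubnormal (inferInstance : (X.subgroupOf M).Normal)) with h | h
  · exact Or.inl (Components.le_of_subgroupOf_le hK.1 h)
  · exact Or.inr ((Components.commutator_subgroupOf_eq_bot_iff hK.1 hX).mp h)

lemma compIn_iff {K M X : Subgroup G} (hKX : K ≤ X) (hX : X ≤ M) (hn : M ≤ normalizer (X : Set G)) :
    CompIn K M ↔ CompIn K X := by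
  have : (X.subgroupOf M).Normal := (normal_subgroupOf_iff_le_normalizer hX).mpr hn
  have hs : (X.subgroupOf M).IsSubnormal := Normal.isSubnormal inferInstance
  have hle : K.subgroupOf M ≤ X.subgroupOf M := comap_mono hKX
  have h1 := Components.isComponent_subgroupOf_iff hs hle
  have he : ((K.subgroupOf M).subgroupOf (X.subgroupOf M)).map (subgroupOfEquivOfLe hX).toMonoidHom
      = K.subgroupOf X := by
    ext x
    constructor
    · rintro ⟨y, hy, rfl⟩; exact hy
    · intro hx; exact ⟨⟨⟨x.1, hX x.2⟩, x.2⟩, hx, rfl⟩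
  constructor
  · intro h
    refine ⟨hKX, ?_⟩
    rw [← he]
    exact Components.isComponent_map_equiv _ (h1.mpr h.2)
  · intro h
    refine ⟨hKX.trans hX, h1.mp ?_⟩
    have := Components.isComponent_map_equiv (subgroupOfEquivOfLe hX).symm h.2
    rw [← he, Subgroup.map_map] at this
    simpa using this

/-- All components of `M₂` are components of `M₁`. -/
lemma compIn_transfer {M₁ M₂ A₁ B₁ : Subgroup G}
    (hA : A₁ ≤ M₁ ⊓ M₂) (hB : B₁ ≤ M₁ ⊓ M₂) (hnA : M₁ ≤ normalizer (A₁ : Set G)) (hnB : M₂ ≤ normalizer (B₁ : Set G))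
    (hcA : centralizer (A₁ : Set G) ≤ A₁) (hcB : centralizer (B₁ : Set G) ≤ B₁)
    {K : Subgroup G} (hK : CompIn K M₂) : CompIn K M₁ := by
  have h1 : K ≤ B₁ := by
    rcases compIn_or hK (hB.trans inf_le_right) hnB with h | h
    · exact h
    · exact (commutator_eq_bot_iff_le_centralizer.mp h).trans hcB
  have h2 : CompIn K B₁ := (compIn_iff h1 (hB.trans inf_le_right) hnB).mp hK
  have h3 : CompIn K (M₁ ⊓ M₂) := (compIn_iff h1 hB (inf_le_right.trans hnB)).mpr h2
  have h4 : K ≤ A₁ := by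
    rcases compIn_or h3 hA (inf_le_left.trans hnA) with h | h
    · exact h
    · exact (commutator_eq_bot_iff_le_centralizer.mp h).trans hcA
  exact (compIn_iff h4 (hA.trans inf_le_left) hnA).mpr
    ((compIn_iff h4 hA (inf_le_left.trans hnA)).mp h3)

lemma layer_map_le {M₁ M₂ : Subgroup G} (h : ∀ K, CompIn K M₁ → CompIn K M₂) :
    (Cfsg.layer M₁).map M₁.subtype ≤ (Cfsg.layer M₂).map M₂.subtype := by
  rw [map_le_iff_le_comap]
  refine sSup_le fun K hK => ?_
  rw [← map_le_iff_le_comap]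
  have hc : CompIn (K.map M₁.subtype) M₁ := ⟨map_subtype_le K, by
    rwa [subgroupOf, comap_map_eq_self_of_injective (subtype_injective M₁)]⟩
  have := h _ hc
  rw [← map_subgroupOf_eq_of_le this.1]
  exact map_mono (Components.component_le_layer this.2)

/-- The subgroup generated by the elements of order prime to `p`. -/
def pres (p : ℕ) (X : Subgroup G) : Subgroup G := closure {x | x ∈ X ∧ (orderOf x).Coprime p}

omit [Finite G] in
lemma pres_le (p : ℕ) (X : Subgroup G) : pres p X ≤ X :=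
  (closure_le _).mpr fun _ hx => hx.1

lemma mem_normalizer_pres_of_gen {p : ℕ} {X : Subgroup G} {c : G}
    (h : ∀ l ∈ X, (orderOf l).Coprime p → c * l * c⁻¹ ∈ pres p X) :
    c ∈ normalizer (pres p X : Set G) := by
  have hle : (pres p X).map (MulAut.conj c).toMonoidHom ≤ pres p X := by
    rw [map_le_iff_le_comap]
    refine (closure_le _).mpr fun l hl => ?_
    exact h l hl.1 hl.2
  have heq : (pres p X).map (MulAut.conj c).toMonoidHom = pres p X :=
    eq_of_le_of_card_ge hle (card_map_of_injective (MulAut.conj c).injective).ge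
  rw [mem_normalizer_iff]
  intro x
  refine ⟨fun hx => hle ⟨x, hx, rfl⟩, fun hx => ?_⟩
  rw [← heq] at hx
  obtain ⟨y, hy, he⟩ := hx
  simp only [MulEquiv.toMonoidHom_eq_coe, MonoidHom.coe_coe, MulAut.conj_apply, mul_left_inj, mul_right_inj] at he
  exact he ▸ hy

lemma normalizer_le_normalizer_pres (p : ℕ) (X : Subgroup G) :
    normalizer (X : Set G) ≤ normalizer (pres p X : Set G) := fun c hc =>
  mem_normalizer_pres_of_gen fun l hl ho => subset_closure
    ⟨(mem_normalizer_iff.mp hc l).mp hl, by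
      have : orderOf (c * l * c⁻¹) = orderOf l := orderOf_injective (MulAut.conj c).toMonoidHom (MulAut.conj c).injective l
      rwa [this]⟩

lemma exists_pow_mem_pres {p : ℕ} [hp : Fact p.Prime] {X : Subgroup G} {x : G} (hx : x ∈ X) :
    ∃ k : ℕ, x ^ p ^ k ∈ pres p X := by
  refine ⟨(orderOf x).factorization p, subset_closure ⟨pow_mem hx _, ?_⟩⟩
  rw [orderOf_pow_of_dvd (pow_ne_zero _ hp.out.ne_zero) (Nat.ordProj_dvd _ _)]
  exact (Nat.coprime_ordCompl hp.out (orderOf_pos x).ne').symm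

lemma isPGroup_of_pres_eq_bot {p : ℕ} [Fact p.Prime] {X : Subgroup G} (h : pres p X = ⊥) :
    IsPGroup p X := by
  rintro ⟨x, hx⟩
  obtain ⟨k, hk⟩ := exists_pow_mem_pres (p := p) hx
  rw [h, mem_bot] at hk
  exact ⟨k, Subtype.ext hk⟩

/-- An element of order prime to `p` of a product of `X` with a normalizing p-group. -/
lemma mem_pres_of_mem_sup {p : ℕ} [hp : Fact p.Prime] {X H : Subgroup G} (hH : IsPGroup p H)
    (hn : H ≤ normalizer (X : Set G)) {y : G} (hy : y ∈ X ⊔ H) (ho : (orderOf y).Coprime p) :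
    y ∈ pres p X := by
  set N := normalizer (pres p X : Set G) with hN
  have hXN : X ≤ N := le_normalizer.trans (normalizer_le_normalizer_pres p X)
  have hHN : H ≤ N := hn.trans (normalizer_le_normalizer_pres p X)
  have : ((pres p X).subgroupOf N).Normal := normal_in_normalizer
  let π := QuotientGroup.mk' ((pres p X).subgroupOf N)
  have hX : IsPGroup p ((X.subgroupOf N).map π) := by
    rintro ⟨_, x, hx, rfl⟩
    obtain ⟨k, hk⟩ := exists_pow_mem_pres (p := p) (show (x : G) ∈ X from hx)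
    refine ⟨k, Subtype.ext ?_⟩
    show π x ^ p ^ k = 1
    rw [← map_pow]
    exact (QuotientGroup.eq_one_iff _).mpr (by simpa [mem_subgroupOf] using hk)
  have hH' : IsPGroup p ((H.subgroupOf N).map π) :=
    (hH.of_equiv (subgroupOfEquivOfLe hHN).symm).map π
  have hnorm : (H.subgroupOf N).map π ≤ normalizer (((X.subgroupOf N).map π : Subgroup _) : Set _) := by
    rintro _ ⟨h, hh, rfl⟩
    have hmem : h ∈ normalizer ((X.subgroupOf N : Subgroup N) : Set N) := by
      rw [mem_normalizer_iff]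
      intro x
      exact mem_normalizer_iff.mp (hn hh) x
    exact le_normalizer_map π ⟨h, hmem, rfl⟩
  have hsup := IsPGroup.to_sup_of_normal_right' hH' hX hnorm
  have hyN : y ∈ N := sup_le hXN hHN hy
  have hmem : π ⟨y, hyN⟩ ∈ (H.subgroupOf N).map π ⊔ (X.subgroupOf N).map π := by
    rw [← Subgroup.map_sup, ← subgroupOf_sup hHN hXN]
    exact ⟨⟨y, hyN⟩, by rw [sup_comm]; exact hy, rfl⟩
  obtain ⟨k, hk⟩ := hsup ⟨_, hmem⟩
  have hk' : π ⟨y, hyN⟩ ^ p ^ k = 1 := congrArg Subtype.val hk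
  have h1 : orderOf (π ⟨y, hyN⟩) ∣ p ^ k := orderOf_dvd_of_pow_eq_one hk'
  have h2 : orderOf (π ⟨y, hyN⟩) ∣ orderOf y := by
    rw [← Subgroup.orderOf_mk y hyN]
    exact orderOf_map_dvd π _
  have h3 : π ⟨y, hyN⟩ = 1 := orderOf_eq_one_iff.mp
    (Nat.eq_one_of_dvd_coprimes (ho.pow_right k) h2 h1)
  exact (QuotientGroup.eq_one_iff (N := (pres p X).subgroupOf N) (⟨y, hyN⟩ : N)).mp h3

/-- The key step: the second core is a p-group when `O_p(M₁) ≠ 1`. -/
lemma isPGroup_core {p : ℕ} [hp : Fact p.Prime] {M₁ M₂ A₁ B₂ P Q : Subgroup G}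
    (hne : ¬ M₂ ≤ M₁) (hmax₁ : IsCoatom M₁) (hcore₁ : M₁.normalCore = ⊥)
    (hmax₂ : IsCoatom M₂) (hcore₂ : M₂.normalCore = ⊥)
    (hA : A₁ ≤ M₁ ⊓ M₂) (hnA : M₁ ≤ normalizer (A₁ : Set G))
    (hAmax : ∀ X : Subgroup G, X ≤ M₁ ⊓ M₂ → M₁ ≤ normalizer (X : Set G) → X ≤ A₁)
    (hB : B₂ ≤ A₁) (hnB : M₂ ≤ normalizer (B₂ : Set G))
    (hP : IsPGroup p P) (hPM : P ≤ M₁) (hnP : M₁ ≤ normalizer (P : Set G)) (hP1 : P ≠ ⊥)
    (hPmax : ∀ X : Subgroup G, X ≤ A₁ → IsPGroup p X → A₁ ≤ normalizer (X : Set G) → X ≤ P)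
    (hQ : IsPGroup p Q) (hQM : Q ≤ M₂) (hnQ : M₂ ≤ normalizer (Q : Set G))
    (hcard : Nat.card P = Nat.card Q) : IsPGroup p B₂ := by
  refine isPGroup_of_pres_eq_bot (by_contra fun hL => ?_)
  set L := pres p B₂ with hLdef
  have hBM : B₂ ≤ M₂ := hB.trans (hA.trans inf_le_right)
  have hNL : normalizer (L : Set G) = M₂ :=
    normalizer_eq hmax₂ hcore₂ ((pres_le p B₂).trans hBM) hL (hnB.trans (normalizer_le_normalizer_pres p B₂))
  have hPM₂ : P ≤ M₂ := fun x hx => by
    rw [← hNL]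
    refine mem_normalizer_pres_of_gen fun l hl ho => ?_
    refine mem_pres_of_mem_sup (H := P ⊓ A₁) (hP.to_le inf_le_left)
      (inf_le_right.trans ((hA.trans inf_le_right).trans hnB)) ?_ ?_
    · have h1 : ⁅x, l⁆ ∈ P := by
        have hl' : l ∈ normalizer (P : Set G) := hnP (hA (hB hl)).1
        rw [commutatorElement_def, mul_assoc x l, mul_assoc x (l * x⁻¹)]
        exact mul_mem hx ((mem_normalizer_iff.mp hl' x⁻¹).mp (inv_mem hx))
      have h2 : ⁅x, l⁆ ∈ A₁ := by
        rw [commutatorElement_def]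
        exact mul_mem ((mem_normalizer_iff.mp (hnA (hPM hx)) l).mp (hB hl)) (inv_mem (hB hl))
      have : x * l * x⁻¹ = ⁅x, l⁆ * l := by rw [commutatorElement_def]; group
      rw [this]
      exact mul_mem (mem_sup_right ⟨h1, h2⟩) (mem_sup_left hl)
    · have : orderOf (x * l * x⁻¹) = orderOf l := orderOf_injective (MulAut.conj x).toMonoidHom (MulAut.conj x).injective l
      rwa [this]
  let C₁ : Subgroup G :=
    { carrier := {x | x ∈ M₁ ∧ ∀ k ∈ A₁, ⁅x, k⁆ ∈ P}
      one_mem' := ⟨one_mem _, fun k _ => by rw [commutatorElement_def]; simp⟩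
      mul_mem' := by
        rintro a b ⟨ha, ha'⟩ ⟨hb, hb'⟩
        refine ⟨mul_mem ha hb, fun k hk => ?_⟩
        have : ⁅a * b, k⁆ = a * ⁅b, k⁆ * a⁻¹ * ⁅a, k⁆ := by rw [commutatorElement_def, commutatorElement_def, commutatorElement_def]; group
        rw [this]
        exact mul_mem ((mem_normalizer_iff.mp (hnP ha) _).mp (hb' k hk)) (ha' k hk)
      inv_mem' := by
        rintro a ⟨ha, ha'⟩
        refine ⟨inv_mem ha, fun k hk => ?_⟩
        have : ⁅a⁻¹, k⁆ = a⁻¹ * ⁅a, k⁆⁻¹ * a⁻¹⁻¹ := by rw [commutatorElement_def, commutatorElement_def]; group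
        rw [this]
        exact (mem_normalizer_iff.mp (hnP (inv_mem ha)) _).mp (inv_mem (ha' k hk)) }
  have hC₂ : C₁ ≤ M₂ := fun c hc => by
    rw [← hNL]
    refine mem_normalizer_pres_of_gen fun l hl ho => ?_
    refine pres_le p L ?_
    refine mem_pres_of_mem_sup (X := L) (H := P) hP (hNL ▸ hPM₂) ?_ ?_
    · have : c * l * c⁻¹ = ⁅c, l⁆ * l := by rw [commutatorElement_def]; group
      rw [this]
      exact mul_mem (mem_sup_right (hc.2 l (hB hl))) (mem_sup_left (subset_closure ⟨hl, ho⟩))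
    · have : orderOf (c * l * c⁻¹) = orderOf l := orderOf_injective (MulAut.conj c).toMonoidHom (MulAut.conj c).injective l
      rwa [this]
  have hC : C₁ ≤ A₁ := by
    refine hAmax _ (le_inf (fun x hx => hx.1) hC₂) fun m hm => ?_
    have key : ∀ m ∈ M₁, ∀ x ∈ C₁, m * x * m⁻¹ ∈ C₁ := by
      rintro m hm x ⟨hx, hx'⟩
      refine ⟨mul_mem (mul_mem hm hx) (inv_mem hm), fun k hk => ?_⟩
      have : ⁅m * x * m⁻¹, k⁆ = m * ⁅x, m⁻¹ * k * m⁻¹⁻¹⁆ * m⁻¹ := by
        rw [commutatorElement_def, commutatorElement_def]; group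
      rw [this]
      exact (mem_normalizer_iff.mp (hnP hm) _).mp (hx' _ ((mem_normalizer_iff.mp (hnA (inv_mem hm)) k).mp hk))
    rw [mem_normalizer_iff]
    exact fun x => ⟨key m hm x, fun hx => by simpa [mul_assoc] using key m⁻¹ (inv_mem hm) _ hx⟩
  have hZP : Q ⊓ M₁ ≤ P := by
    intro x hx
    have hxA : x ∈ A₁ := hC ⟨hx.2, fun k hk => by
      have h1 : ⁅x, k⁆ ∈ Q ⊓ A₁ := by
        constructor
        · rw [commutatorElement_def, mul_assoc x k, mul_assoc x (k * x⁻¹)]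
          exact mul_mem hx.1 ((mem_normalizer_iff.mp (hnQ (hA hk).2) x⁻¹).mp (Subgroup.inv_mem Q hx.1))
        · rw [commutatorElement_def]
          exact mul_mem ((mem_normalizer_iff.mp (hnA hx.2) k).mp hk) (Subgroup.inv_mem A₁ hk)
      exact hPmax _ inf_le_right (hQ.to_le inf_le_left)
        ((le_inf ((hA.trans inf_le_right).trans hnQ) le_normalizer).trans inf_normalizer_le_normalizer_inf) h1⟩
    exact hPmax _ inf_le_right (hQ.to_le inf_le_left)
      ((le_inf ((hA.trans inf_le_right).trans hnQ) le_normalizer).trans inf_normalizer_le_normalizer_inf) ⟨hx.1, hxA⟩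
  have hJ : IsPGroup p (P ⊔ Q : Subgroup G) := hP.to_sup_of_normal_right' hQ (hPM₂.trans hnQ)
  have hQP : Q ≤ P := by
    have := hJ.isNilpotent
    by_contra hQP
    have hlt : P.subgroupOf (P ⊔ Q) < ⊤ := lt_top_iff_ne_top.mpr fun h =>
      hQP (le_sup_right.trans (subgroupOf_eq_top.mp h))
    obtain ⟨-, x, hxn, hxP⟩ :=
      SetLike.lt_iff_le_and_exists.mp ((Group.normalizerCondition_of_isNilpotent (G := (P ⊔ Q : Subgroup G))) _ hlt)
    have hxN : (x : G) ∈ normalizer (P : Set G) := by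
      rw [mem_normalizer_iff]
      intro y
      constructor
      · intro hy
        exact (mem_normalizer_iff.mp hxn (⟨y, (le_sup_left : P ≤ P ⊔ Q) hy⟩ : ↥(P ⊔ Q))).mp hy
      · intro hy
        have h := (mem_normalizer_iff.mp (inv_mem hxn)
          (⟨(x : G) * y * (x : G)⁻¹, (le_sup_left : P ≤ P ⊔ Q) hy⟩ : ↥(P ⊔ Q))).mp hy
        simp only [SetLike.mem_coe, mem_subgroupOf, Subgroup.coe_mul, Subgroup.coe_inv, inv_inv] at h
        simpa [mul_assoc] using h
    have hxM : (x : G) ∈ M₁ := normalizer_eq hmax₁ hcore₁ hPM hP1 hnP ▸ hxN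
    have hx2 : (x : G) ∈ ((P ⊔ Q : Subgroup G) : Set G) := x.2
    rw [coe_mul_of_left_le_normalizer_right _ _ (hPM₂.trans hnQ)] at hx2
    obtain ⟨a, ha, b, hb, hab⟩ := hx2
    replace hab : a * b = (x : G) := hab
    exact hxP (show (x : G) ∈ P by
      rw [← hab]
      refine mul_mem ha (hZP ⟨hb, ?_⟩)
      have : b = a⁻¹ * x := by rw [← hab]; group
      rw [this]; exact mul_mem (Subgroup.inv_mem M₁ (hPM ha)) hxM)
  have hEq : Q = P := eq_of_le_of_card_ge hQP hcard.le
  exact hne (by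
    rw [← normalizer_eq hmax₁ hcore₁ hPM hP1 hnP, ← hEq]
    exact hnQ)

lemma le_normalizer_centralizer {M A : Subgroup G} (h : M ≤ normalizer (A : Set G)) :
    M ≤ normalizer (centralizer (A : Set G) : Set G) := by
  have key : ∀ m ∈ M, ∀ c ∈ centralizer (A : Set G), m * c * m⁻¹ ∈ centralizer (A : Set G) := by
    intro m hm c hc
    rw [mem_centralizer_iff] at hc ⊢
    intro a ha
    have h1 := hc (m⁻¹ * a * m⁻¹⁻¹) ((mem_normalizer_iff.mp (h (inv_mem hm)) a).mp ha)
    calc a * (m * c * m⁻¹) = m * ((m⁻¹ * a * m⁻¹⁻¹) * c) * m⁻¹ := by group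
      _ = m * (c * (m⁻¹ * a * m⁻¹⁻¹)) * m⁻¹ := by rw [h1]
      _ = m * c * m⁻¹ * a := by group
  intro m hm
  rw [mem_normalizer_iff]
  exact fun c => ⟨key m hm c, fun hc => by simpa [mul_assoc] using key m⁻¹ (inv_mem hm) _ hc⟩

/-- The image in `G` of `O_p(M)`. -/
def pC (p : ℕ) (M : Subgroup G) : Subgroup G := (Cfsg.pCore p M).map M.subtype

omit [Finite G] in
lemma le_normalizer_pC (p : ℕ) (M : Subgroup G) : M ≤ normalizer (pC p M : Set G) := by
  rw [← normal_subgroupOf_iff_le_normalizer (H := pC p M) (map_subtype_le _), pC, subgroupOf,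
    comap_map_eq_self_of_injective (subtype_injective M)]
  exact CfsgLib.Fitting.pCore_normal p

lemma isPGroup_pC (p : ℕ) (M : Subgroup G) : IsPGroup p (pC p M) :=
  (CfsgLib.PCore.pCore_isPGroup (p := p)).map _

lemma le_pC {p : ℕ} {M A X : Subgroup G} (hA : A ≤ M) (hnA : M ≤ normalizer (A : Set G))
    (hX : X ≤ A) (hp : IsPGroup p X) (hnX : A ≤ normalizer (X : Set G)) : X ≤ pC p M := by
  have hAn : (A.subgroupOf M).Normal := (normal_subgroupOf_iff_le_normalizer hA).mpr hnA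
  have hs : (X.subgroupOf M).IsSubnormal := by
    refine Subgroup.IsSubnormal.step _ _ (comap_mono hX) hAn.isSubnormal ?_
    refine (normal_subgroupOf_iff_le_normalizer (comap_mono hX)).mpr fun a ha => ?_
    rw [mem_normalizer_iff]
    exact fun x => mem_normalizer_iff.mp (hnX ha) x
  have h := CfsgLib.PCore.le_pCore_of_isSubnormal hs (hp.of_equiv (subgroupOfEquivOfLe (hX.trans hA)).symm)
  intro x hx
  exact ⟨⟨x, hA (hX hx)⟩, h (show (⟨x, hA (hX hx)⟩ : M) ∈ X.subgroupOf M from hx), rfl⟩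

omit [Finite G] in
lemma pC_eq_bot_iff {p : ℕ} {M : Subgroup G} : pC p M = ⊥ ↔ Cfsg.pCore p M = ⊥ :=
  map_eq_bot_iff_of_injective _ (subtype_injective M)

lemma gfit_eq {p : ℕ} [hp : Fact p.Prime] {H : Type*} [Group H] [Finite H] (hl : Cfsg.layer H = ⊥)
    (hq : ∀ q : ℕ, q.Prime → q ≠ p → Cfsg.pCore q H = ⊥) :
    Cfsg.generalizedFittingSubgroup H = Cfsg.pCore p H := by
  refine le_antisymm ?_ ((CfsgLib.Fitting.pCore_le_fitting hp.out).trans Components.fitting_le_generalizedFitting)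
  refine sup_le (hl ▸ bot_le) ?_
  rw [CfsgLib.Fitting.fitting_eq_iSup_pCore]
  refine iSup_le fun q => ?_
  rcases eq_or_ne (q : ℕ) p with h | h
  · rw [h]
  · rw [hq q (Nat.prime_of_mem_primeFactors q.2) h]; exact bot_le

omit [Finite G] in
lemma isPGroup_unique {p q : ℕ} [Fact p.Prime] [Fact q.Prime] {X : Subgroup G}
    (hX : IsPGroup p X) (hX' : IsPGroup q X) (h : q ≠ p) : X = ⊥ :=
  disjoint_self.mp (IsPGroup.disjoint_of_ne q p h X X hX' hX)

theorem thompson_wielandt (M₁ M₂ : Subgroup G) (hmax : IsCoatom M₁) (g : G)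
    (hconj : M₂ = M₁.map (MulAut.conj g).toMonoidHom) (hne : M₁ ≠ M₂) (hcore : M₁.normalCore = ⊥)
    (A B : ℕ → Subgroup G) (hA0 : A 0 = M₁) (hB0 : B 0 = M₂)
    (hA : ∀ i, A (i + 1) = ((A i ⊓ B i).subgroupOf M₁).normalCore.map M₁.subtype)
    (hB : ∀ i, B (i + 1) = ((A i ⊓ B i).subgroupOf M₂).normalCore.map M₂.subtype)
    (hA2 : A 2 ≠ ⊥) (hB2 : B 2 ≠ ⊥) :
    ∃ p : ℕ, p.Prime ∧ IsPGroup p ↥(A 2 ⊔ B 2) ∧
      Cfsg.generalizedFittingSubgroup ↥M₁ = Cfsg.pCore p ↥M₁ ∧
      Cfsg.generalizedFittingSubgroup ↥(A 1) = Cfsg.pCore p ↥(A 1) ∧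
      Cfsg.generalizedFittingSubgroup ↥M₂ = Cfsg.pCore p ↥M₂ ∧
      Cfsg.generalizedFittingSubgroup ↥(B 1) = Cfsg.pCore p ↥(B 1) := by
  have hcard : Nat.card M₂ = Nat.card M₁ := hconj ▸ card_map_of_injective (MulAut.conj g).injective
  have h21 : ¬ M₂ ≤ M₁ := fun h => hne (eq_of_le_of_card_ge h hcard.ge).symm
  have h12 : ¬ M₁ ≤ M₂ := fun h => hne (eq_of_le_of_card_ge h hcard.le)
  have hmax₂ : IsCoatom M₂ := by
    rw [hconj]
    exact (OrderIso.isCoatom_iff (MulEquiv.mapSubgroup (MulAut.conj g)) M₁).mpr hmax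
  have hcore₂ : M₂.normalCore = ⊥ := by
    rw [eq_bot_iff]
    intro x hx
    have hle : M₂.normalCore ≤ M₁ := by
      intro y hy
      have h1 : g * y * g⁻¹ ∈ M₂.normalCore := (normalCore_normal M₂).conj_mem y hy g
      have h2 := normalCore_le M₂ h1
      rw [hconj] at h2
      obtain ⟨z, hz, he⟩ := h2
      simp only [MulEquiv.toMonoidHom_eq_coe, MonoidHom.coe_coe, MulAut.conj_apply, mul_left_inj, mul_right_inj] at he
      exact he ▸ hz
    exact hcore ▸ (normal_le_normalCore.mpr hle) hx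
  have hA1 : A 1 = coreIn M₁ (M₁ ⊓ M₂) := by rw [hA 0, hA0, hB0]; rfl
  have hB1 : B 1 = coreIn M₂ (M₁ ⊓ M₂) := by rw [hB 0, hA0, hB0]; rfl
  have hA2' : A 2 = coreIn M₁ (A 1 ⊓ B 1) := hA 1
  have hB2' : B 2 = coreIn M₂ (A 1 ⊓ B 1) := hB 1
  have a1M : A 1 ≤ M₁ ⊓ M₂ := hA1 ▸ coreIn_le_right _ _
  have b1M : B 1 ≤ M₁ ⊓ M₂ := hB1 ▸ coreIn_le_right _ _
  have a1n : M₁ ≤ normalizer (A 1 : Set G) := hA1 ▸ le_normalizer_coreIn _ _
  have b1n : M₂ ≤ normalizer (B 1 : Set G) := hB1 ▸ le_normalizer_coreIn _ _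
  have a2n : M₁ ≤ normalizer (A 2 : Set G) := hA2' ▸ le_normalizer_coreIn _ _
  have b2n : M₂ ≤ normalizer (B 2 : Set G) := hB2' ▸ le_normalizer_coreIn _ _
  have a2le : A 2 ≤ A 1 ⊓ B 1 := hA2' ▸ coreIn_le_right _ _
  have b2le : B 2 ≤ A 1 ⊓ B 1 := hB2' ▸ coreIn_le_right _ _
  have amax : ∀ X : Subgroup G, X ≤ M₁ ⊓ M₂ → M₁ ≤ normalizer (X : Set G) → X ≤ A 1 :=
    fun X h1 h2 => hA1 ▸ le_coreIn (h1.trans inf_le_left) h1 h2
  have bmax : ∀ X : Subgroup G, X ≤ M₁ ⊓ M₂ → M₂ ≤ normalizer (X : Set G) → X ≤ B 1 :=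
    fun X h1 h2 => hB1 ▸ le_coreIn (h1.trans inf_le_right) h1 h2
  have nA2 : normalizer (A 2 : Set G) = M₁ :=
    normalizer_eq hmax hcore (a2le.trans inf_le_left |>.trans (a1M.trans inf_le_left)) hA2 a2n
  have nB2 : normalizer (B 2 : Set G) = M₂ :=
    normalizer_eq hmax₂ hcore₂ (b2le.trans inf_le_right |>.trans (b1M.trans inf_le_right)) hB2 b2n
  have hcA : centralizer (A 1 : Set G) ≤ A 1 := amax _ (le_inf
      (((centralizer_le (SetLike.coe_subset_coe.mpr (a2le.trans inf_le_left))).trans (centralizer_le_normalizer _)).trans nA2.le)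
      (((centralizer_le (SetLike.coe_subset_coe.mpr (b2le.trans inf_le_left))).trans (centralizer_le_normalizer _)).trans nB2.le))
    (le_normalizer_centralizer a1n)
  have hcB : centralizer (B 1 : Set G) ≤ B 1 := bmax _ (le_inf
      (((centralizer_le (SetLike.coe_subset_coe.mpr (a2le.trans inf_le_right))).trans (centralizer_le_normalizer _)).trans nA2.le)
      (((centralizer_le (SetLike.coe_subset_coe.mpr (b2le.trans inf_le_right))).trans (centralizer_le_normalizer _)).trans nB2.le))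
    (le_normalizer_centralizer b1n)
  -- the layers vanish
  have hl1 := layer_map_le (M₁ := M₁) (M₂ := M₂) fun K hK =>
    compIn_transfer (M₁ := M₂) (M₂ := M₁) (inf_comm M₁ M₂ ▸ b1M) (inf_comm M₁ M₂ ▸ a1M) b1n a1n hcB hcA hK
  have hl2 := layer_map_le (M₁ := M₂) (M₂ := M₁) fun K hK => compIn_transfer a1M b1M a1n b1n hcA hcB hK
  have hnlayer : ∀ M : Subgroup G, M ≤ normalizer ((Cfsg.layer M).map M.subtype : Set G) := fun M => by
    rw [← normal_subgroupOf_iff_le_normalizer (H := (Cfsg.layer M).map M.subtype) (map_subtype_le _), subgroupOf,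
      comap_map_eq_self_of_injective (subtype_injective M)]
    infer_instance
  have hE : (Cfsg.layer M₁).map M₁.subtype = ⊥ := by
    by_contra h
    have heq := le_antisymm hl1 hl2
    exact h21 ((heq ▸ hnlayer M₂ : M₂ ≤ normalizer ((Cfsg.layer M₁).map M₁.subtype : Set G)).trans
      (normalizer_eq hmax hcore (map_subtype_le _) h (hnlayer M₁)).le)
  have hlay1 : Cfsg.layer M₁ = ⊥ := (map_eq_bot_iff_of_injective _ (subtype_injective M₁)).mp hE
  let e : M₁ ≃* M₂ := (M₁.equivMapOfInjective _ (MulAut.conj g).injective).trans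
    (MulEquiv.subgroupCongr hconj.symm)
  have hlay2 : Cfsg.layer M₂ = ⊥ := by
    rw [← Components.map_layer_equiv e, hlay1, Subgroup.map_bot]
  obtain ⟨p, hp, hP1⟩ : ∃ p : ℕ, p.Prime ∧ Cfsg.pCore p M₁ ≠ ⊥ := by
    by_contra hc
    push Not at hc
    have hM : Nontrivial M₁ := by
      rw [nontrivial_iff_ne_bot]
      exact fun h => hA2 (le_bot_iff.mp (h ▸ (a2le.trans inf_le_left).trans (a1M.trans inf_le_left)))
    have h0 : Cfsg.generalizedFittingSubgroup M₁ = ⊥ := by
      refine le_bot_iff.mp (sup_le (hlay1 ▸ le_rfl) ?_)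
      rw [CfsgLib.Fitting.fitting_eq_iSup_pCore]
      exact iSup_le fun q => (hc q (Nat.prime_of_mem_primeFactors q.2)).le
    have h := Components.centralizer_generalizedFitting_le (G := M₁)
    rw [h0] at h
    exact bot_ne_top (le_bot_iff.mp (le_trans (by intro x _; rw [mem_centralizer_iff]; intro y hy; rw [mem_bot.mp hy, one_mul, mul_one]) h) : (⊤ : Subgroup M₁) = ⊥).symm
  have hmapP : ∀ q, (pC q M₁).map (MulAut.conj g).toMonoidHom = pC q M₂ := fun q => by
    rw [pC, pC, ← CfsgLib.PCore.map_pCore_equiv (p := q) e, Subgroup.map_map, Subgroup.map_map]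
    rfl
  have key : ∀ q : ℕ, q.Prime → Cfsg.pCore q M₁ ≠ ⊥ → IsPGroup q (B 2) ∧ IsPGroup q (A 2) := by
    intro q hq hq1
    have := Fact.mk hq
    have hq1' : pC q M₁ ≠ ⊥ := fun h => hq1 (pC_eq_bot_iff.mp h)
    have hq2' : pC q M₂ ≠ ⊥ := by
      rw [← hmapP q]
      exact fun h => hq1' ((map_eq_bot_iff_of_injective _ (MulAut.conj g).injective).mp h)
    have hc : Nat.card (pC q M₁) = Nat.card (pC q M₂) := by
      rw [← hmapP q, card_map_of_injective (MulAut.conj g).injective]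
    refine ⟨?_, ?_⟩
    · exact isPGroup_core h21 hmax hcore hmax₂ hcore₂ a1M a1n amax (b2le.trans inf_le_left) b2n
        (isPGroup_pC q M₁) (map_subtype_le _) (le_normalizer_pC q M₁) hq1'
        (fun X h1 h2 h3 => le_pC (a1M.trans inf_le_left) a1n h1 h2 h3)
        (isPGroup_pC q M₂) (map_subtype_le _) (le_normalizer_pC q M₂) hc
    · exact isPGroup_core h12 hmax₂ hcore₂ hmax hcore (inf_comm M₁ M₂ ▸ b1M) b1n
        (fun X h1 h2 => bmax X (inf_comm M₂ M₁ ▸ h1) h2) (a2le.trans inf_le_right) a2n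
        (isPGroup_pC q M₂) (map_subtype_le _) (le_normalizer_pC q M₂) hq2'
        (fun X h1 h2 h3 => le_pC (b1M.trans inf_le_right) b1n h1 h2 h3)
        (isPGroup_pC q M₁) (map_subtype_le _) (le_normalizer_pC q M₁) hc.symm
  have := Fact.mk hp
  have hq : ∀ q : ℕ, q.Prime → q ≠ p → Cfsg.pCore q M₁ = ⊥ := fun q hq hqp => by
    have := Fact.mk hq
    by_contra h
    exact hB2 (isPGroup_unique (key p hp hP1).1 (key q hq h).1 hqp)
  have hq₂ : ∀ q : ℕ, q.Prime → q ≠ p → Cfsg.pCore q M₂ = ⊥ := fun q hq' hqp => by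
    rw [← CfsgLib.PCore.map_pCore_equiv (p := q) e, hq q hq' hqp, Subgroup.map_bot]
  have sub : ∀ {M X : Subgroup G}, X ≤ M → M ≤ normalizer (X : Set G) → Cfsg.layer M = ⊥ →
      (∀ q : ℕ, q.Prime → q ≠ p → Cfsg.pCore q M = ⊥) →
      Cfsg.generalizedFittingSubgroup X = Cfsg.pCore p X := by
    intro M X hX hn hl hQ
    refine gfit_eq (eq_bot_iff.mpr (sSup_le fun K hK => ?_)) fun q hq' hqp => ?_
    · exfalso
      have hc : CompIn (K.map X.subtype) X := ⟨map_subtype_le K, by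
        rwa [subgroupOf, comap_map_eq_self_of_injective (subtype_injective X)]⟩
      have h := (compIn_iff hc.1 hX hn).mpr hc
      exact Components.component_ne_bot h.2 (le_bot_iff.mp (hl ▸ Components.component_le_layer h.2))
    · rw [← pC_eq_bot_iff, eq_bot_iff, ← pC_eq_bot_iff.mpr (hQ q hq' hqp)]
      exact le_pC hX hn (map_subtype_le _) (isPGroup_pC q X) (le_normalizer_pC q X)
  refine ⟨p, hp, ?_, gfit_eq hlay1 hq, sub (a1M.trans inf_le_left) a1n hlay1 hq,
    gfit_eq hlay2 hq₂, sub (b1M.trans inf_le_right) b1n hlay2 hq₂⟩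
  rw [sup_comm]
  exact (key p hp hP1).1.to_sup_of_normal_right' (key p hp hP1).2
    (((b2le.trans inf_le_left).trans (a1M.trans inf_le_left)).trans a2n)

end

end CfsgLib.Maximal.TW
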