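import Cfsg.Agent.Lib.Maximal.TensorPower

/-!
In characteristic two the stabiliser of a symplectic tensor power decomposition with small factors is not
maximal in Ω: it normalises a space of operators with scalar pairwise anticommutators.
-/

set_option autoImplicit false
set_option linter.unusedSectionVars false

namespace CfsgLib.Maximal.WreathCharTwo

open Matrix QuadraticMap CfsgLib.Maximal.TensorPower
open scoped commutatorElement

variable {F : Type*} [Field F] {k t : ℕ}

/-- The local data on one tensor factor. -/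
structure Local (f : (Fin k → F) → (Fin k → F) → F) (t : ℕ) where
  L : Submodule F (Matrix (Fin k) (Fin k) F)
  sq : ∀ x ∈ L, ∃ γ : F, x * x = γ • 1
  adj : ∀ x ∈ L, ∀ u w, f (x *ᵥ u) w = f u (x *ᵥ w)
  alt : (∀ x ∈ L, ∀ v, f (x *ᵥ v) v = 0) ∨ 3 ≤ t
  inv : ∀ (a : GL (Fin k) F) (μ : F), μ ≠ 0 →
    (∀ u w, f ((a : Matrix (Fin k) (Fin k) F) *ᵥ u) ((a : Matrix (Fin k) (Fin k) F) *ᵥ w) = μ * f u w) →
    ∀ x ∈ L, (a : Matrix (Fin k) (Fin k) F) * x * ((a⁻¹ : GL (Fin k) F) : Matrix (Fin k) (Fin k) F) ∈ L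
  gen : Algebra.adjoin F (L : Set (Matrix (Fin k) (Fin k) F)) = ⊤
  x : Matrix (Fin k) (Fin k) F
  y : Matrix (Fin k) (Fin k) F
  x_mem : x ∈ L
  y_mem : y ∈ L
  x_sq : x * x = 0
  y_sq : y * y = 0
  anti : x * y + y * x = 1
  u : Fin k → F
  u_ne : u ≠ 0
  yu : y *ᵥ u = 0
  u₂ : Fin k → F
  xu₂ : x *ᵥ u₂ ≠ 0

section
variable {f : (Fin k → F) → (Fin k → F) → F} (D : Local f t)

/-- The space of operators. -/
def opSpace : Submodule F (Matrix (Fin t → Fin k) (Fin t → Fin k) F) :=
  Submodule.span F (insert 1 (⋃ i : Fin t, slot i '' (D.L : Set (Matrix (Fin k) (Fin k) F))))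

lemma one_mem_opSpace : (1 : Matrix (Fin t → Fin k) (Fin t → Fin k) F) ∈ opSpace D :=
  Submodule.subset_span (Set.mem_insert _ _)

lemma slot_mem_opSpace (i : Fin t) {x : Matrix (Fin k) (Fin k) F} (hx : x ∈ D.L) : slot i x ∈ opSpace D :=
  Submodule.subset_span (Set.mem_insert_of_mem _ (Set.mem_iUnion.2 ⟨i, x, hx, rfl⟩))

variable (h11 : (1 : F) + 1 = 0)
include h11

lemma add_self_mat {ι : Type} (M : Matrix ι ι F) : M + M = 0 := by
  ext a b
  show M a b + M a b = 0
  linear_combination (M a b) * h11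

lemma anticomm {a b : Matrix (Fin t → Fin k) (Fin t → Fin k) F} (ha : a ∈ opSpace D) (hb : b ∈ opSpace D) :
    ∃ γ : F, a * b + b * a = γ • 1 := by
  induction ha, hb using Submodule.span_induction₂ with
  | mem_mem a b ha hb =>
    rcases ha with rfl | ha
    · exact ⟨0, by rw [one_mul, mul_one, zero_smul]; exact add_self_mat h11 b⟩
    rcases hb with rfl | hb
    · exact ⟨0, by rw [one_mul, mul_one, zero_smul]; exact add_self_mat h11 a⟩
    obtain ⟨i, x, hx, rfl⟩ := Set.mem_iUnion.1 ha
    obtain ⟨j, y, hy, rfl⟩ := Set.mem_iUnion.1 hb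
    rcases eq_or_ne i j with rfl | hij
    · obtain ⟨α, hα⟩ := D.sq _ (D.L.add_mem hx hy)
      obtain ⟨β, hβ⟩ := D.sq _ hx
      obtain ⟨γ, hγ⟩ := D.sq _ hy
      refine ⟨α - β - γ, ?_⟩
      rw [slot_mul, slot_mul, ← map_add, ← slot_one i, ← map_smul]
      congr 1
      rw [sub_smul, sub_smul, ← hα, ← hβ, ← hγ]
      noncomm_ring
    · exact ⟨0, by rw [slot_comm hij, zero_smul]; exact add_self_mat h11 _⟩
  | zero_left b hb => exact ⟨0, by simp⟩
  | zero_right a ha => exact ⟨0, by simp⟩
  | add_left a a' b _ _ _ h h' =>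
    obtain ⟨γ, h⟩ := h
    obtain ⟨δ, h'⟩ := h'
    exact ⟨γ + δ, by rw [add_smul, ← h, ← h', add_mul, mul_add]; abel⟩
  | add_right a b b' _ _ _ h h' =>
    obtain ⟨γ, h⟩ := h
    obtain ⟨δ, h'⟩ := h'
    exact ⟨γ + δ, by rw [add_smul, ← h, ← h', add_mul, mul_add]; abel⟩
  | smul_left r a b _ _ h =>
    obtain ⟨γ, h⟩ := h
    exact ⟨r * γ, by rw [mul_smul, ← h, smul_mul_assoc, mul_smul_comm, smul_add]⟩
  | smul_right r a b _ _ h =>
    obtain ⟨γ, h⟩ := h
    exact ⟨r * γ, by rw [mul_smul, ← h, smul_mul_assoc, mul_smul_comm, smul_add]⟩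

lemma square {a : Matrix (Fin t → Fin k) (Fin t → Fin k) F} (ha : a ∈ opSpace D) : ∃ γ : F, a * a = γ • 1 := by
  induction ha using Submodule.span_induction with
  | mem a ha =>
    rcases ha with rfl | ha
    · exact ⟨1, by simp⟩
    obtain ⟨i, x, hx, rfl⟩ := Set.mem_iUnion.1 ha
    obtain ⟨γ, h⟩ := D.sq x hx
    exact ⟨γ, by rw [slot_mul, h, map_smul, slot_one]⟩
  | zero => exact ⟨0, by simp⟩
  | add a b ha hb h h' =>
    obtain ⟨γ, h⟩ := h
    obtain ⟨δ, h'⟩ := h'
    obtain ⟨ε, h''⟩ := anticomm D h11 ha hb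
    exact ⟨γ + δ + ε, by rw [add_smul, add_smul, ← h, ← h', ← h'']; noncomm_ring⟩
  | smul r a _ h =>
    obtain ⟨γ, h⟩ := h
    exact ⟨r * r * γ, by rw [mul_smul, ← h, smul_mul_smul_comm]⟩

end

/-- The matrices preserving a space of operators under conjugation. -/
def opStabilizer {κ : Type} [Fintype κ] [DecidableEq κ] [Finite F] (S : Submodule F (Matrix κ κ F)) :
    Subgroup (GL κ F) where
  carrier := {g | ∀ l ∈ S, (g : Matrix κ κ F) * l * ((g⁻¹ : GL κ F) : Matrix κ κ F) ∈ S}
  one_mem' := fun l hl => by simpa using hl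
  mul_mem' {g h} hg hh := fun l hl => by
    simpa [_root_.mul_inv_rev, mul_assoc] using hg _ (hh l hl)
  inv_mem' {g} hg := fun l hl => by
    classical
    have hfin : Finite (GL κ F) := inferInstance
    have hpow : ∀ m : ℕ, ∀ l ∈ S, ((g ^ m : GL κ F) : Matrix κ κ F) * l * (((g ^ m)⁻¹ : GL κ F) : Matrix κ κ F) ∈ S := by
      intro m
      induction m with
      | zero => intro l hl; simpa using hl
      | succ m ih =>
        intro l hl
        rw [pow_succ', _root_.mul_inv_rev, Units.val_mul, Units.val_mul]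
        simpa [mul_assoc] using hg _ (ih l hl)
    obtain ⟨m, hm⟩ : ∃ m, g⁻¹ = g ^ m := by
      refine ⟨orderOf g - 1, inv_eq_of_mul_eq_one_right ?_⟩
      rw [← pow_succ', Nat.sub_add_cancel (orderOf_pos g), pow_orderOf_eq_one]
    rw [hm]
    exact hpow m l hl

lemma mem_opStabilizer_of_span {κ : Type} [Fintype κ] [DecidableEq κ] [Finite F] {s : Set (Matrix κ κ F)}
    {g : GL κ F}
    (h : ∀ l ∈ s, (g : Matrix κ κ F) * l * ((g⁻¹ : GL κ F) : Matrix κ κ F) ∈ Submodule.span F s) :
    g ∈ opStabilizer (Submodule.span F s) := by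
  intro l hl
  induction hl using Submodule.span_induction with
  | mem l hl => exact h l hl
  | zero => simp
  | add a b _ _ ha hb => rw [mul_add, add_mul]; exact add_mem ha hb
  | smul r a _ ha => rw [mul_smul_comm, smul_mul_assoc]; exact Submodule.smul_mem _ r ha

lemma vanish_of_basis {κ : Type} [Fintype κ] [DecidableEq κ] {φ : (κ → F) → F}
    (hadd : ∀ v w, φ (v + w) = φ v + φ w) (hsmul : ∀ (c : F) v, φ (c • v) = c ^ 2 * φ v)
    (hbasis : ∀ a, φ (Pi.single a 1) = 0) (v : κ → F) : φ v = 0 := by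
  let ψ : (κ → F) →+ F := AddMonoidHom.mk' φ hadd
  show ψ v = 0
  rw [pi_eq_sum_univ' v, map_sum]
  refine Finset.sum_eq_zero fun a _ => ?_
  show φ _ = 0
  rw [hsmul, hbasis, mul_zero]

/-- A matrix commuting with all slot operators of the generators is central. -/
lemma central_of_commute {f : (Fin k → F) → (Fin k → F) → F} (D : Local f t)
    (Z : Matrix (Fin t → Fin k) (Fin t → Fin k) F)
    (hZ : ∀ i, ∀ z ∈ D.L, Z * slot i z = slot i z * Z)
    (M : Matrix (Fin t → Fin k) (Fin t → Fin k) F) : Z * M = M * Z := by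
  refine commute_all (fun i a => ?_) M
  have ha : a ∈ Algebra.adjoin F (D.L : Set (Matrix (Fin k) (Fin k) F)) := by rw [D.gen]; trivial
  induction ha using Algebra.adjoin_induction with
  | mem a ha => exact hZ i a ha
  | algebraMap r => rw [Algebra.algebraMap_eq_smul_one, map_smul, slot_one, mul_smul_comm, smul_mul_assoc, mul_one, one_mul]
  | add a b _ _ ha hb => rw [map_add, mul_add, add_mul, ha, hb]
  | mul a b _ _ ha hb => rw [← slot_mul, ← mul_assoc, ha, mul_assoc, hb, mul_assoc]

section Core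
variable [Fintype F] {f : (Fin k → F) → (Fin k → F) → F} (hf : Cfsg.Geo.IsSymplecticForm f) (D : Local f t)
  (h11 : (1 : F) + 1 = 0) (q : QuadraticForm F ((Fin t → Fin k) → F)) (c : F) (hc : c ≠ 0)
  (hform : ∀ xs ys : Fin t → Fin k → F, polar q (tp xs) (tp ys) = c * ∏ i, f (xs i) (ys i))
  (hq0 : ∀ xs : Fin t → Fin k → F, q (tp xs) = 0)

include hform hc in
lemma monomial_mem (hex : ∃ u w : Fin k → F, f u w = 1) {g : CfsgLib.Orth.O q}
    (hg : IsMonomial (g : GL (Fin t → Fin k) F)) : (g : GL (Fin t → Fin k) F) ∈ opStabilizer (opSpace D) := by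
  classical
  obtain ⟨σ, as, hg⟩ := hg
  obtain ⟨u₀, w₀, h01⟩ := hex
  have hsim : ∀ i, ∃ μ : F, μ ≠ 0 ∧ ∀ u w, f ((as i : Matrix (Fin k) (Fin k) F) *ᵥ u)
      ((as i : Matrix (Fin k) (Fin k) F) *ᵥ w) = μ * f u w := by
    intro i
    set C : F := ∏ j ∈ Finset.univ.erase i,
      f ((as j : Matrix (Fin k) (Fin k) F) *ᵥ u₀) ((as j : Matrix (Fin k) (Fin k) F) *ᵥ w₀) with hC
    have key : ∀ u w, f ((as i : Matrix (Fin k) (Fin k) F) *ᵥ u) ((as i : Matrix (Fin k) (Fin k) F) *ᵥ w) * C =
        f u w := by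
      intro u w
      have h := CfsgLib.Orth.polar_app g (tp (Function.update (fun _ => u₀) (σ i) u))
        (tp (Function.update (fun _ => w₀) (σ i) w))
      rw [CfsgLib.Orth.app_apply, CfsgLib.Orth.app_apply, hg, hg, hform, hform] at h
      have h' := mul_left_cancel₀ hc h
      rw [← Finset.mul_prod_erase Finset.univ _ (Finset.mem_univ i),
        ← Finset.mul_prod_erase Finset.univ _ (Finset.mem_univ (σ i))] at h'
      have e1 : ∏ j ∈ Finset.univ.erase i, f
          ((as j : Matrix (Fin k) (Fin k) F) *ᵥ Function.update (fun _ => u₀) (σ i) u (σ j))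
          ((as j : Matrix (Fin k) (Fin k) F) *ᵥ Function.update (fun _ => w₀) (σ i) w (σ j)) = C :=
        Finset.prod_congr rfl fun j hj => by
          have : σ j ≠ σ i := σ.injective.ne (Finset.ne_of_mem_erase hj)
          rw [Function.update_of_ne this, Function.update_of_ne this]
      have e2 : ∏ j ∈ Finset.univ.erase (σ i),
          f (Function.update (fun _ => u₀) (σ i) u j) (Function.update (fun _ => w₀) (σ i) w j) = 1 :=
        Finset.prod_eq_one fun j hj => by
          rw [Function.update_of_ne (Finset.ne_of_mem_erase hj), Function.update_of_ne (Finset.ne_of_mem_erase hj), h01]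
      rw [e1, e2, Function.update_self, Function.update_self, mul_one] at h'
      exact h'
    have hC0 : C ≠ 0 := by
      intro h0
      have h := key u₀ w₀
      rw [h0, mul_zero, h01] at h
      exact zero_ne_one h
    exact ⟨C⁻¹, inv_ne_zero hC0, fun u w => by rw [← key u w]; field_simp⟩
  refine mem_opStabilizer_of_span fun l hl => ?_
  rcases hl with rfl | hl
  · rw [mul_one, ← Units.val_mul, mul_inv_cancel, Units.val_one]
    exact one_mem_opSpace D
  obtain ⟨i, x, hx, rfl⟩ := Set.mem_iUnion.1 hl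
  obtain ⟨j, rfl⟩ := σ.surjective i
  obtain ⟨μ, hμ, hsim⟩ := hsim j
  set x' := (as j : Matrix (Fin k) (Fin k) F) * x * (((as j)⁻¹ : GL (Fin k) F) : Matrix (Fin k) (Fin k) F)
  have e : ((g : GL (Fin t → Fin k) F) : Matrix (Fin t → Fin k) (Fin t → Fin k) F) * slot (σ j) x =
      slot j x' * ((g : GL (Fin t → Fin k) F) : Matrix (Fin t → Fin k) (Fin t → Fin k) F) := by
    refine ext_tp fun xs => ?_
    rw [← Matrix.mulVec_mulVec, slot_mulVec, hg, ← Matrix.mulVec_mulVec, hg, slot_mulVec]
    congr 1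
    funext l
    rcases eq_or_ne l j with rfl | h
    · simp [x', Matrix.mulVec_mulVec, mul_assoc]
    · simp [h, σ.injective.ne h]
  rw [e, mul_assoc, ← Units.val_mul, mul_inv_cancel, Units.val_one, mul_one]
  exact slot_mem_opSpace D j (D.inv (as j) μ hμ hsim x hx)

include hform D in
lemma polar_slot (i : Fin t) {x : Matrix (Fin k) (Fin k) F} (hx : x ∈ D.L) (v w : (Fin t → Fin k) → F) :
    polar q (slot i x *ᵥ v) w = polar q v (slot i x *ᵥ w) := by
  let P := Matrix.mulVecLin (slot i x)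
  have : q.polarBilin.comp P = (q.polarBilin.compl₂ P) := by
    refine (Pi.basisFun F _).ext fun a => (Pi.basisFun F _).ext fun b => ?_
    simp only [LinearMap.comp_apply, LinearMap.compl₂_apply, Pi.basisFun_apply, polarBilin_apply_apply, P,
      Matrix.mulVecLin_apply]
    rw [← tp_single, ← tp_single, slot_mulVec, slot_mulVec, hform, hform]
    congr 1
    refine Finset.prod_congr rfl fun j _ => ?_
    rcases eq_or_ne j i with rfl | h
    · simp only [Function.update_self]; exact D.adj x hx _ _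
    · simp only [Function.update_of_ne h]
  exact LinearMap.congr_fun (LinearMap.congr_fun this v) w

include hf hform h11 D in
lemma polar_slot_self (ht : 2 ≤ t) (i : Fin t) {x : Matrix (Fin k) (Fin k) F} (hx : x ∈ D.L)
    (v : (Fin t → Fin k) → F) : polar q v (slot i x *ᵥ v) = 0 := by
  refine vanish_of_basis (φ := fun v => polar q v (slot i x *ᵥ v)) (fun v w => ?_) (fun r v => ?_) (fun a => ?_) v
  · simp only [Matrix.mulVec_add, polar_add_left, polar_add_right]
    rw [polar_comm (f := ⇑q) w (slot i x *ᵥ v), polar_slot D q c hform i hx v w]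
    linear_combination (polar q v (slot i x *ᵥ w)) * h11
  · simp only [Matrix.mulVec_smul, polar_smul_left, polar_smul_right, smul_eq_mul]
    ring
  · show polar q _ _ = 0
    rw [← tp_single, slot_mulVec, hform]
    obtain ⟨j, hj⟩ : ∃ j : Fin t, j ≠ i := by
      haveI : Nontrivial (Fin t) := Fin.nontrivial_iff_two_le.2 ht
      exact exists_ne i
    rw [Finset.prod_eq_zero (Finset.mem_univ j), mul_zero]
    rw [Function.update_of_ne hj]
    exact hf.alternating _

include h11 in
lemma exists_one_add (P : Matrix (Fin t → Fin k) (Fin t → Fin k) F) (hP : P ∈ opSpace D) (hPP : P * P = 0)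
    (hadj : ∀ v w, polar q (P *ᵥ v) w = polar q v (P *ᵥ w)) (hself : ∀ v, polar q v (P *ᵥ v) = 0)
    (hQP : ∀ a, q (P *ᵥ Pi.single a 1) = 0) :
    ∃ A : CfsgLib.Orth.O q, A * A = 1 ∧ (A : GL (Fin t → Fin k) F) ∈ opStabilizer (opSpace D) ∧
      ∀ v, CfsgLib.Orth.app A v = v + P *ᵥ v := by
  have hsq : (1 + P) * (1 + P) = 1 := by
    rw [mul_add, add_mul, add_mul, one_mul, one_mul, mul_one, hPP, add_zero, add_assoc, add_self_mat h11, add_zero]
  have hQ : ∀ v, q (P *ᵥ v) = 0 := by
    refine vanish_of_basis (φ := fun v => q (P *ᵥ v)) (fun v w => ?_) (fun r v => ?_) hQP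
    · show q _ = _
      rw [Matrix.mulVec_add, QuadraticMap.map_add ⇑q, hadj, Matrix.mulVec_mulVec, hPP, Matrix.zero_mulVec]
      rw [polar_zero_right, add_zero]
    · show q _ = _
      rw [Matrix.mulVec_smul, QuadraticMap.map_smul, smul_eq_mul, pow_two]
  let g : GL (Fin t → Fin k) F := ⟨1 + P, 1 + P, hsq, hsq⟩
  let A : CfsgLib.Orth.O q := ⟨g, fun v _ => by
    show q ((1 + P) *ᵥ v) = q v
    rw [Matrix.add_mulVec, Matrix.one_mulVec, QuadraticMap.map_add ⇑q, hQ, hself, add_zero, add_zero]⟩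
  refine ⟨A, Subtype.ext (Units.ext hsq), fun l hl => ?_, fun v => ?_⟩
  · show (1 + P) * l * (1 + P) ∈ _
    obtain ⟨γ, h⟩ := anticomm D h11 hP hl
    have : (1 + P) * l * (1 + P) = l + (P * l + l * P) + P * l * P := by noncomm_ring
    rw [this, h]
    have h2 : P * l = γ • 1 - l * P := eq_sub_of_add_eq h
    rw [h2, sub_mul, mul_assoc, hPP, mul_zero, sub_zero, smul_mul_assoc, one_mul]
    exact add_mem (add_mem hl (Submodule.smul_mem _ γ (one_mem_opSpace D))) (Submodule.smul_mem _ γ hP)
  · show (1 + P) *ᵥ v = _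
    rw [Matrix.add_mulVec, Matrix.one_mulVec]

include hf hform h11 hq0 in
lemma exists_in_stabilizer (ht : 2 ≤ t) :
    ∃ g : GL (Fin t → Fin k) F, g ∈ Cfsg.Geo.omegaGL ⇑q ∧ g ∈ opStabilizer (opSpace D) ∧ ¬ IsMonomial g := by
  classical
  let i₀ : Fin t := ⟨0, by omega⟩
  let i₁ : Fin t := ⟨1, by omega⟩
  have h01 : i₀ ≠ i₁ := by simp [i₀, i₁, Fin.ext_iff]
  have hskew : ∀ v w, f v w = f w v := fun v w => by
    rw [hf.skew]; linear_combination -(f w v) * h11
  -- operators supported on two factors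
  have two : ∀ (i j : Fin t), i ≠ j → ∀ z ∈ D.L, z * z = 0 →
      ∃ A : CfsgLib.Orth.O q, A * A = 1 ∧ (A : GL (Fin t → Fin k) F) ∈ opStabilizer (opSpace D) ∧
        ∀ v, CfsgLib.Orth.app A v = v + (slot i z + slot j z) *ᵥ v := by
    intro i j hij z hz hzz
    refine exists_one_add D h11 q _ (add_mem (slot_mem_opSpace D i hz) (slot_mem_opSpace D j hz)) ?_
      (fun v w => ?_) (fun v => ?_) fun a => ?_
    · rw [mul_add, add_mul, add_mul, slot_mul, slot_mul, hzz, map_zero, map_zero, slot_comm hij, zero_add, add_zero,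
        add_self_mat h11]
    · rw [Matrix.add_mulVec, Matrix.add_mulVec, polar_add_left, polar_add_right,
        polar_slot D q c hform i hz, polar_slot D q c hform j hz]
    · rw [Matrix.add_mulVec, polar_add_right, polar_slot_self hf D h11 q c hform ht i hz,
        polar_slot_self hf D h11 q c hform ht j hz, add_zero]
    · rw [← tp_single, Matrix.add_mulVec, slot_mulVec, slot_mulVec, QuadraticMap.map_add ⇑q, hq0, hq0, hform,
        zero_add, zero_add]
      rcases D.alt with halt | ht3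
      · rw [Finset.prod_eq_zero (Finset.mem_univ i), mul_zero]
        rw [Function.update_self, Function.update_of_ne hij]
        exact halt z hz _
      · obtain ⟨l, hli, hlj⟩ : ∃ l : Fin t, l ≠ i ∧ l ≠ j := by
          have : (({i, j} : Finset (Fin t)))ᶜ.Nonempty := by
            rw [← Finset.card_pos, Finset.card_compl, Fintype.card_fin]
            have := Finset.card_le_two (a := i) (b := j)
            omega
          obtain ⟨l, hl⟩ := this
          exact ⟨l, by simpa using hl⟩
        rw [Finset.prod_eq_zero (Finset.mem_univ l), mul_zero]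
        rw [Function.update_of_ne hli, Function.update_of_ne hlj]
        exact hf.alternating _
  obtain ⟨A, hA2, hAM, hA⟩ := two i₀ i₁ h01 D.x D.x_mem D.x_sq
  -- the second operator
  obtain ⟨R, hRanti, hRu, B, hB2, hBM, hB⟩ : ∃ R : Matrix (Fin t → Fin k) (Fin t → Fin k) F,
      (slot i₀ D.x + slot i₁ D.x) * R + R * (slot i₀ D.x + slot i₁ D.x) = 1 ∧
      (R *ᵥ tp (fun j => if j = i₁ then D.u₂ else D.u) = 0) ∧
      ∃ B : CfsgLib.Orth.O q, B * B = 1 ∧ (B : GL (Fin t → Fin k) F) ∈ opStabilizer (opSpace D) ∧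
        ∀ v, CfsgLib.Orth.app B v = v + R *ᵥ v := by
    set xs : Fin t → Fin k → F := fun j => if j = i₁ then D.u₂ else D.u
    have hzero : ∀ i, i ≠ i₁ → slot i D.y *ᵥ tp xs = 0 := by
      intro i hi
      rw [slot_mulVec]
      funext a
      exact Finset.prod_eq_zero (Finset.mem_univ i) (by simp [xs, hi, D.yu])
    have hanti0 : slot i₀ D.x * slot i₀ D.y + slot i₀ D.y * slot i₀ D.x = 1 := by
      rw [slot_mul, slot_mul, ← map_add, D.anti, slot_one]
    rcases D.alt with halt | ht3
    · refine ⟨slot i₀ D.y, ?_, hzero i₀ h01, exists_one_add D h11 q _ (slot_mem_opSpace D i₀ D.y_mem)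
        (by rw [slot_mul, D.y_sq, map_zero]) (polar_slot D q c hform i₀ D.y_mem)
        (polar_slot_self hf D h11 q c hform ht i₀ D.y_mem) fun a => by rw [← tp_single, slot_mulVec, hq0]⟩
      rw [add_mul, mul_add, slot_comm (Ne.symm h01) D.x D.y,
        show ∀ a b a' : Matrix (Fin t → Fin k) (Fin t → Fin k) F, a + b + (a' + b) = (a + a') + (b + b) from
          fun a b a' => by abel, hanti0, add_self_mat h11, add_zero]
    · let i₂ : Fin t := ⟨2, by omega⟩
      have h02 : i₀ ≠ i₂ := by simp [i₀, i₂, Fin.ext_iff]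
      have h12 : i₂ ≠ i₁ := by simp [i₁, i₂, Fin.ext_iff]
      refine ⟨slot i₀ D.y + slot i₂ D.y, ?_, by rw [Matrix.add_mulVec, hzero i₀ h01, hzero i₂ h12, add_zero],
        two i₀ i₂ h02 D.y D.y_mem D.y_sq⟩
      have e1 := slot_comm h02 D.x D.y
      have e2 := slot_comm (Ne.symm h01) D.x D.y
      have e3 := slot_comm (Ne.symm h12) D.x D.y
      simp only [add_mul, mul_add]
      rw [e1, e2, e3,
        show ∀ a b c' d a' : Matrix (Fin t → Fin k) (Fin t → Fin k) F,
          a + b + (c' + d) + (a' + c' + (b + d)) = (a + a') + (b + b) + (c' + c') + (d + d) from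
          fun a b c' d a' => by abel, hanti0]
      simp only [add_self_mat h11, add_zero]
  set P := slot i₀ D.x + slot i₁ D.x
  set xs : Fin t → Fin k → F := fun j => if j = i₁ then D.u₂ else D.u with hxs
  refine ⟨((⁅A, B⁆ : CfsgLib.Orth.O q) : GL (Fin t → Fin k) F), TensorTools.commutator_mem_omega A B, ?_, ?_⟩
  · rw [commutatorElement_def, Subgroup.coe_mul, Subgroup.coe_mul, Subgroup.coe_mul, Subgroup.coe_inv,
      Subgroup.coe_inv]
    exact Subgroup.mul_mem _ (Subgroup.mul_mem _ (Subgroup.mul_mem _ hAM hBM) (Subgroup.inv_mem _ hAM))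
      (Subgroup.inv_mem _ hBM)
  rintro ⟨σ, as, hmon⟩
  have hPP : P * P = 0 := by
    rw [mul_add, add_mul, add_mul, slot_mul, slot_mul, D.x_sq, map_zero, map_zero, slot_comm h01, zero_add, add_zero,
      add_self_mat h11]
  have hval : ((((⁅A, B⁆ : CfsgLib.Orth.O q) : GL (Fin t → Fin k) F)) : Matrix (Fin t → Fin k) (Fin t → Fin k) F) *ᵥ
      tp xs = P *ᵥ tp xs := by
    show CfsgLib.Orth.app ⁅A, B⁆ (tp xs) = _
    rw [commutatorElement_def, inv_eq_of_mul_eq_one_right hA2, inv_eq_of_mul_eq_one_right hB2,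
      CfsgLib.Orth.app_mul, CfsgLib.Orth.app_mul, CfsgLib.Orth.app_mul]
    simp only [hA, hB]
    rw [hRu, add_zero, Matrix.mulVec_add R (tp xs), hRu, zero_add, Matrix.mulVec_mulVec]
    have hRP : (R * P) *ᵥ tp xs = tp xs := by
      have h := congrArg (fun M => M *ᵥ tp xs) hRanti
      simp only [Matrix.add_mulVec, Matrix.one_mulVec] at h
      rw [← Matrix.mulVec_mulVec (M := P) (N := R), hRu, Matrix.mulVec_zero, zero_add] at h
      exact h
    rw [hRP]
    rw [show tp xs + P *ᵥ tp xs + tp xs = P *ᵥ tp xs by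
      funext a; simp only [Pi.add_apply]; linear_combination (tp xs a) * h11,
      Matrix.mulVec_mulVec, hPP, Matrix.zero_mulVec, add_zero]
  rw [hmon] at hval
  set zs : Fin t → Fin k → F := fun i => (as i : Matrix (Fin k) (Fin k) F) *ᵥ xs (σ i)
  -- a two by two minor
  have indep : ∀ u : Fin k → F, u ≠ 0 → D.x *ᵥ u ≠ 0 → ∃ a b, (D.x *ᵥ u) a * u b - (D.x *ᵥ u) b * u a ≠ 0 := by
    intro u hu hxu
    by_contra h
    push Not at h
    obtain ⟨b, hb⟩ := Function.ne_iff.1 hu
    have he : D.x *ᵥ u = ((D.x *ᵥ u) b / u b) • u := by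
      funext a
      rw [Pi.smul_apply, smul_eq_mul, div_mul_eq_mul_div, eq_div_iff hb]
      linear_combination h a b
    have h2 := congrArg (fun w => D.x *ᵥ w) he
    simp only [Matrix.mulVec_mulVec, D.x_sq, Matrix.zero_mulVec, Matrix.mulVec_smul] at h2
    have hr := (smul_eq_zero.1 h2.symm).resolve_right hxu
    rw [hr, zero_smul] at he
    exact hxu he
  have hu0 : D.x *ᵥ D.u ≠ 0 := by
    intro h
    have := congrArg (fun M => M *ᵥ D.u) D.anti
    simp only [Matrix.add_mulVec, Matrix.one_mulVec, ← Matrix.mulVec_mulVec, D.yu, h, Matrix.mulVec_zero,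
      add_zero] at this
    exact D.u_ne this.symm
  obtain ⟨α, α', hα⟩ := indep D.u D.u_ne hu0
  obtain ⟨β, β', hβ⟩ := indep D.u₂ (fun h => D.xu₂ (by rw [h, Matrix.mulVec_zero])) D.xu₂
  obtain ⟨γ, hγ⟩ := Function.ne_iff.1 D.u_ne
  let idx : Fin k → Fin k → Fin t → Fin k := fun a b => Function.update (Function.update (fun _ => γ) i₀ a) i₁ b
  have hsplit : ∀ (ws : Fin t → Fin k → F) a b, tp ws (idx a b) =
      ws i₀ a * (ws i₁ b * ∏ i ∈ (Finset.univ.erase i₀).erase i₁, ws i γ) := by
    intro ws a b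
    show ∏ i, ws i (idx a b i) = _
    rw [← Finset.mul_prod_erase Finset.univ _ (Finset.mem_univ i₀),
      ← Finset.mul_prod_erase _ _ (Finset.mem_erase.2 ⟨Ne.symm h01, Finset.mem_univ i₁⟩)]
    rw [show idx a b i₀ = a by simp [idx, h01], show idx a b i₁ = b by simp [idx]]
    refine congrArg (ws i₀ a * ·) (congrArg (ws i₁ b * ·) ?_)
    refine Finset.prod_congr rfl fun i hi => ?_
    simp only [Finset.mem_erase] at hi
    simp [idx, hi.1, hi.2.1]
  set C := ∏ i ∈ (Finset.univ.erase i₀).erase i₁, xs i γ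
  have hC : C ≠ 0 := Finset.prod_ne_zero_iff.2 fun i hi => by
    simp only [Finset.mem_erase] at hi
    simpa [xs, hi.1] using hγ
  have hPval : ∀ a b, (P *ᵥ tp xs) (idx a b) = ((D.x *ᵥ D.u) a * D.u₂ b + D.u a * (D.x *ᵥ D.u₂) b) * C := by
    intro a b
    rw [Matrix.add_mulVec, Pi.add_apply, slot_mulVec, slot_mulVec, hsplit, hsplit]
    have e : ∀ (j : Fin t) w, (j = i₀ ∨ j = i₁) → ∏ i ∈ (Finset.univ.erase i₀).erase i₁, Function.update xs j w i γ = C := by
      intro j w hj
      refine Finset.prod_congr rfl fun i hi => ?_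
      simp only [Finset.mem_erase] at hi
      rcases hj with rfl | rfl
      · rw [Function.update_of_ne hi.2.1]
      · rw [Function.update_of_ne hi.1]
    rw [e i₀ _ (Or.inl rfl), e i₁ _ (Or.inr rfl)]
    simp [xs, h01, Ne.symm h01]
    ring
  have key : (P *ᵥ tp xs) (idx α β) * (P *ᵥ tp xs) (idx α' β') =
      (P *ᵥ tp xs) (idx α β') * (P *ᵥ tp xs) (idx α' β) := by
    rw [← hval, hsplit, hsplit, hsplit, hsplit]; ring
  rw [hPval, hPval, hPval, hPval] at key
  refine mul_ne_zero (mul_ne_zero hα hβ) (mul_ne_zero hC hC) ?_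
  linear_combination key + (C ^ 2 * ((D.x *ᵥ D.u) α * D.u α' * (D.x *ᵥ D.u₂) β * D.u₂ β' -
    (D.x *ᵥ D.u) α * D.u α' * (D.x *ᵥ D.u₂) β' * D.u₂ β - (D.x *ᵥ D.u) α' * D.u α * (D.x *ᵥ D.u₂) β * D.u₂ β' +
    (D.x *ᵥ D.u) α' * D.u α * (D.x *ᵥ D.u₂) β' * D.u₂ β)) * h11

include hf hform hc h11 hq0 in
lemma exists_not_in_stabilizer (ht : 2 ≤ t) (hn : 9 ≤ Fintype.card (Fin t → Fin k))
    (hex : ∃ u w : Fin k → F, f u w = 1) :
    ∃ g : GL (Fin t → Fin k) F, g ∈ Cfsg.Geo.omegaGL ⇑q ∧ g ∉ opStabilizer (opSpace D) := by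
  classical
  obtain ⟨a₀, b₀, h01⟩ := hex
  have h10 : f b₀ a₀ = 1 := by rw [hf.skew, h01]; linear_combination -h11
  let i₀ : Fin t := ⟨0, by omega⟩
  let i₁ : Fin t := ⟨1, by omega⟩
  have hi : i₀ ≠ i₁ := by simp [i₀, i₁, Fin.ext_iff]
  let ws : (Fin k → F) → (Fin k → F) → (Fin k → F) → Fin t → Fin k → F :=
    fun p p' p'' j => if j = i₀ then p else if j = i₁ then p' else p''
  set u := tp (ws a₀ a₀ a₀)
  set v := c⁻¹ • tp (ws b₀ b₀ b₀)
  set u' := tp (ws a₀ b₀ a₀)
  set v' := c⁻¹ • tp (ws b₀ a₀ b₀)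
  have hz : ∀ (p p' : Fin t → Fin k → F) (j : Fin t), f (p j) (p' j) = 0 → polar q (tp p) (tp p') = 0 :=
    fun p p' j h => by rw [hform, Finset.prod_eq_zero (Finset.mem_univ j) h, mul_zero]
  have huv : polar q u v = 1 := by
    rw [polar_smul_right, hform, smul_eq_mul, Finset.prod_eq_one, mul_one, inv_mul_cancel₀ hc]
    intro j _
    simp only [ws]; split_ifs <;> exact h01
  have hu'v' : polar q u' v' = 1 := by
    rw [polar_smul_right, hform, smul_eq_mul, Finset.prod_eq_one, mul_one, inv_mul_cancel₀ hc]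
    intro j _
    simp only [ws]; split_ifs <;> assumption
  have hqu : q u = 0 := hq0 _
  have hqu' : q u' = 0 := hq0 _
  have hqv : q v = 0 := by rw [QuadraticMap.map_smul, hq0, smul_zero]
  have hqv' : q v' = 0 := by rw [QuadraticMap.map_smul, hq0, smul_zero]
  have o1 : polar q u u' = 0 := hz _ _ i₀ (by simp [ws, hf.alternating])
  have o2 : polar q u v' = 0 := by
    rw [polar_smul_right, hz _ _ i₁ (by simp [ws, Ne.symm hi, hf.alternating]), smul_zero]
  have o3 : polar q v u' = 0 := by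
    rw [polar_smul_left, hz _ _ i₁ (by simp [ws, Ne.symm hi, hf.alternating]), smul_zero]
  have o4 : polar q v v' = 0 := by
    rw [polar_smul_right, polar_smul_left, hz _ _ i₀ (by simp [ws, hf.alternating]), smul_zero, smul_zero]
  have h2 : (2 : F) = 0 := by linear_combination h11
  have pself : ∀ z, polar q z z = 0 := fun z => by rw [CfsgLib.Orth.polar_self', h2, zero_mul]
  set a := u + v
  set b := u + u' + v'
  have hqa : q a = 1 := by rw [QuadraticMap.map_add ⇑q, hqu, hqv, huv]; ring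
  have hqb : q b = 1 := by
    rw [QuadraticMap.map_add ⇑q, QuadraticMap.map_add ⇑q, polar_add_left, hqu, hqu', hqv', o1, o2, hu'v']; ring
  have hab : polar q a b = 1 := by
    simp only [a, b, polar_add_left, polar_add_right, o1, o2, o3, o4, pself, polar_comm (f := ⇑q) v u, huv]; ring
  set h := CfsgLib.Orth.refl q a * CfsgLib.Orth.refl q b
  have hΩ : (h : GL (Fin t → Fin k) F) ∈ Cfsg.Geo.omegaGL ⇑q := by
    have hqab : q (b + a) = 1 := by
      rw [QuadraticMap.map_add ⇑q, hqa, hqb, polar_comm (f := ⇑q) b a, hab]; linear_combination h11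
    have himg : CfsgLib.Orth.app (CfsgLib.Orth.refl q (b + a)) a = b := by
      rw [CfsgLib.Orth.app_refl, hqab, polar_add_right, hab, pself, inv_one, one_mul, add_zero, one_smul]
      funext z
      simp only [Pi.sub_apply, Pi.add_apply]
      linear_combination -(b z) * h11
    have := TensorTools.commutator_mem_omega (CfsgLib.Orth.refl q a) (CfsgLib.Orth.refl q (b + a))
    rwa [commutatorElement_def, mul_assoc, mul_assoc, CfsgLib.Orth.refl_inv a,
      ← mul_assoc (CfsgLib.Orth.refl q (b + a)), CfsgLib.Orth.refl_conj, himg] at this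
  refine ⟨_, hΩ, fun hM => ?_⟩
  set H : Matrix (Fin t → Fin k) (Fin t → Fin k) F := ((h : GL (Fin t → Fin k) F) : Matrix (Fin t → Fin k) (Fin t → Fin k) F) with hH
  set S : Submodule F ((Fin t → Fin k) → F) := Submodule.span F {a, b}
  have hdiff : ∀ z, H *ᵥ z - z ∈ S := by
    intro z
    show CfsgLib.Orth.app h z - z ∈ S
    rw [CfsgLib.Orth.app_mul, CfsgLib.Orth.app_refl, CfsgLib.Orth.app_refl,
      show ∀ p r : (Fin t → Fin k) → F, z - p - r - z = -(r + p) from fun p r => by abel]
    exact neg_mem (add_mem (Submodule.smul_mem _ _ (Submodule.subset_span (by simp)))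
      (Submodule.smul_mem _ _ (Submodule.subset_span (by simp))))
  have hcomm : ∀ l ∈ opSpace D, H * l = l * H := by
    intro l hl
    set E := H * l * (((h : GL (Fin t → Fin k) F)⁻¹ : GL (Fin t → Fin k) F) : Matrix (Fin t → Fin k) (Fin t → Fin k) F) - l
    have hE : E ∈ opSpace D := sub_mem (hM l hl) hl
    have hEv : ∀ z, E *ᵥ (H *ᵥ z) = (H *ᵥ (l *ᵥ z) - l *ᵥ z) - l *ᵥ (H *ᵥ z - z) := by
      intro z
      rw [Matrix.sub_mulVec, Matrix.mulVec_mulVec (M := H * l * _), mul_assoc, hH, ← Units.val_mul, inv_mul_cancel,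
        Units.val_one, mul_one, ← Matrix.mulVec_mulVec, Matrix.mulVec_sub]
      abel
    set E' := Matrix.mulVecLin E
    set S' : Submodule F ((Fin t → Fin k) → F) := Submodule.span F {a, b, l *ᵥ a, l *ᵥ b}
    have hrange : LinearMap.range E' ≤ S' := by
      rintro _ ⟨z, rfl⟩
      obtain ⟨z, rfl⟩ := (CfsgLib.Orth.app_injective h |> LinearMap.injective_iff_surjective.1) z
      show E *ᵥ (H *ᵥ z) ∈ S'
      rw [hEv]
      refine sub_mem (Submodule.span_mono (by intro x; simp; tauto) (hdiff _)) ?_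
      have := Submodule.mem_map_of_mem (f := Matrix.mulVecLin l) (hdiff z)
      rw [Submodule.map_span] at this
      refine Submodule.span_mono ?_ this
      intro x hx
      simp at hx ⊢
      tauto
    have hS' : Module.finrank F S' ≤ 4 := by
      have h4 := finrank_span_finset_le_card (R := F)
        ({a, b, l *ᵥ a, l *ᵥ b} : Finset ((Fin t → Fin k) → F))
      simp only [Finset.coe_insert, Finset.coe_singleton] at h4
      exact le_trans h4 Finset.card_le_four
    have hr : Module.finrank F (LinearMap.range E') ≤ 4 := (Submodule.finrank_mono hrange).trans hS'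
    have hdim : Module.finrank F ((Fin t → Fin k) → F) = Fintype.card (Fin t → Fin k) := Module.finrank_pi F
    obtain ⟨γ, hγ⟩ := square D h11 hE
    have hzero : E = 0 := by
      by_contra hne
      have hγ0 : γ = 0 := by
        by_contra hγ0
        have : LinearMap.range E' = ⊤ := LinearMap.range_eq_top.2 fun z => ⟨γ⁻¹ • (E *ᵥ z), by
          show E *ᵥ (γ⁻¹ • (E *ᵥ z)) = z
          rw [Matrix.mulVec_smul, Matrix.mulVec_mulVec, hγ, Matrix.smul_mulVec, Matrix.one_mulVec, smul_smul,
            inv_mul_cancel₀ hγ0, one_smul]⟩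
        rw [this, finrank_top, hdim] at hr
        omega
      subst hγ0
      rw [zero_smul] at hγ
      by_cases hcentral : ∀ i, ∀ z ∈ D.L, E * slot i z + slot i z * E = 0
      · have hall := central_of_commute D E fun i z hz => by
          have := hcentral i z hz
          calc E * slot i z = E * slot i z + (slot i z * E + slot i z * E) := by
                rw [add_self_mat h11, add_zero]
            _ = slot i z * E := by rw [← add_assoc, this, zero_add]
        obtain ⟨w, hw⟩ : ∃ w, E *ᵥ w ≠ 0 := by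
          by_contra hh
          push Not at hh
          exact hne (Matrix.ext_of_mulVec_single fun i => by rw [hh, Matrix.zero_mulVec])
        obtain ⟨i, hi'⟩ := Function.ne_iff.1 hw
        have := hall (Matrix.vecMulVec w (Pi.single i 1))
        have hh := congrArg (fun M => M *ᵥ (E *ᵥ w)) this
        simp only [← Matrix.mulVec_mulVec, Matrix.vecMulVec_mulVec, op_smul_eq_smul,
          single_dotProduct, one_mul, Matrix.mulVec_smul] at hh
        rw [show E *ᵥ (E *ᵥ w) = 0 by rw [Matrix.mulVec_mulVec, hγ, Matrix.zero_mulVec], Pi.zero_apply, zero_smul] at hh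
        exact hw ((smul_eq_zero.1 hh).resolve_left hi')
      · push Not at hcentral
        obtain ⟨i, z, hzL, hne'⟩ := hcentral
        obtain ⟨δ, hδ⟩ := anticomm D h11 hE (slot_mem_opSpace D i hzL)
        have hδ0 : δ ≠ 0 := fun h0 => hne' (by rw [hδ, h0, zero_smul])
        have hker : LinearMap.ker E' ≤ LinearMap.range E' := by
          intro w hw
          refine ⟨δ⁻¹ • (slot i z *ᵥ w), ?_⟩
          have hw' : E *ᵥ w = 0 := hw
          have hh := congrArg (fun M => M *ᵥ w) hδ
          simp only [Matrix.add_mulVec, ← Matrix.mulVec_mulVec, hw', Matrix.mulVec_zero, add_zero,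
            Matrix.smul_mulVec, Matrix.one_mulVec] at hh
          show E *ᵥ (δ⁻¹ • (slot i z *ᵥ w)) = w
          rw [Matrix.mulVec_smul, hh, smul_smul, inv_mul_cancel₀ hδ0, one_smul]
        have h1 := LinearMap.finrank_range_add_finrank_ker E'
        have h3 := Submodule.finrank_mono hker
        omega
    have := congrArg (fun M => M * H) hzero
    simp only [zero_mul] at this
    rw [sub_mul, mul_assoc, hH, ← Units.val_mul, inv_mul_cancel, Units.val_one, mul_one, sub_eq_zero] at this
    exact this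
  have hall := central_of_commute D H fun i z hz => hcomm _ (slot_mem_opSpace D i hz)
  -- `H` fixes a non-zero vector and moves `b`
  have hHb : H *ᵥ b = b + a := by
    show CfsgLib.Orth.app h b = _
    rw [CfsgLib.Orth.app_mul, CfsgLib.Orth.app_refl_self (by rw [hqb]; exact one_ne_zero),
      map_neg, CfsgLib.Orth.app_refl, hqa, polar_comm (f := ⇑q) b a, hab, inv_one, one_mul, one_smul]
    funext z
    simp only [Pi.neg_apply, Pi.sub_apply, Pi.add_apply]
    linear_combination -(b z) * h11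
  obtain ⟨w, hw, hw0⟩ : ∃ w ∈ LinearMap.ker ((q.polarBilin.flip a).prod (q.polarBilin.flip b)), w ≠ 0 := by
    refine Submodule.exists_mem_ne_zero_of_ne_bot (LinearMap.ker_ne_bot_of_finrank_lt ?_)
    rw [Module.finrank_prod, Module.finrank_self, Module.finrank_pi]
    omega
  have hwa : polar q w a = 0 := congrArg Prod.fst (LinearMap.mem_ker.1 hw)
  have hwb : polar q w b = 0 := congrArg Prod.snd (LinearMap.mem_ker.1 hw)
  have hHw : H *ᵥ w = w := by
    show CfsgLib.Orth.app h w = w
    rw [CfsgLib.Orth.app_mul, CfsgLib.Orth.app_refl_of_ortho hwb, CfsgLib.Orth.app_refl_of_ortho hwa]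
  obtain ⟨i, hi'⟩ := Function.ne_iff.1 hw0
  have hM' := congrArg (fun M => M *ᵥ w) (hall (Matrix.vecMulVec b (Pi.single i 1)))
  simp only [← Matrix.mulVec_mulVec, hHw, Matrix.vecMulVec_mulVec, op_smul_eq_smul, single_dotProduct, one_mul,
    Matrix.mulVec_smul, hHb, smul_add] at hM'
  have ha0 : a = 0 := (smul_eq_zero.1 (add_eq_left.1 hM')).resolve_left hi'
  rw [ha0, QuadraticMap.map_zero] at hqa
  exact zero_ne_one hqa

end Core

end CfsgLib.Maximal.WreathCharTwo
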